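import Cfsg.Agent.Lib.InvChar.Kazarin
import Cfsg.Agent.Lib.InvChar.SolvableTwo
import Cfsg.Agent.Lib.DGroup.RankOne
import Cfsg.Agent.Lib.Solvable.MinNormal
import Cfsg.Agent.Lib.Characters.Decomp
import Cfsg.Agent.Lib.FTCons.PrimePowerClassTwo
import Cfsg.Agent.S0205

/-!
Finite groups with a prime power number of involutions forming one class: passage to the quotient by
the odd core and the structure when that core is trivial.
-/

set_option autoImplicit false
set_option linter.style.haveILetI false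
set_option linter.unusedSectionVars false

namespace CfsgLib.Pyramidal74

open Subgroup

/-- All involutions are conjugate. -/
def OneClass (G : Type*) [Group G] : Prop :=
  ∀ x y : G, orderOf x = 2 → orderOf y = 2 → ∃ g : G, g * x * g⁻¹ = y

variable {G : Type*} [Group G] [Finite G]

theorem mul_self_of_order_two {x : G} (hx : orderOf x = 2) : x * x = 1 := by
  rw [← pow_two, ← hx, pow_orderOf_eq_one]

theorem order_two_of {x : G} (h1 : x ≠ 1) (h2 : x * x = 1) : orderOf x = 2 := by
  haveI : Fact (Nat.Prime 2) := ⟨Nat.prime_two⟩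
  exact orderOf_eq_prime (by rw [pow_two, h2]) h1

theorem solvable_of_odd {H : Subgroup G} (h : Odd (Nat.card H)) : Group.IsSolvable H :=
  Cfsg.Agent.S0205.result h

theorem exists_involution {H : Subgroup G} (h : ¬ Odd (Nat.card H)) : ∃ x ∈ H, orderOf x = 2 := by
  haveI : Fact (Nat.Prime 2) := ⟨Nat.prime_two⟩
  obtain ⟨x, hx⟩ := exists_prime_orderOf_dvd_card' (G := H) 2
    (even_iff_two_dvd.1 (Nat.not_odd_iff_even.1 h))
  exact ⟨x, x.2, by rwa [orderOf_coe]⟩

theorem exists_involution_of_nonsolvable {H : Subgroup G} (h : ¬ Group.IsSolvable H) :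
    ∃ x ∈ H, orderOf x = 2 :=
  exists_involution fun ho => h (solvable_of_odd ho)

/-- In a nontrivial subgroup of odd order no element is an involution. -/
theorem not_mem_odd {K : Subgroup G} (hK : Odd (Nat.card K)) {x : G} (hx : orderOf x = 2) :
    x ∉ K := fun h => by
  have := orderOf_dvd_natCard (⟨x, h⟩ : K)
  rw [orderOf_mk, hx] at this
  exact (Nat.not_even_iff_odd.2 hK) (even_iff_two_dvd.2 this)

variable (K : Subgroup G) [K.Normal]

theorem orderOf_mk_two (hK : Odd (Nat.card K)) {x : G} (hx : orderOf x = 2) :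
    orderOf (x : G ⧸ K) = 2 := by
  refine order_two_of (fun h => not_mem_odd hK hx ((QuotientGroup.eq_one_iff x).1 h)) ?_
  rw [← QuotientGroup.mk_mul, mul_self_of_order_two hx, QuotientGroup.mk_one]

theorem exists_lift_involution (hK : Odd (Nat.card K)) {z : G ⧸ K} (hz : orderOf z = 2) :
    ∃ x : G, orderOf x = 2 ∧ (x : G ⧸ K) = z := by
  obtain ⟨g, rfl⟩ := QuotientGroup.mk_surjective z
  have hg2 : g * g ∈ K := by
    rw [← QuotientGroup.eq_one_iff, QuotientGroup.mk_mul, mul_self_of_order_two hz]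
  obtain ⟨m, hm⟩ := hK
  have himg : ((g ^ Nat.card K : G) : G ⧸ K) = (g : G ⧸ K) := by
    rw [QuotientGroup.mk_pow, hm, pow_succ, pow_mul, pow_two, mul_self_of_order_two hz, one_pow,
      one_mul]
  refine ⟨g ^ Nat.card K, order_two_of (fun h => ?_) ?_, himg⟩
  · rw [h, QuotientGroup.mk_one] at himg
    rw [← himg, orderOf_one] at hz
    omega
  · rw [← pow_add, ← two_mul, pow_mul, pow_two]
    exact congrArg Subtype.val (pow_card_eq_one' (G := K) (x := ⟨g * g, hg2⟩))

theorem oneClass_quotient (hK : Odd (Nat.card K)) (h : OneClass G) : OneClass (G ⧸ K) := by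
  intro a b ha hb
  obtain ⟨x, hx, rfl⟩ := exists_lift_involution K hK ha
  obtain ⟨y, hy, rfl⟩ := exists_lift_involution K hK hb
  obtain ⟨g, hg⟩ := h x y hx hy
  exact ⟨(g : G ⧸ K), by rw [← QuotientGroup.mk_inv, ← QuotientGroup.mk_mul, ← QuotientGroup.mk_mul, hg]⟩

omit [K.Normal]

theorem card_involutions_eq_index (h : OneClass G) {t : G} (ht : orderOf t = 2) :
    Nat.card {x : G // orderOf x = 2} = (centralizer ({t} : Set G)).index := by
  rw [← CfsgLib.Characters.card_isConj_eq_index]
  refine Nat.card_congr (Equiv.subtypeEquivRight fun x => ⟨fun hx => ?_, fun hx => ?_⟩)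
  · exact isConj_iff.2 (h t x ht hx)
  · obtain ⟨g, rfl⟩ := isConj_iff.1 hx
    rw [← ht]
    exact (orderOf_injective (MulAut.conj g).toMonoidHom (MulAut.conj g).injective t)

theorem card_involutions_quotient_dvd [K.Normal] (hK : Odd (Nat.card K)) (h : OneClass G) {t : G}
    (ht : orderOf t = 2) :
    Nat.card {x : G ⧸ K // orderOf x = 2} ∣ Nat.card {x : G // orderOf x = 2} := by
  rw [card_involutions_eq_index h ht,
    card_involutions_eq_index (oneClass_quotient K hK h) (orderOf_mk_two K hK ht)]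
  have hle : (centralizer ({t} : Set G)).map (QuotientGroup.mk' K) ≤
      centralizer ({(t : G ⧸ K)} : Set (G ⧸ K)) := by
    rintro _ ⟨a, ha, rfl⟩
    rw [mem_centralizer_singleton_iff, QuotientGroup.mk'_apply, ← QuotientGroup.mk_mul,
      ← QuotientGroup.mk_mul, mem_centralizer_singleton_iff.1 ha]
  exact (index_dvd_of_le hle).trans (index_map_dvd _ (QuotientGroup.mk'_surjective K))

theorem two_pow_eq_pow_succ {r j p : ℕ} (hp : Odd p) (hp1 : 1 < p) (hj : 1 ≤ j)
    (h : 2 ^ r = p ^ j + 1) : j = 1 := by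
  rcases Nat.even_or_odd j with ⟨i, rfl⟩ | ⟨i, rfl⟩
  · exfalso
    obtain ⟨m, hm⟩ := hp.pow (n := i)
    rw [pow_add, hm] at h
    have h4 : 2 ^ r = 4 * (m * m + m) + 2 := by rw [h]; ring
    rcases r with _ | _ | r
    · norm_num at h4
    · norm_num at h4
      have : 1 < p ^ i := Nat.one_lt_pow (by omega) hp1
      rcases h4 with rfl
      omega
    · rw [pow_succ, pow_succ] at h4
      omega
  · have hd : p + 1 ∣ p ^ (2 * i + 1) + 1 ^ (2 * i + 1) := Odd.nat_add_dvd_pow_add_pow p 1 ⟨i, rfl⟩
    rw [one_pow, ← h] at hd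
    obtain ⟨s, hs, hsr⟩ := (Nat.dvd_prime_pow Nat.prime_two).1 hd
    by_contra hne
    -- the cofactor is odd
    have key : ∀ n : ℕ, ∃ c : ℕ, (p : ℤ) ^ (2 * n + 1) + 1 = (p + 1) * (2 * c + 1) := by
      intro n
      induction n with
      | zero => exact ⟨0, by ring⟩
      | succ n ih =>
        obtain ⟨c, hc⟩ := ih
        obtain ⟨m, hm⟩ := hp
        have hm' : (p : ℤ) = 2 * m + 1 := by exact_mod_cast hm
        have e : (p : ℤ) ^ (2 * (n + 1) + 1) + 1 =
            (p + 1) * (2 * ((p : ℤ) * p * c + m * p + 0) + 1) := by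
          have : (p : ℤ) ^ (2 * n + 1) = (p + 1) * (2 * c + 1) - 1 := by linarith
          rw [show 2 * (n + 1) + 1 = (2 * n + 1) + 2 by omega, pow_add, this, hm']
          ring
        exact ⟨p * p * c + m * p, by rw [e]; push_cast; ring⟩
    obtain ⟨c, hc⟩ := key i
    have hc' : p ^ (2 * i + 1) + 1 = (p + 1) * (2 * c + 1) := by exact_mod_cast hc
    rw [← h, hsr] at hc'
    have hd2 : 2 * c + 1 ∣ 2 ^ r := ⟨2 ^ s, by rw [hc']; ring⟩
    obtain ⟨u, -, hu⟩ := (Nat.dvd_prime_pow Nat.prime_two).1 hd2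
    rcases u with _ | u
    · rw [hu, pow_zero, mul_one, ← hsr] at hc'
      have : p ^ (2 * i + 1) = p ^ 1 := by rw [pow_one]; omega
      exact hne (Nat.pow_right_injective hp1 this)
    · rw [pow_succ] at hu; omega

/-- With trivial odd core the involutions fill an elementary abelian normal subgroup, whose number of
elements exceeds their number, a prime, by one. -/
theorem structure_of_oddCore_eq_bot {p j : ℕ} (hp : p.Prime) (hp2 : p ≠ 2) (hj : 1 ≤ j)
    (hO : Cfsg.oddCore G = ⊥) (hc : Nat.card {x : G // orderOf x = 2} = p ^ j) (h : OneClass G) :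
    j = 1 ∧ ∃ N : Subgroup G, N.Normal ∧ IsMulCommutative N ∧ (∀ x ∈ N, x * x = 1) ∧
      (∀ x : G, orderOf x = 2 → x ∈ N) ∧ ∃ r, Nat.card N = 2 ^ r ∧ 2 ^ r = p + 1 := by
  classical
  obtain ⟨⟨t, ht⟩⟩ : Nonempty {x : G // orderOf x = 2} :=
    (Nat.card_pos_iff.1 (by rw [hc]; exact pow_pos hp.pos j)).1
  have htR : t ∈ Cfsg.solvableRadical G :=
    CfsgLib.InvChar.mem_solvableRadical_of_class hp t
      (dvd_of_eq (by rw [← card_involutions_eq_index h ht, hc] : _ = p ^ j))
  haveI := CfsgLib.Structure.solvableRadical_normal (G := G)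
  haveI := CfsgLib.Structure.isSolvable_solvableRadical (G := G)
  obtain ⟨N, hN, hNle⟩ := CfsgLib.MinNormal.exists_isMinNormal_le
    (K := Cfsg.solvableRadical G) inferInstance (fun e => by
      rw [e, mem_bot] at htR; rw [htR, orderOf_one] at ht; omega)
  haveI : Group.IsSolvable N :=
    Group.isSolvable_of_isSolvable_injective (Subgroup.inclusion_injective hNle)
  haveI := hN.1
  have hab : IsMulCommutative N := by
    refine (commutator_eq_bot_iff_le_centralizer (H₁ := N) (H₂ := N)).1 ?_ |>
      fun hle => ⟨⟨fun a b => Subtype.ext (mem_centralizer_iff.1 (hle b.2) a a.2)⟩⟩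
    rcases hN.2.2 ⁅N, N⁆ inferInstance (commutator_le_left N N) with hb | hb
    · exact hb
    · exfalso
      have hlt := Group.IsSolvable.commutator_lt_of_ne_bot (G := N) (H := ⊤)
        (fun e => hN.2.1 (by rw [← range_subtype N, MonoidHom.range_eq_map, e, Subgroup.map_bot]))
      refine hlt.ne (Subgroup.map_injective N.subtype_injective ?_)
      rw [map_commutator, ← MonoidHom.range_eq_map, range_subtype, hb]
  obtain ⟨q, hq, hel, hpg, i, hi, hcard⟩ := hN.exists_prime_elementaryAbelian hab
  have hq2 : q = 2 := by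
    by_contra hne
    have hodd : Odd (Nat.card N) := by rw [hcard]; exact (hq.odd_of_ne_two hne).pow
    exact hN.2.1 (le_bot_iff.1 (hO ▸ CfsgLib.DGroup.le_oddCore hN.1 hodd))
  subst hq2
  obtain ⟨z, hzN, hz⟩ := exists_involution (H := N)
    (by rw [hcard, Nat.not_odd_iff_even, even_iff_two_dvd]; exact dvd_pow_self 2 (by omega))
  have hall : ∀ x : G, orderOf x = 2 → x ∈ N := fun x hx => by
    obtain ⟨g, rfl⟩ := h z x hz hx
    exact hN.1.conj_mem z hzN g
  have hsq : ∀ x ∈ N, x * x = 1 := fun x hx => by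
    have := hel.2 x hx
    rwa [pow_two] at this
  have hcount : Nat.card N = p ^ j + 1 := by
    rw [← hc]
    haveI := Fintype.ofFinite G
    rw [Nat.card_eq_fintype_card, Nat.card_eq_fintype_card, Fintype.card_subtype,
      Fintype.card_subtype]
    have : Finset.univ.filter (fun x => x ∈ N) =
        insert 1 (Finset.univ.filter fun x : G => orderOf x = 2) := by
      ext x
      simp only [Finset.mem_filter, Finset.mem_univ, true_and, Finset.mem_insert]
      constructor
      · intro hx
        by_cases h1 : x = 1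
        · exact Or.inl h1
        · exact Or.inr (order_two_of h1 (hsq x hx))
      · rintro (rfl | hx)
        exacts [one_mem N, hall x hx]
    rw [this, Finset.card_insert_of_notMem (by simp)]
  have hj1 := two_pow_eq_pow_succ (hp.odd_of_ne_two hp2) hp.one_lt hj (hcard.symm.trans hcount)
  subst hj1
  exact ⟨rfl, N, hN.1, hab, hsq, hall, i, hcard, by rw [← hcard, hcount, pow_one]⟩

end CfsgLib.Pyramidal74
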