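import Cfsg.Agent.Lib.Pyramidal74.QuadSum

/-!
Groups all of whose squares lie in a central subgroup formed by the involutions, with the automorphisms
transitive on those involutions.
-/

set_option autoImplicit false
set_option linter.style.haveILetI false
set_option linter.unusedSectionVars false

namespace CfsgLib.Pyramidal74

open scoped commutatorElement

variable {R : Type*} [Group R] [Finite R]

/-- The setting. -/
structure Bundle (N : Subgroup R) : Prop where
  central : ∀ n ∈ N, ∀ x : R, n * x = x * n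
  sq_mem : ∀ x : R, x * x ∈ N
  sq_eq_one : ∀ x : R, x * x = 1 ↔ x ∈ N
  trans : ∀ a ∈ N, ∀ b ∈ N, a ≠ 1 → b ≠ 1 → ∃ φ : MulAut R, φ a = b
  one_lt : 1 < Nat.card N

namespace Bundle

variable {N : Subgroup R} (h : Bundle N)
include h

theorem normal : N.Normal := ⟨fun n hn g => by rw [← h.central n hn g, mul_inv_cancel_right]; exact hn⟩

theorem comm_mem (x y : R) : ⁅x, y⁆ ∈ N := by
  rw [commutatorElement_def,
    show x * y * x⁻¹ * y⁻¹ = (x * x) * ((x⁻¹ * y) * (x⁻¹ * y)) * (y * y)⁻¹ by group]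
  exact mul_mem (mul_mem (h.sq_mem _) (h.sq_mem _)) (inv_mem (h.sq_mem _))

theorem sq_mul (x y : R) : (x * y) * (x * y) = (x * x) * (y * y) * ⁅y, x⁆ := by
  rw [mul_assoc (x * x), ← (h.central _ (h.comm_mem y x) (y * y)), commutatorElement_def]
  calc x * y * (x * y) = x * (y * x * y⁻¹ * x⁻¹) * (x * (y * y)) := by group
    _ = (y * x * y⁻¹ * x⁻¹) * x * (x * (y * y)) := by
        have := h.central _ (h.comm_mem y x) x
        rw [commutatorElement_def] at this
        rw [← this]
    _ = (x * x) * (y * x * y⁻¹ * x⁻¹ * (y * y)) := by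
        have := h.central _ (h.comm_mem y x) (x * x)
        rw [commutatorElement_def] at this
        rw [← mul_assoc (x * x), ← this]; group

theorem comm_mul_left (a b x : R) : ⁅a * b, x⁆ = ⁅a, x⁆ * ⁅b, x⁆ := by
  calc ⁅a * b, x⁆ = a * ⁅b, x⁆ * a⁻¹ * ⁅a, x⁆ := by simp only [commutatorElement_def]; group
    _ = ⁅b, x⁆ * ⁅a, x⁆ := by rw [← h.central _ (h.comm_mem b x) a, mul_inv_cancel_right]
    _ = ⁅a, x⁆ * ⁅b, x⁆ := h.central _ (h.comm_mem b x) _

theorem comm_eq_one_of_mem {n : R} (hn : n ∈ N) (x : R) : ⁅n, x⁆ = 1 :=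
  commutatorElement_eq_one_iff_commute.2 (h.central n hn x)

theorem inv_eq {n : R} (hn : n ∈ N) : n⁻¹ = n :=
  inv_eq_of_mul_eq_one_right ((h.sq_eq_one n).2 hn)

theorem sq_mul_mem {x n : R} (hn : n ∈ N) : (x * n) * (x * n) = x * x := by
  rw [h.sq_mul, (h.sq_eq_one n).2 hn, mul_one, h.comm_eq_one_of_mem hn, mul_one]

theorem map_mem {φ : MulAut R} {n : R} (hn : n ∈ N) : φ n ∈ N :=
  (h.sq_eq_one _).1 (by rw [← map_mul, (h.sq_eq_one n).2 hn, map_one])

/-- The number of square roots is constant on the involutions. -/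
theorem fibre_card {a : R} (ha : a ∈ N) (ha1 : a ≠ 1) :
    Nat.card R = Nat.card N + (Nat.card N - 1) * Nat.card {x : R // x * x = a} := by
  classical
  haveI := Fintype.ofFinite R
  have hconst : ∀ b ∈ N, b ≠ 1 → Nat.card {x : R // x * x = b} = Nat.card {x : R // x * x = a} := by
    intro b hb hb1
    obtain ⟨φ, hφ⟩ := h.trans a ha b hb ha1 hb1
    refine (Nat.card_congr (Equiv.subtypeEquiv φ.toEquiv fun x => ?_)).symm
    show x * x = a ↔ φ x * φ x = b
    rw [← map_mul, ← hφ]
    exact φ.injective.eq_iff.symm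
  have hsum : Fintype.card R = ∑ b ∈ Finset.univ.filter (· ∈ N), Fintype.card {x : R // x * x = b} := by
    rw [← Finset.card_univ, Finset.card_eq_sum_card_fiberwise (f := fun x => x * x)
      (t := Finset.univ.filter (· ∈ N)) (fun x _ => by simp [h.sq_mem x])]
    exact Finset.sum_congr rfl fun b _ => (Fintype.card_subtype _).symm
  have h1mem : (1 : R) ∈ Finset.univ.filter (· ∈ N) := by simp
  rw [← Finset.add_sum_erase _ _ h1mem, Finset.sum_congr rfl (g := fun _ => Nat.card {x : R // x * x = a})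
    (fun b hb => by
      obtain ⟨hb1, hb⟩ := Finset.mem_erase.1 hb
      rw [← Nat.card_eq_fintype_card]
      exact hconst b (Finset.mem_filter.1 hb).2 hb1), Finset.sum_const, smul_eq_mul,
    Finset.card_erase_of_mem h1mem, ← Nat.card_eq_fintype_card, ← Nat.card_eq_fintype_card] at hsum
  rw [hsum, Nat.card_congr (Equiv.subtypeEquivRight fun x => h.sq_eq_one x)]
  congr 2
  rw [← Fintype.card_subtype, Nat.card_eq_fintype_card]

open scoped Classical in
/-- The sign attached to a subgroup of index two in `N`. -/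
noncomputable def sign (M : Subgroup R) (hM : M.relIndex N = 2) : QuadSign R where
  val x := if x * x ∈ M then 1 else -1
  val_sq x := by split_ifs <;> simp
  polar_mul u v w := by
    have par : ∀ a ∈ N, ∀ b ∈ N, (a * b ∈ M ↔ (a ∈ M ↔ b ∈ M)) := fun a ha b hb => by
      have := Subgroup.mul_mem_iff_of_index_two (H := M.subgroupOf N) hM (a := ⟨a, ha⟩) (b := ⟨b, hb⟩)
      simpa [Subgroup.mem_subgroupOf] using this
    let ε : R → ℤ := fun a => if a ∈ M then 1 else -1
    have hε : ∀ a ∈ N, ∀ b ∈ N, ε (a * b) = ε a * ε b := fun a ha b hb => by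
      have := par a ha b hb
      by_cases x : a ∈ M <;> by_cases y : b ∈ M <;> simp [ε, x, y, this]
    have hεsq : ∀ a, ε a * ε a = 1 := fun a => by by_cases x : a ∈ M <;> simp [ε, x]
    have hpol : ∀ a b, ε ((a * b) * (a * b)) * ε (a * a) * ε (b * b) = ε ⁅b, a⁆ := fun a b => by
      rw [h.sq_mul, hε _ (mul_mem (h.sq_mem _) (h.sq_mem _)) _ (h.comm_mem _ _),
        hε _ (h.sq_mem _) _ (h.sq_mem _)]
      calc ε (a * a) * ε (b * b) * ε ⁅b, a⁆ * ε (a * a) * ε (b * b)
          = (ε (a * a) * ε (a * a)) * (ε (b * b) * ε (b * b)) * ε ⁅b, a⁆ := by ring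
        _ = ε ⁅b, a⁆ := by rw [hεsq, hεsq, one_mul, one_mul]
    show ε (u * v * w * (u * v * w)) * ε (u * v * (u * v)) * ε (w * w) =
      (ε (u * w * (u * w)) * ε (u * u) * ε (w * w)) * (ε (v * w * (v * w)) * ε (v * v) * ε (w * w))
    rw [hpol, hpol, hpol]
    have e : ⁅w, u * v⁆ = ⁅w, u⁆ * ⁅w, v⁆ := by
      rw [← commutatorElement_inv, h.comm_mul_left, h.inv_eq (mul_mem (h.comm_mem _ _) (h.comm_mem _ _)),
        ← commutatorElement_inv w u, ← commutatorElement_inv w v, h.inv_eq (h.comm_mem _ _),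
        h.inv_eq (h.comm_mem _ _)]
    rw [e, hε _ (h.comm_mem _ _) _ (h.comm_mem _ _)]
  polar_comm u w := by
    have e : (u * w) * (u * w) = (w * u) * (w * u) := by
      rw [h.sq_mul u w, h.sq_mul w u, ← commutatorElement_inv u w, h.inv_eq (h.comm_mem u w),
        h.central _ (h.sq_mem u) (w * w)]
    rw [e]

theorem sign_val_eq_one_iff {M : Subgroup R} (hM : M.relIndex N = 2) (x : R) :
    (h.sign M hM).val x = 1 ↔ x * x ∈ M := by
  classical
  show (if x * x ∈ M then (1 : ℤ) else -1) = 1 ↔ _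
  by_cases hx : x * x ∈ M <;> simp [hx]

theorem le_rad {M : Subgroup R} (hM : M.relIndex N = 2) : N ≤ (h.sign M hM).rad := fun n hn => by
  classical
  rw [QuadSign.mem_rad]
  intro u
  show (if n * u * (n * u) ∈ M then (1 : ℤ) else -1) * (if n * n ∈ M then (1 : ℤ) else -1) *
    (if u * u ∈ M then (1 : ℤ) else -1) = 1
  rw [h.central n hn u, h.sq_mul_mem hn, (h.sq_eq_one n).2 hn, if_pos (one_mem M)]
  split_ifs <;> norm_num

theorem total_eq {M : Subgroup R} (hM : M.relIndex N = 2) (hbig : Nat.card R = Nat.card N ^ 3) :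
    (h.sign M hM).total = -((Nat.card N : ℤ) ^ 2) := by
  classical
  haveI := Fintype.ofFinite R
  obtain ⟨a₀, ha₀, ha₀M⟩ : ∃ a, a ∈ N ∧ a ∉ M := by
    by_contra hc
    push Not at hc
    rw [Subgroup.relIndex_eq_one.2 hc] at hM
    omega
  have ha01 : a₀ ≠ 1 := fun e => ha₀M (e ▸ one_mem M)
  have hfib : ∀ b ∈ N, b ≠ 1 →
      (Nat.card {x : R // x * x = b} : ℤ) = Nat.card N * (Nat.card N + 1) := by
    intro b hb hb1
    have := h.fibre_card hb hb1
    rw [hbig] at this
    obtain ⟨c, hc⟩ : ∃ c, Nat.card N = c + 2 := ⟨Nat.card N - 2, by have := h.one_lt; omega⟩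
    rw [hc, show c + 2 - 1 = c + 1 by omega] at this
    have hint : ((c : ℤ) + 2) ^ 3 = c + 2 + (c + 1) * Nat.card {x : R // x * x = b} := by exact_mod_cast this
    rw [hc]; push_cast
    refine mul_left_cancel₀ (show ((c : ℤ) + 1) ≠ 0 by omega) ?_
    linear_combination -hint
  let ε : R → ℤ := fun a => if a ∈ M then 1 else -1
  have hzero : ∑ b ∈ Finset.univ.filter (· ∈ N), ε b = 0 := by
    have key : ∑ b ∈ Finset.univ.filter (· ∈ N), ε (a₀ * b) = ∑ b ∈ Finset.univ.filter (· ∈ N), ε b := by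
      refine Finset.sum_bij' (fun u _ => a₀ * u) (fun u _ => a₀⁻¹ * u) ?_ ?_ ?_ ?_ ?_
      · intro u hu
        simp only [Finset.mem_filter, Finset.mem_univ, true_and] at hu ⊢
        exact mul_mem ha₀ hu
      · intro u hu
        simp only [Finset.mem_filter, Finset.mem_univ, true_and] at hu ⊢
        exact mul_mem (inv_mem ha₀) hu
      · intro u _; group
      · intro u _; group
      · intro u _; rfl
    have h2 : ∀ b ∈ Finset.univ.filter (· ∈ N), ε (a₀ * b) = -ε b := fun b hb => by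
      have := Subgroup.mul_mem_iff_of_index_two (H := M.subgroupOf N) hM (a := ⟨a₀, ha₀⟩)
        (b := ⟨b, (Finset.mem_filter.1 hb).2⟩)
      simp [Subgroup.mem_subgroupOf, ha₀M] at this
      by_cases y : b ∈ M <;> simp [ε, y, this]
    rw [Finset.sum_congr rfl h2, Finset.sum_neg_distrib] at key
    omega
  rw [QuadSign.total, finsum_eq_sum_of_fintype]
  change ∑ x, ε (x * x) = _
  rw [← Finset.sum_fiberwise_of_maps_to (g := fun x : R => x * x) (t := Finset.univ.filter (· ∈ N))
    (fun x _ => by simp [h.sq_mem x]) (fun x => ε (x * x))]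
  have hterm : ∀ b ∈ Finset.univ.filter (· ∈ N), ∑ x ∈ Finset.univ.filter (fun x : R => x * x = b),
      ε (x * x) = (Nat.card {x : R // x * x = b} : ℤ) * ε b := fun b _ => by
    rw [Finset.sum_congr rfl (fun x hx => congrArg ε (Finset.mem_filter.1 hx).2), Finset.sum_const,
      Nat.card_eq_fintype_card, Fintype.card_subtype]
    simp
  have h1mem : (1 : R) ∈ Finset.univ.filter (· ∈ N) := by simp
  rw [Finset.sum_congr rfl hterm, ← Finset.add_sum_erase _ _ h1mem,
    Finset.sum_congr rfl (g := fun b => ((Nat.card N : ℤ) * (Nat.card N + 1)) * ε b) (fun b hb => by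
      obtain ⟨hb1, hb⟩ := Finset.mem_erase.1 hb
      rw [hfib b (Finset.mem_filter.1 hb).2 hb1]), ← Finset.mul_sum]
  have herase : ∑ b ∈ (Finset.univ.filter (· ∈ N)).erase 1, ε b = -1 := by
    rw [← Finset.add_sum_erase _ _ h1mem, show ε 1 = 1 from if_pos (one_mem M)] at hzero
    omega
  rw [herase, Nat.card_congr (Equiv.subtypeEquivRight fun x => h.sq_eq_one x), show ε 1 = 1 from if_pos (one_mem M)]
  ring

theorem rad_eq {M : Subgroup R} (hM : M.relIndex N = 2) (hbig : Nat.card R = Nat.card N ^ 3) :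
    (h.sign M hM).rad = N := by
  have hne : (h.sign M hM).total ≠ 0 := by
    rw [h.total_eq hM hbig]
    have : (Nat.card N : ℤ) ≠ 0 := by exact_mod_cast Nat.card_pos.ne'
    exact neg_ne_zero.2 (pow_ne_zero _ this)
  have hsq := QuadSign.total_sq _ hne
  rw [h.total_eq hM hbig, hbig] at hsq
  push_cast at hsq
  refine (Subgroup.eq_of_le_of_card_ge (h.le_rad hM) (le_of_eq ?_)).symm
  have h3 : ((Nat.card N : ℤ)) ^ 3 ≠ 0 := pow_ne_zero _ (by exact_mod_cast Nat.card_pos.ne')
  have : (Nat.card (h.sign M hM).rad : ℤ) = Nat.card N := mul_left_cancel₀ h3 (by rw [← hsq]; ring)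
  exact_mod_cast this

omit h in
/-- A proper subgroup of an elementary abelian 2-group lies in a subgroup of index two. -/
theorem exists_index_two {A : Subgroup R} (h2 : ∀ n ∈ N, n * n = 1) (hA : A ≤ N) (hne : A ≠ N) :
    ∃ M, A ≤ M ∧ M.relIndex N = 2 := by
  classical
  obtain ⟨M₀, hM₀, hmax⟩ := ({B : Subgroup N | A.subgroupOf N ≤ B ∧ B ≠ ⊤}).toFinite.exists_maximal
    ⟨_, le_rfl, fun e => hne (le_antisymm hA (Subgroup.subgroupOf_eq_top.1 e))⟩
  obtain ⟨n, hn⟩ : ∃ n : N, n ∉ M₀ := by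
    by_contra hc
    push Not at hc
    exact hM₀.2 (eq_top_iff.2 fun x _ => hc x)
  have h2' : ∀ x : N, x * x = 1 := fun x => Subtype.ext (h2 x x.2)
  have hcomm : ∀ x y : N, x * y = y * x := fun x y => by
    calc x * y = (y * y) * (x * y) * (x * x) := by rw [h2', h2', one_mul, mul_one]
      _ = y * ((y * x) * (y * x)) * x := by group
      _ = y * x := by rw [h2', mul_one]
  -- adding `n` gives everything
  let B : Subgroup N :=
    { carrier := {x | x ∈ M₀ ∨ x * n ∈ M₀}
      one_mem' := Or.inl (one_mem _)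
      mul_mem' := fun {a b} ha hb => by
        rcases ha with ha | ha <;> rcases hb with hb | hb
        · exact Or.inl (mul_mem ha hb)
        · exact Or.inr (by rw [mul_assoc]; exact mul_mem ha hb)
        · exact Or.inr (by rw [mul_assoc, hcomm b n, ← mul_assoc]; exact mul_mem ha hb)
        · refine Or.inl ?_
          have : a * b = (a * n) * (b * n) := by
            rw [hcomm b n, mul_assoc, ← mul_assoc n, h2', one_mul]
          rw [this]; exact mul_mem ha hb
      inv_mem' := fun {a} ha => by rwa [inv_eq_of_mul_eq_one_right (h2' a)] }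
  have hB : B = ⊤ := by
    by_contra hBne
    exact hn (hmax ⟨hM₀.1.trans fun x hx => Or.inl hx, hBne⟩ (fun x hx => Or.inl hx)
      (Or.inr (by rw [h2']; exact one_mem _) : n ∈ B))
  refine ⟨M₀.map N.subtype, fun a ha => ⟨⟨a, hA ha⟩, hM₀.1 ha, rfl⟩, ?_⟩
  rw [Subgroup.relIndex, show (M₀.map N.subtype).subgroupOf N = M₀ from
    Subgroup.comap_map_eq_self_of_injective N.subtype_injective M₀, Subgroup.index_eq_two_iff]
  refine ⟨n, fun b => ?_⟩
  have hb : b ∈ B := hB ▸ Subgroup.mem_top b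
  rcases hb with hb | hb
  · exact Or.inr ⟨hb, fun hbn => hn (by
      have := mul_mem (inv_mem hb) hbn; rwa [inv_mul_cancel_left] at this)⟩
  · exact Or.inl ⟨hb, fun hb' => hn (by
      have := mul_mem (inv_mem hb') hb; rwa [inv_mul_cancel_left] at this)⟩

/-- The commutator map of an element outside `N` is onto. -/
theorem comm_surjective (hbig : Nat.card R = Nat.card N ^ 3) {x : R} (hx : x ∉ N) {a : R}
    (ha : a ∈ N) : ∃ u : R, ⁅u, x⁆ = a := by
  classical
  let A : Subgroup R :=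
    { carrier := {a | ∃ u : R, ⁅u, x⁆ = a}
      one_mem' := ⟨1, commutatorElement_one_left x⟩
      mul_mem' := fun {a b} ⟨u, hu⟩ ⟨v, hv⟩ => ⟨u * v, by rw [h.comm_mul_left, hu, hv]⟩
      inv_mem' := fun {a} ⟨u, hu⟩ => ⟨u, by
        rw [hu]; exact (h.inv_eq (hu ▸ h.comm_mem u x)).symm⟩ }
  show a ∈ A
  by_contra hne
  have hAN : A ≤ N := fun b ⟨u, hu⟩ => hu ▸ h.comm_mem u x
  obtain ⟨M, hAM, hM⟩ := exists_index_two (fun n hn => (h.sq_eq_one n).2 hn) hAN
    (fun e => hne (e ▸ ha))
  refine hx ?_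
  rw [← h.rad_eq hM hbig, QuadSign.mem_rad]
  intro u
  show (if x * u * (x * u) ∈ M then (1 : ℤ) else -1) * (if x * x ∈ M then (1 : ℤ) else -1) *
    (if u * u ∈ M then (1 : ℤ) else -1) = 1
  have hc : ⁅u, x⁆ ∈ M := hAM ⟨u, rfl⟩
  have hpar := Subgroup.mul_mem_iff_of_index_two (H := M.subgroupOf N) hM (a := ⟨x * x, h.sq_mem x⟩)
    (b := ⟨u * u, h.sq_mem u⟩)
  simp only [Subgroup.mem_subgroupOf, MulMemClass.mk_mul_mk] at hpar
  rw [h.sq_mul, Subgroup.mul_mem_cancel_right M hc]
  by_cases p : x * x ∈ M <;> by_cases q : u * u ∈ M <;> simp [p, q, hpar]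

/-- In the smaller case squaring is injective modulo `N`. -/
theorem sq_injective (hsmall : Nat.card R = Nat.card N ^ 2) {x y : R} (e : x * x = y * y) :
    x⁻¹ * y ∈ N := by
  by_cases hx1 : x * x = 1
  · have hy1 : y * y = 1 := e ▸ hx1
    exact mul_mem (inv_mem ((h.sq_eq_one x).1 hx1)) ((h.sq_eq_one y).1 hy1)
  have hc := h.fibre_card (h.sq_mem x) hx1
  have hφ : Nat.card {z : R // z * z = x * x} = Nat.card N := by
    obtain ⟨c, hc'⟩ : ∃ c, Nat.card N = c + 2 := ⟨Nat.card N - 2, by have := h.one_lt; omega⟩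
    rw [hsmall, hc', show c + 2 - 1 = c + 1 by omega] at hc
    rw [hc']
    refine Nat.eq_of_mul_eq_mul_left (Nat.succ_pos c) ?_
    show (c + 1) * _ = (c + 1) * _
    rw [pow_two] at hc
    have : (c + 2) * (c + 2) = c + 2 + (c + 1) * (c + 2) := by ring
    omega
  let f : N → {z : R // z * z = x * x} := fun n => ⟨x * n, h.sq_mul_mem n.2⟩
  have hinj : Function.Injective f := fun a b hab =>
    Subtype.ext (mul_left_cancel (congrArg Subtype.val hab))
  obtain ⟨n, hn⟩ := ((Nat.bijective_iff_injective_and_card f).2 ⟨hinj, hφ.symm⟩).2 ⟨y, e.symm⟩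
  rw [show y = x * n from (congrArg Subtype.val hn).symm, inv_mul_cancel_left]
  exact n.2

/-- The homomorphism to the quotient measuring the movement by an automorphism. -/
noncomputable def move (h : Bundle N) [N.Normal] (k : MulAut R) : R →* R ⧸ N :=
  { toFun := fun u => ((k u * u⁻¹ : R) : R ⧸ N)
    map_one' := by simp
    map_mul' := fun a b => by
      rw [← QuotientGroup.mk_mul, QuotientGroup.eq, map_mul]
      have e : (k a * k b * (a * b)⁻¹)⁻¹ * (k a * a⁻¹ * (k b * b⁻¹)) =
          a * ⁅(k b * b⁻¹)⁻¹, a⁻¹⁆ * a⁻¹ := by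
        rw [commutatorElement_def]; group
      rw [e]
      exact (h.normal).conj_mem _ (h.comm_mem _ _) a }

theorem mem_ker_move [N.Normal] {k : MulAut R} {u : R} : u ∈ (h.move k).ker ↔ k u * u⁻¹ ∈ N := by
  exact QuotientGroup.eq_one_iff _

/-- The preimage of the range of `move`. -/
noncomputable def moved (h : Bundle N) [N.Normal] (k : MulAut R) : Subgroup R :=
  (h.move k).range.comap (QuotientGroup.mk' N)

theorem mem_moved [N.Normal] {k : MulAut R} {y : R} :
    y ∈ h.moved k ↔ ∃ u, (k u * u⁻¹)⁻¹ * y ∈ N := by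
  constructor
  · rintro ⟨u, hu⟩
    exact ⟨u, QuotientGroup.eq.1 hu⟩
  · rintro ⟨u, hu⟩
    exact ⟨u, QuotientGroup.eq.2 hu⟩

theorem le_moved [N.Normal] (k : MulAut R) : N ≤ h.moved k := fun n hn =>
  h.mem_moved.2 ⟨1, by simpa using hn⟩

theorem card_ker_mul_card_moved [N.Normal] (k : MulAut R) :
    Nat.card (h.move k).ker * Nat.card (h.moved k) = Nat.card R * Nat.card N := by
  have hpre : Nat.card (h.moved k) = Nat.card N * Nat.card (h.move k).range := by
    refine Nat.eq_of_mul_eq_mul_right (Nat.pos_of_ne_zero (Subgroup.index_ne_zero_of_finite (H := h.moved k))) ?_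
    rw [Subgroup.card_mul_index]
    have hi : (h.moved k).index = (h.move k).range.index :=
      Subgroup.index_comap_of_surjective _ (QuotientGroup.mk'_surjective N)
    rw [hi, mul_assoc, Subgroup.card_mul_index, ← Subgroup.index_eq_card, Subgroup.card_mul_index]
  rw [hpre, ← Subgroup.card_mul_index (h.move k).ker, Subgroup.index_ker]
  ring

theorem comm_left_congr {a b : R} (hab : a * b⁻¹ ∈ N) (z : R) : ⁅a, z⁆ = ⁅b, z⁆ := by
  rw [show a = (a * b⁻¹) * b by group, h.comm_mul_left, h.comm_eq_one_of_mem hab, one_mul]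

/-- An automorphism of odd order fixing `N` pointwise that fixes a non-trivial coset fixes all. -/
theorem move_trivial (hcard : Nat.card R = Nat.card N ^ 2 ∨ Nat.card R = Nat.card N ^ 3)
    (k : MulAut R) {m : ℕ} (hm : Odd m) (hk : k ^ m = 1) (hfix : ∀ n ∈ N, k n = n) {x : R}
    (hx : x ∉ N) (hxk : k x * x⁻¹ ∈ N) (u : R) : k u * u⁻¹ ∈ N := by
  haveI := h.normal
  rcases hcard with hs | hb
  · have e : u * u = k u * k u := by rw [← map_mul, hfix _ (h.sq_mem u)]
    have := h.normal.conj_mem _ (h.sq_injective hs e) u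
    rwa [← mul_assoc, mul_inv_cancel, one_mul] at this
  by_contra hu
  have hyM : ∀ {y c : R}, y ∈ h.moved k → k c * c⁻¹ ∈ N → ⁅c, y⁆ = 1 := by
    intro y c hy hc
    obtain ⟨v, hv⟩ := h.mem_moved.1 hy
    have e1 : ⁅c, y⁆ = ⁅c, k v * v⁻¹⁆ := by
      rw [← commutatorElement_inv y c, ← commutatorElement_inv (k v * v⁻¹) c]
      congr 1
      refine h.comm_left_congr ?_ c
      have := h.normal.conj_mem _ hv (k v * v⁻¹)
      rwa [← mul_assoc, mul_inv_cancel, one_mul] at this
    have e2 : ⁅k v * v⁻¹, c⁆ = 1 := by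
      rw [h.comm_mul_left]
      have e3 : ⁅k v, c⁆ = ⁅v, c⁆ := by
        have e4 : ⁅k v, k c⁆ = ⁅v, c⁆ := by
          rw [← map_commutatorElement]; exact hfix _ (h.comm_mem v c)
        rw [← e4, ← commutatorElement_inv c, ← commutatorElement_inv (k c)]
        congr 1
        refine h.comm_left_congr ?_ (k v)
        have := inv_mem hc
        rwa [mul_inv_rev, inv_inv] at this
      rw [e3, ← h.comm_mul_left, mul_inv_cancel, commutatorElement_one_left]
    rw [e1, ← commutatorElement_inv, e2, inv_one]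
  -- orders
  have hker : ∀ {y : R}, y ∉ N →
      ∀ (S : Subgroup R), (∀ s ∈ S, ⁅s, y⁆ = 1) → Nat.card S ≤ Nat.card N ^ 2 := by
    intro y hy S hS
    let φ : R →* R :=
      { toFun := fun v => ⁅v, y⁆
        map_one' := commutatorElement_one_left y
        map_mul' := fun a b => h.comm_mul_left a b y }
    have hrange : φ.range = N := le_antisymm (by rintro _ ⟨v, rfl⟩; exact h.comm_mem v y)
      fun a ha => h.comm_surjective hb hy ha
    have hle : S ≤ φ.ker := fun s hs => hS s hs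
    refine (Subgroup.card_le_of_le hle).trans (le_of_eq ?_)
    have := Subgroup.card_mul_index φ.ker
    rw [Subgroup.index_ker, hrange, hb, pow_succ] at this
    exact Nat.eq_of_mul_eq_mul_right Nat.card_pos this
  obtain ⟨y, hy, hyN⟩ : ∃ y ∈ h.moved k, y ∉ N :=
    ⟨k u * u⁻¹, h.mem_moved.2 ⟨u, by rw [inv_mul_cancel]; exact one_mem N⟩, hu⟩
  have h1 : Nat.card (h.move k).ker ≤ Nat.card N ^ 2 :=
    hker hyN _ fun c hc => hyM hy (h.mem_ker_move.1 hc)
  have hx' : ∀ z ∈ h.moved k, ⁅z, x⁆ = 1 := fun z hz => by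
    rw [← commutatorElement_inv, hyM hz hxk, inv_one]
  have h2 : Nat.card (h.moved k) ≤ Nat.card N ^ 2 := hker hx _ hx'
  have hprod := h.card_ker_mul_card_moved k
  rw [hb] at hprod
  -- `moved` is the whole centraliser of `x`
  have hxmoved : x ∈ h.moved k := by
    let φ : R →* R :=
      { toFun := fun v => ⁅v, x⁆
        map_one' := commutatorElement_one_left x
        map_mul' := fun a b => h.comm_mul_left a b x }
    have hrange : φ.range = N := le_antisymm (by rintro _ ⟨v, rfl⟩; exact h.comm_mem v x)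
      fun a ha => h.comm_surjective hb hx ha
    have hkerφ : Nat.card φ.ker = Nat.card N ^ 2 := by
      have := Subgroup.card_mul_index φ.ker
      rw [Subgroup.index_ker, hrange, hb, pow_succ] at this
      exact Nat.eq_of_mul_eq_mul_right Nat.card_pos this
    have hge : Nat.card φ.ker ≤ Nat.card (h.moved k) := by
      rw [hkerφ]
      by_contra hlt
      have h5 : Nat.card (h.move k).ker * Nat.card (h.moved k) < Nat.card N ^ 2 * Nat.card N ^ 2 :=
        lt_of_le_of_lt (Nat.mul_le_mul_right _ h1)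
          (Nat.mul_lt_mul_of_pos_left (by omega) (pow_pos Nat.card_pos 2))
      rw [hprod] at h5
      ring_nf at h5
      omega
    have heq : h.moved k = φ.ker := Subgroup.eq_of_le_of_card_ge (fun z hz => hx' z hz) hge
    rw [heq]
    exact commutatorElement_self x
  obtain ⟨v, hv⟩ := h.mem_moved.1 hxmoved
  -- iterate
  have e1 : ((k v : R) : R ⧸ N) = (x : R ⧸ N) * (v : R ⧸ N) := by
    have : ((k v * v⁻¹ : R) : R ⧸ N) = (x : R ⧸ N) := QuotientGroup.eq.2 hv
    rw [← this, ← QuotientGroup.mk_mul, inv_mul_cancel_right]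
  have hkN : ∀ {a b : R}, (a : R ⧸ N) = (b : R ⧸ N) → ((k a : R) : R ⧸ N) = ((k b : R) : R ⧸ N) := by
    intro a b hab
    rw [QuotientGroup.eq] at hab ⊢
    rw [← map_inv, ← map_mul]
    exact h.map_mem hab
  have hkx : ((k x : R) : R ⧸ N) = (x : R ⧸ N) := by
    refine (QuotientGroup.eq.2 ?_).symm
    have := h.normal.conj_mem _ hxk x⁻¹
    rw [inv_inv] at this
    simpa [mul_assoc] using this
  have hiter : ∀ i : ℕ, (((k ^ i) v : R) : R ⧸ N) = (x : R ⧸ N) ^ i * (v : R ⧸ N) := by
    intro i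
    induction i with
    | zero => simp
    | succ i ih =>
      rw [pow_succ', MulAut.mul_apply, hkN (b := x ^ i * v) (by rw [ih]; simp), map_mul, map_pow,
        QuotientGroup.mk_mul, QuotientGroup.mk_pow, hkx, e1, ← mul_assoc, ← pow_succ]
  have hm' := hiter m
  rw [hk, MulAut.one_apply, eq_comm, mul_eq_right] at hm'
  refine hx ((QuotientGroup.eq_one_iff x).1 ?_)
  obtain ⟨j, rfl⟩ := hm
  have hsq : (x : R ⧸ N) ^ 2 = 1 := by
    rw [pow_two, ← QuotientGroup.mk_mul]; exact (QuotientGroup.eq_one_iff _).2 (h.sq_mem x)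
  rwa [pow_succ, pow_mul, hsq, one_pow, one_mul] at hm'

/-- In the large case no automorphism of order two modulo `N` moves `N`. -/
theorem false_of_big (hbig : Nat.card R = Nat.card N ^ 3) (k : MulAut R)
    (hk2 : ∀ u, (k (k u)) * u⁻¹ ∈ N) {n₀ : R} (hn₀ : n₀ ∈ N) (hne : k n₀ ≠ n₀) : False := by
  haveI := h.normal
  let A : Subgroup R :=
    { carrier := {n | n ∈ N ∧ k n = n}
      one_mem' := ⟨one_mem N, map_one k⟩
      mul_mem' := fun {a b} ha hb => ⟨mul_mem ha.1 hb.1, by rw [map_mul, ha.2, hb.2]⟩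
      inv_mem' := fun {a} ha => ⟨inv_mem ha.1, by rw [map_inv, ha.2]⟩ }
  obtain ⟨M, hAM, hM⟩ := exists_index_two (N := N) (A := A) (fun n hn => (h.sq_eq_one n).2 hn)
    (fun n hn => hn.1) (fun e => hne (e.ge hn₀).2)
  set U := (h.move k).ker
  have hU : ∀ u ∈ U, (h.sign M hM).val u = 1 := fun u hu => by
    rw [h.sign_val_eq_one_iff]
    refine hAM ⟨h.sq_mem u, ?_⟩
    have hn := h.mem_ker_move.1 hu
    rw [map_mul, show k u = k u * u⁻¹ * u by group, h.central _ hn u, h.sq_mul_mem hn]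
  refine QuadSign.false_of_singular _ U hU ?_ ?_ ?_
  · rw [h.rad_eq hM hbig]
    intro n hn
    exact h.mem_ker_move.2 (mul_mem (h.map_mem hn) (inv_mem hn))
  · rw [h.total_eq hM hbig]
    have : (0 : ℤ) < (Nat.card N : ℤ) ^ 2 := pow_pos (by exact_mod_cast Nat.card_pos) 2
    omega
  · rw [h.rad_eq hM hbig, ← h.card_ker_mul_card_moved k]
    refine Nat.mul_le_mul_left _ (Subgroup.card_le_of_le fun y hy => ?_)
    obtain ⟨u, hu⟩ := h.mem_moved.1 hy
    -- `k u * u⁻¹` is fixed modulo `N`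
    have hz : k u * u⁻¹ ∈ U := by
      rw [h.mem_ker_move, map_mul, map_inv, mul_inv_rev, inv_inv,
        show k (k u) * (k u)⁻¹ * (u * (k u)⁻¹) =
          (k (k u) * u⁻¹) * ((u * (k u)⁻¹) * (u * (k u)⁻¹)) by group]
      exact mul_mem (hk2 u) (h.sq_mem _)
    have hn : (k u * u⁻¹)⁻¹ * y ∈ U := h.mem_ker_move.2 (mul_mem (h.map_mem hu) (inv_mem hu))
    have := mul_mem hz hn
    rwa [mul_inv_cancel_left] at this

/-- In the small case, if the automorphisms fixing two involutions fix no other involution outside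
their span, the group is abelian. -/
theorem commute_of_small (hsmall : Nat.card R = Nat.card N ^ 2)
    (hstab : ∀ a ∈ N, ∀ b ∈ N, a ≠ 1 → b ≠ 1 → a ≠ b → ∀ c ∈ N, c ≠ 1 → c ≠ a → c ≠ b → c ≠ a * b →
      ∃ φ : MulAut R, φ a = a ∧ φ b = b ∧ φ c ≠ c) (x y : R) : x * y = y * x := by
  haveI := h.normal
  by_cases hx : x ∈ N
  · exact h.central x hx y
  by_cases hy : y ∈ N
  · exact (h.central y hy x).symm
  by_cases hab : x * x = y * y
  · obtain ⟨n, hn, rfl⟩ : ∃ n ∈ N, y = x * n :=
      ⟨x⁻¹ * y, h.sq_injective hsmall hab, by group⟩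
    rw [mul_assoc, ← h.central n hn x]
  have ha1 : x * x ≠ 1 := fun e => hx ((h.sq_eq_one x).1 e)
  have hb1 : y * y ≠ 1 := fun e => hy ((h.sq_eq_one y).1 e)
  have key : x * y * (x * y) = x * x * (y * y) := by
    by_contra hne
    have hc1 : x * y * (x * y) ≠ 1 := fun e => by
      have hn := (h.sq_eq_one _).1 e
      apply hab
      have hxy : y = x⁻¹ * (x * y) := by group
      conv_rhs => rw [hxy]
      rw [h.sq_mul_mem hn]
      have hsq : x * x = (x * x)⁻¹ := (h.inv_eq (h.sq_mem x)).symm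
      rw [← mul_inv_rev]; exact hsq
    have hca : x * y * (x * y) ≠ x * x := fun e => hy (by
      have := h.sq_injective hsmall e.symm
      rwa [inv_mul_cancel_left] at this)
    have hcb : x * y * (x * y) ≠ y * y := fun e => hx (by
      have := h.normal.conj_mem _ (h.sq_injective hsmall e.symm) y
      simpa [mul_assoc] using this)
    obtain ⟨φ, hφa, hφb, hφc⟩ := hstab _ (h.sq_mem x) _ (h.sq_mem y) ha1 hb1 hab _ (h.sq_mem _)
      hc1 hca hcb hne
    have e1 : x⁻¹ * φ x ∈ N := h.sq_injective hsmall (by rw [← map_mul]; exact hφa.symm)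
    have e2 : y⁻¹ * φ y ∈ N := h.sq_injective hsmall (by rw [← map_mul]; exact hφb.symm)
    apply hφc
    rw [map_mul φ (x * y) (x * y), map_mul φ x y, show φ x = x * (x⁻¹ * φ x) by group,
      show φ y = y * (y⁻¹ * φ y) by group]
    rw [show x * (x⁻¹ * φ x) * (y * (y⁻¹ * φ y)) = x * ((x⁻¹ * φ x) * y) * (y⁻¹ * φ y) by group,
      h.central _ e1 y,
      show x * (y * (x⁻¹ * φ x)) * (y⁻¹ * φ y) = (x * y) * ((x⁻¹ * φ x) * (y⁻¹ * φ y)) by group]
    exact h.sq_mul_mem (mul_mem e1 e2)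
  rw [h.sq_mul, mul_eq_left, commutatorElement_eq_one_iff_commute] at key
  exact key.symm.eq

end Bundle

end CfsgLib.Pyramidal74
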