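import Mathlib

/-!
Degree of a function on an elementary abelian 2-group with values modulo two, and the vanishing of the
total of a function of small degree (Chevalley and Warning over the field with two elements).
-/

set_option autoImplicit false

namespace CfsgLib.Pyramidal74

variable {V : Type*} [CommGroup V]

/-- The function has degree at most `k`. -/
def Deg : ℕ → (V → ZMod 2) → Prop
  | 0, f => ∀ a v : V, f (v * a) = f v
  | k + 1, f => ∀ a : V, Deg k fun v => f (v * a) + f v

theorem zmod_two_add_self (x : ZMod 2) : x + x = 0 := CharTwo.add_self_eq_zero x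

theorem deg_zero (k : ℕ) : Deg k (fun _ : V => (0 : ZMod 2)) := by
  induction k with
  | zero => exact fun _ _ => rfl
  | succ k ih => exact fun a => by simpa using ih

theorem deg_succ {k : ℕ} : ∀ {f : V → ZMod 2}, Deg k f → Deg (k + 1) f := by
  induction k with
  | zero =>
    intro f hf a
    show ∀ b v : V, f (v * b * a) + f (v * b) = f (v * a) + f v
    intro b v
    rw [hf a (v * b), hf a v, zmod_two_add_self, zmod_two_add_self]
  | succ k ih => exact fun hf a => ih (hf a)

theorem deg_mono {k m : ℕ} (hkm : k ≤ m) {f : V → ZMod 2} (hf : Deg k f) : Deg m f := by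
  induction hkm with
  | refl => exact hf
  | step _ ih => exact deg_succ ih

theorem deg_add {k : ℕ} : ∀ {f g : V → ZMod 2}, Deg k f → Deg k g → Deg k fun v => f v + g v := by
  induction k with
  | zero =>
    intro f g hf hg a v
    show f (v * a) + g (v * a) = f v + g v
    rw [hf a v, hg a v]
  | succ k ih =>
    intro f g hf hg a
    have := ih (hf a) (hg a)
    convert this using 2 with v
    ring

theorem deg_shift {k : ℕ} : ∀ {f : V → ZMod 2}, Deg k f → ∀ b, Deg k fun v => f (v * b) := by
  induction k with
  | zero =>
    intro f hf b a v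
    show f (v * a * b) = f (v * b)
    rw [hf b (v * a), hf b v, hf a v]
  | succ k ih =>
    intro f hf b a
    have := ih (hf a) b
    simpa [mul_right_comm] using this

theorem deg_mul : ∀ (n i j : ℕ), i + j = n → ∀ {f g : V → ZMod 2}, Deg i f → Deg j g →
    Deg n fun v => f v * g v := by
  intro n
  induction n using Nat.strong_induction_on with
  | _ n ih =>
    intro i j hn f g hf hg
    subst hn
    match i, j with
    | 0, j =>
      have hc : ∀ v, f v = f 1 := fun v => by simpa using hf v 1
      rcases (by decide : ∀ c : ZMod 2, c = 0 ∨ c = 1) (f 1) with h | h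
      · simpa [hc, h] using deg_zero (V := V) (0 + j)
      · simpa [hc, h] using hg
    | i + 1, 0 =>
      have hc : ∀ v, g v = g 1 := fun v => by simpa using hg v 1
      rcases (by decide : ∀ c : ZMod 2, c = 0 ∨ c = 1) (g 1) with h | h
      · simpa [hc, h] using deg_zero (V := V) (i + 1)
      · simpa [hc, h] using hf
    | i + 1, j + 1 =>
      show Deg (i + 1 + j + 1) _
      intro a
      have h1 := ih (i + (j + 1)) (by omega) i (j + 1) rfl (hf a) (deg_shift hg a)
      have h2 := ih (i + 1 + j) (by omega) (i + 1) j rfl hf (hg a)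
      have h3 := deg_add (deg_mono (le_of_eq (by omega) : i + (j + 1) ≤ i + 1 + j) h1) h2
      convert h3 using 2 with v
      calc f (v * a) * g (v * a) + f v * g v
          = f (v * a) * g (v * a) + f v * g v + (f v * g (v * a) + f v * g (v * a)) := by
            rw [zmod_two_add_self, add_zero]
        _ = _ := by ring

theorem deg_comp {W : Type*} [CommGroup W] (ι : W →* V) : ∀ {k : ℕ} {f : V → ZMod 2}, Deg k f →
    Deg k fun w => f (ι w) := by
  intro k
  induction k with
  | zero =>
    intro f hf a w
    show f (ι (w * a)) = f (ι w)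
    rw [map_mul]; exact hf _ _
  | succ k ih =>
    intro f hf a
    have := ih (hf (ι a))
    simpa [map_mul] using this

/-- A subgroup maximal among those avoiding an element has index two. -/
theorem exists_index_two_avoiding [Finite V] (h2 : ∀ v : V, v * v = 1) (A : Subgroup V) {b : V}
    (hb : b ∉ A) : ∃ M : Subgroup V, A ≤ M ∧ b ∉ M ∧ ∀ v, v ∉ M → v * b ∈ M := by
  obtain ⟨M, hM, hmax⟩ := ({B : Subgroup V | A ≤ B ∧ b ∉ B}).toFinite.exists_maximal ⟨A, le_rfl, hb⟩
  refine ⟨M, hM.1, hM.2, fun v hv => ?_⟩
  let B : Subgroup V :=
    { carrier := {x | x ∈ M ∨ x * v ∈ M}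
      one_mem' := Or.inl (one_mem _)
      mul_mem' := fun {x y} hx hy => by
        rcases hx with hx | hx <;> rcases hy with hy | hy
        · exact Or.inl (mul_mem hx hy)
        · exact Or.inr (by rw [mul_assoc]; exact mul_mem hx hy)
        · exact Or.inr (by rw [mul_right_comm]; exact mul_mem hx hy)
        · refine Or.inl ?_
          have : x * y = (x * v) * (y * v) := by rw [mul_mul_mul_comm, h2, mul_one]
          rw [this]; exact mul_mem hx hy
      inv_mem' := fun {x} hx => by rwa [inv_eq_of_mul_eq_one_right (h2 x)] }
  have hbB : b ∈ B := by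
    by_contra hbB
    exact hv (hmax ⟨hM.1.trans fun x hx => Or.inl hx, hbB⟩ (fun x hx => Or.inl hx)
      (Or.inr (by rw [h2]; exact one_mem _) : v ∈ B))
  rcases hbB with h | h
  · exact absurd h hM.2
  · rwa [mul_comm]

/-- The total of a function of degree less than the rank vanishes. -/
theorem sum_eq_zero_of_deg : ∀ {d k : ℕ}, k < d → ∀ (V : Type*) [CommGroup V] [Fintype V],
    (∀ v : V, v * v = 1) → Fintype.card V = 2 ^ d → ∀ f : V → ZMod 2, Deg k f → ∑ v, f v = 0 := by
  classical
  intro d k
  induction k generalizing d with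
  | zero =>
    intro hd V _ _ _ hcard f hf
    rw [Finset.sum_congr rfl (g := fun _ => f 1) (fun v _ => by simpa using hf v 1), Finset.sum_const,
      Finset.card_univ, hcard, nsmul_eq_mul, Nat.cast_pow, Nat.cast_ofNat,
      show (2 : ZMod 2) = 0 from rfl, zero_pow (by omega), zero_mul]
  | succ k ih =>
    intro hd V _ _ h2 hcard f hf
    obtain ⟨d, rfl⟩ : ∃ e, d = e + 1 := ⟨d - 1, by omega⟩
    haveI : Nontrivial V := Fintype.one_lt_card_iff_nontrivial.1
      (by rw [hcard]; exact Nat.one_lt_two_pow (by omega))
    obtain ⟨b, hb⟩ := exists_ne (1 : V)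
    obtain ⟨M, -, hbM, hM⟩ := exists_index_two_avoiding h2 ⊥ (b := b) (by simpa using hb)
    let e : M × Bool → V := fun x => cond x.2 ((x.1 : V) * b) x.1
    have he : Function.Bijective e := by
      constructor
      · rintro ⟨m, c⟩ ⟨m', c'⟩ hh
        cases c <;> cases c' <;> simp only [e, cond_true, cond_false] at hh
        · simp [Subtype.ext hh]
        · exfalso; refine hbM ?_
          have := mul_mem (inv_mem m'.2) m.2
          rwa [hh, inv_mul_cancel_left] at this
        · exfalso; refine hbM ?_
          have := mul_mem (inv_mem m.2) m'.2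
          rwa [← hh, inv_mul_cancel_left] at this
        · simp [Subtype.ext (mul_right_cancel hh)]
      · intro v
        by_cases hv : v ∈ M
        · exact ⟨(⟨v, hv⟩, false), rfl⟩
        · exact ⟨(⟨v * b, hM v hv⟩, true), by simp [e, mul_assoc, h2]⟩
    have hcM : Fintype.card M = 2 ^ d := by
      have := Fintype.card_of_bijective he
      rw [hcard, Fintype.card_prod, Fintype.card_bool, pow_succ] at this
      omega
    rw [← Fintype.sum_bijective e he (fun x => f (e x)) f (fun _ => rfl), Fintype.sum_prod_type]
    simp only [Fintype.sum_bool, e, cond_true, cond_false]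
    exact ih (by omega) M (fun m => Subtype.ext (h2 m)) hcM _ (deg_comp M.subtype (hf b))

end CfsgLib.Pyramidal74
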