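import Cfsg.Agent.Lib.PSL2.MinimalSimple

/-!
A non-solvable group with `q²` involutions forming one class, `q ≥ 5` odd.
-/

set_option autoImplicit false
set_option linter.style.haveILetI false
set_option linter.unusedSectionVars false

namespace CfsgLib.Pyramidal74

variable (F : Type) [Field F]

/-- The natural action. -/
def slAct : Matrix.SpecialLinearGroup (Fin 2) F →* MulAut (Multiplicative (Fin 2 → F)) where
  toFun g := AddEquiv.toMultiplicative
    { toFun := fun v => Matrix.mulVec g.1 v
      invFun := fun v => Matrix.mulVec (g⁻¹).1 v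
      left_inv := fun v => by
        show Matrix.mulVec (g⁻¹).1 (Matrix.mulVec g.1 v) = v
        rw [Matrix.mulVec_mulVec, ← Matrix.SpecialLinearGroup.coe_mul, inv_mul_cancel,
          Matrix.SpecialLinearGroup.coe_one, Matrix.one_mulVec]
      right_inv := fun v => by
        show Matrix.mulVec g.1 (Matrix.mulVec (g⁻¹).1 v) = v
        rw [Matrix.mulVec_mulVec, ← Matrix.SpecialLinearGroup.coe_mul, mul_inv_cancel,
          Matrix.SpecialLinearGroup.coe_one, Matrix.one_mulVec]
      map_add' := fun u v => Matrix.mulVec_add _ u v }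
  map_one' := MulEquiv.ext fun v => by
    show Multiplicative.ofAdd (Matrix.mulVec (1 : Matrix.SpecialLinearGroup (Fin 2) F).1 v.toAdd) = v
    rw [Matrix.SpecialLinearGroup.coe_one, Matrix.one_mulVec]; rfl
  map_mul' g h := MulEquiv.ext fun v => by
    show Multiplicative.ofAdd (Matrix.mulVec (g * h).1 v.toAdd) =
      Multiplicative.ofAdd (Matrix.mulVec g.1 (Matrix.mulVec h.1 v.toAdd))
    rw [Matrix.mulVec_mulVec, Matrix.SpecialLinearGroup.coe_mul]

theorem slAct_apply (g : Matrix.SpecialLinearGroup (Fin 2) F) (v : Multiplicative (Fin 2 → F)) :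
    slAct F g v = Multiplicative.ofAdd (Matrix.mulVec g.1 v.toAdd) := rfl

variable {F}

theorem sl_two_involution (h2 : (2 : F) ≠ 0) {g : Matrix.SpecialLinearGroup (Fin 2) F} (hg : g * g = 1) :
    g = 1 ∨ g = -1 := by
  have hinv : g⁻¹ = g := inv_eq_of_mul_eq_one_right hg
  have he : (g⁻¹).1 = g.1 := congrArg Subtype.val hinv
  rw [Matrix.SpecialLinearGroup.coe_inv, Matrix.adjugate_fin_two] at he
  have e00 := congrFun (congrFun he 0) 0
  have e01 := congrFun (congrFun he 0) 1
  have e10 := congrFun (congrFun he 1) 0
  simp only [Matrix.of_apply, Matrix.cons_val_zero, Matrix.cons_val_one, Matrix.cons_val'] at e00 e01 e10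
  have h01 : g.1 0 1 = 0 := by
    have : (2 : F) * g.1 0 1 = 0 := by linear_combination -e01
    exact (mul_eq_zero.1 this).resolve_left h2
  have h10 : g.1 1 0 = 0 := by
    have : (2 : F) * g.1 1 0 = 0 := by linear_combination -e10
    exact (mul_eq_zero.1 this).resolve_left h2
  have hdet : g.1 0 0 * g.1 1 1 - g.1 0 1 * g.1 1 0 = 1 := by
    rw [← Matrix.det_fin_two]; exact g.2
  rw [h01, zero_mul, sub_zero, e00] at hdet
  rcases mul_self_eq_one_iff.1 hdet with h | h
  · left
    apply Subtype.ext
    ext i j
    fin_cases i <;> fin_cases j <;> simp [h01, h10, h, e00]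
  · right
    apply Subtype.ext
    ext i j
    fin_cases i <;> fin_cases j <;> simp [h01, h10, h, e00]

theorem exists_nonsolvable [Fintype F] (h2 : (2 : F) ≠ 0) (h4 : 4 ≤ Fintype.card F) :
    ∃ (G : Type) (_ : Group G) (_ : Finite G),
      Nat.card {x : G // orderOf x = 2} = Fintype.card F ^ 2 ∧
      (∀ x y : G, orderOf x = 2 → orderOf y = 2 → ∃ g : G, g * x * g⁻¹ = y) ∧ ¬ Group.IsSolvable G := by
  classical
  let G := Multiplicative (Fin 2 → F) ⋊[slAct F] (Matrix.SpecialLinearGroup (Fin 2) F)
  haveI : Finite G := Finite.of_equiv _ SemidirectProduct.equivProd.symm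
  refine ⟨G, inferInstance, inferInstance, ?_⟩
  haveI : Fact (Nat.Prime 2) := ⟨Nat.prime_two⟩
  have hne : (-1 : (Matrix.SpecialLinearGroup (Fin 2) F)) ≠ 1 := fun e => h2 (by
    have h := congrFun (congrFun (congrArg Subtype.val e) 0) 0
    simp [Matrix.SpecialLinearGroup.coe_neg] at h
    linear_combination -h)
  have hact : ∀ v : Multiplicative (Fin 2 → F), slAct F (-1) v = v⁻¹ := fun v => by
    rw [slAct_apply, Matrix.SpecialLinearGroup.coe_neg, Matrix.SpecialLinearGroup.coe_one, Matrix.neg_mulVec,
      Matrix.one_mulVec]
    rfl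
  have hinv : ∀ x : G, orderOf x = 2 ↔ x.right = -1 := by
    intro x
    constructor
    · intro hx
      have hxx : x * x = 1 := by
        have h7 := pow_orderOf_eq_one x
        rwa [hx, pow_two] at h7
      rcases sl_two_involution h2 (congrArg SemidirectProduct.right hxx) with h1 | h1
      · exfalso
        have hl := congrArg SemidirectProduct.left hxx
        rw [SemidirectProduct.mul_left, h1, map_one, MulAut.one_apply] at hl
        have h3 : x.left.toAdd + x.left.toAdd = 0 := congrArg Multiplicative.toAdd hl
        have h4' : x.left = 1 := by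
          apply Multiplicative.toAdd.injective
          funext i
          have := congrFun h3 i
          simp only [Pi.add_apply, Pi.zero_apply] at this
          have h5 : (2 : F) * x.left.toAdd i = 0 := by linear_combination this
          simpa using (mul_eq_zero.1 h5).resolve_left h2
        rw [show x = 1 from SemidirectProduct.ext h4' h1, orderOf_one] at hx
        omega
      · exact h1
    · intro hx
      refine orderOf_eq_prime ?_ fun e => hne (hx.symm.trans (by rw [e]; rfl))
      rw [pow_two]
      refine SemidirectProduct.ext ?_ ?_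
      · rw [SemidirectProduct.mul_left, hx, hact, mul_inv_cancel]; rfl
      · rw [SemidirectProduct.mul_right, hx]
        show (-1 : (Matrix.SpecialLinearGroup (Fin 2) F)) * -1 = 1
        exact Subtype.ext (by simp [Matrix.SpecialLinearGroup.coe_neg])
  refine ⟨?_, ?_, ?_⟩
  · let e : {x : G // orderOf x = 2} ≃ (Fin 2 → F) :=
      { toFun := fun x => x.1.left.toAdd
        invFun := fun v => ⟨⟨Multiplicative.ofAdd v, -1⟩, (hinv _).2 rfl⟩
        left_inv := fun x => Subtype.ext (SemidirectProduct.ext rfl ((hinv _).1 x.2).symm)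
        right_inv := fun v => rfl }
    rw [Nat.card_congr e, Nat.card_eq_fintype_card, Fintype.card_fun, Fintype.card_fin]
  · intro x y hx hy
    rw [hinv] at hx hy
    let w : Multiplicative (Fin 2 → F) := Multiplicative.ofAdd ((2 : F)⁻¹ • (y.left.toAdd - x.left.toAdd))
    refine ⟨SemidirectProduct.inl w, SemidirectProduct.ext ?_ ?_⟩
    · rw [← map_inv, SemidirectProduct.mul_left, SemidirectProduct.mul_left, SemidirectProduct.left_inl,
        SemidirectProduct.right_inl, map_one, MulAut.one_apply, SemidirectProduct.mul_right,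
        SemidirectProduct.right_inl, one_mul, hx, SemidirectProduct.left_inl, hact, inv_inv]
      apply Multiplicative.toAdd.injective
      simp only [toAdd_mul, w, toAdd_ofAdd]
      funext i
      simp only [Pi.add_apply, Pi.smul_apply, Pi.sub_apply, smul_eq_mul]
      field_simp
      ring
    · rw [SemidirectProduct.mul_right, SemidirectProduct.mul_right, SemidirectProduct.inv_right,
        SemidirectProduct.right_inl, inv_one, one_mul, mul_one, hx, hy]
  · intro hs
    haveI : Group.IsSolvable (Matrix.SpecialLinearGroup (Fin 2) F) :=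
      Group.isSolvable_of_surjective (f := (SemidirectProduct.rightHom : G →* (Matrix.SpecialLinearGroup (Fin 2) F))) SemidirectProduct.rightHom_surjective
    refine (CfsgLib.PSL2.psl_not_solvable (K := F) h4).1 ?_
    exact Group.isSolvable_of_surjective (f := QuotientGroup.mk' _) (QuotientGroup.mk'_surjective _)

end CfsgLib.Pyramidal74
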