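import Cfsg.Agent.Lib.Pyramidal74.Hyp
import Cfsg.Agent.Lib.Pyramidal74.Degree

/-!
A Sylow 2-subgroup of the kernel whose normaliser induces every automorphism of the elementary subgroup.
-/

set_option autoImplicit false
set_option linter.style.haveILetI false
set_option linter.unusedSectionVars false

namespace CfsgLib.Pyramidal74

open Subgroup

variable {G : Type*} [Group G] [Finite G] {N : Subgroup G} {p r : ℕ}

/-- The full case. -/
structure Full (N S : Subgroup G) : Prop where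
  le_cent : S ≤ centralizer (N : Set G)
  le : N ≤ S
  two : IsPGroup 2 S
  maximal : ∀ T : Subgroup G, T ≤ centralizer (N : Set G) → IsPGroup 2 T → S ≤ T → T ≤ S
  induce : ∀ φ : MulAut N, ∃ g ∈ normalizer (S : Set G), ∀ n : N, g * n * g⁻¹ = (φ n : G)

theorem Hyp.exists_full (h : Hyp N p r) (hall : ∀ φ : MulAut N, ∃ g : G, ∀ n : N, g * n * g⁻¹ = (φ n : G)) :
    ∃ S, Full N S := by
  haveI := h.normal
  haveI : Fact (Nat.Prime 2) := ⟨Nat.prime_two⟩
  set C := centralizer (N : Set G) with hC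
  obtain ⟨P⟩ : Nonempty (Sylow 2 C) := inferInstance
  refine ⟨P.map C.subtype, map_subtype_le _, h.le_sylow_map h.le_centralizer P, P.2.map _, ?_, ?_⟩
  · intro T hT hTp hST
    have h2 : (T.subgroupOf C) = (P : Subgroup C) :=
      P.3 (hTp.comap_of_injective C.subtype C.subtype_injective) fun x hx => hST ⟨x, hx, rfl⟩
    intro x hx
    exact ⟨⟨x, hT hx⟩, h2.le hx, rfl⟩
  · intro φ
    obtain ⟨g, hg⟩ := hall φ
    obtain ⟨m, hm, c, hc, rfl⟩ := mem_sup_of_normal_right.1 (P.normalizer_sup_eq_top.ge (mem_top g))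
    refine ⟨m, hm, fun n => ?_⟩
    rw [← hg n]
    have := mem_centralizer_iff.1 hc n n.2
    calc m * (n : G) * m⁻¹ = m * ((n * c) * c⁻¹) * m⁻¹ := by group
      _ = m * ((c * n) * c⁻¹) * m⁻¹ := by rw [this]
      _ = m * c * n * (m * c)⁻¹ := by group

/-- Splitting off the two-part of a natural number. -/
theorem exists_two_part {z : G} : ∃ k μ : ℕ, Odd μ ∧ orderOf z = 2 ^ k * μ := by
  obtain ⟨k, μ, hμ, e⟩ := Nat.exists_eq_pow_mul_and_not_dvd (orderOf_pos z).ne' 2 (by norm_num)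
  exact ⟨k, μ, Nat.odd_iff.2 (by omega), e⟩

theorem pow_eq_self_of_pow_fixed {α : Type*} {φ : Equiv.Perm α} {m k : ℕ} (hm : Odd m) (hφ : φ ^ m = 1)
    {a : α} (ha : (φ ^ 2 ^ k) a = a) : φ a = a := by
  have hg : Nat.gcd (2 ^ k) m = 1 :=
    Nat.Coprime.pow_left _ ((Nat.prime_two.coprime_iff_not_dvd).2 fun hd =>
      (Nat.not_even_iff_odd.2 hm) (even_iff_two_dvd.2 hd))
  have h1 : (φ ^ ((2 ^ k : ℕ) : ℤ)) a = a := by rw [zpow_natCast]; exact ha
  have h2 : (φ ^ (m : ℤ)) a = a := by rw [zpow_natCast, hφ]; rfl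
  have := congrArg (fun z : ℤ => (φ ^ z) a) (Nat.gcd_eq_gcd_ab (2 ^ k) m)
  simp only [hg, Nat.cast_one, zpow_one, zpow_add, Equiv.Perm.mul_apply, zpow_mul] at this
  rw [Equiv.Perm.zpow_apply_eq_self_of_apply_eq_self h2,
    Equiv.Perm.zpow_apply_eq_self_of_apply_eq_self h1] at this
  exact this

/-- An automorphism of odd order of an abelian 2-group fixing its involutions is trivial. -/
theorem trivial_of_odd {A : Type*} [CommGroup A] [Finite A] (hA : IsPGroup 2 A) (φ : MulAut A) {m : ℕ}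
    (hm : Odd m) (hφ : φ ^ m = 1) (hfix : ∀ a : A, a * a = 1 → φ a = a) (x : A) : φ x = x := by
  have main : ∀ i : ℕ, ∀ x : A, x ^ 2 ^ i = 1 → φ x = x := by
    intro i
    induction i with
    | zero => intro x hx; rw [pow_zero, pow_one] at hx; rw [hx, map_one]
    | succ i ih =>
      intro x hx
      have hw : φ (x ^ 2 ^ i) = x ^ 2 ^ i := hfix _ (by rw [← pow_two, ← pow_mul, ← pow_succ]; exact hx)
      set c := x⁻¹ * φ x with hc
      have hci : c ^ 2 ^ i = 1 := by rw [hc, mul_pow, inv_pow, ← map_pow, hw, inv_mul_cancel]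
      have hc' : φ c = c := ih c hci
      have hit : ∀ j : ℕ, (φ ^ j) x = x * c ^ j := by
        intro j
        induction j with
        | zero => simp
        | succ j ihj =>
          rw [pow_succ', MulAut.mul_apply, ihj, map_mul, map_pow, hc',
            show φ x = x * c by rw [hc, mul_inv_cancel_left], mul_assoc, ← pow_succ']
      have hcm : c ^ m = 1 := by
        have := hit m
        rwa [hφ, MulAut.one_apply, left_eq_mul] at this
      have : c = 1 := by
        have h2 : orderOf c ∣ Nat.gcd m (2 ^ i) :=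
          Nat.dvd_gcd (orderOf_dvd_of_pow_eq_one hcm) (orderOf_dvd_of_pow_eq_one hci)
        rw [(((Nat.prime_two.coprime_iff_not_dvd).2 fun hd =>
          (Nat.not_even_iff_odd.2 hm) (even_iff_two_dvd.2 hd)).symm.pow_right i)] at h2
        exact orderOf_eq_one_iff.1 (Nat.dvd_one.1 h2)
      exact (inv_mul_eq_one.1 this).symm
  obtain ⟨i, hi⟩ := hA x
  exact main i x hi

namespace Full

variable {S : Subgroup G} (f : Full N S) (h : Hyp N p r)
include f h

theorem mem_of_two {k : G} (hk : k ∈ normalizer (S : Set G)) (hkC : k ∈ centralizer (N : Set G)) {i : ℕ}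
    (hki : k ^ 2 ^ i = 1) : k ∈ S := by
  have hz : IsPGroup 2 (zpowers k) := by
    haveI : Fact (Nat.Prime 2) := ⟨Nat.prime_two⟩
    obtain ⟨j, -, hj⟩ := (Nat.dvd_prime_pow Nat.prime_two).1 (orderOf_dvd_of_pow_eq_one hki)
    exact IsPGroup.of_card (n := j) (by rw [Nat.card_zpowers, hj])
  have hle : zpowers k ≤ normalizer (S : Set G) := zpowers_le.2 hk
  exact f.maximal _ (sup_le f.le_cent (zpowers_le.2 hkC)) (f.two.to_sup_of_normal_left' hz hle) le_sup_left
    (le_sup_right (a := S) (mem_zpowers k))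

theorem mem_centralizer {g : G} (hg : ∀ n ∈ N, g * n * g⁻¹ = n) : g ∈ centralizer (N : Set G) :=
  mem_centralizer_iff.2 fun n hn => by
    conv_lhs => rw [← hg n hn]
    group

omit h in
theorem conj_mem {g x : G} (hg : g ∈ normalizer (S : Set G)) (hx : x ∈ S) : g * x * g⁻¹ ∈ S :=
  (mem_normalizer_iff.1 hg x).1 hx

/-- In an abelian one the kernel of the action is the whole of the normaliser in the centraliser. -/
theorem commute_kernel (hab : IsMulCommutative S) {k : G} (hk : k ∈ normalizer (S : Set G))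
    (hkC : k ∈ centralizer (N : Set G)) {x : G} (hx : x ∈ S) : k * x = x * k := by
  letI : CommGroup S := { (inferInstance : Group S) with mul_comm := hab.is_comm.comm }
  obtain ⟨a, μ, hμ, e⟩ := exists_two_part (z := k)
  have h1 : k ^ μ ∈ S := mem_of_two f h (pow_mem hk μ) (pow_mem hkC μ) (i := a)
    (by rw [← pow_mul, mul_comm, ← e, pow_orderOf_eq_one])
  have hc1 : Commute (k ^ μ) x := congrArg Subtype.val (mul_comm (⟨_, h1⟩ : S) ⟨x, hx⟩)
  set φ := normalizerMonoidHom S ⟨k ^ 2 ^ a, pow_mem hk _⟩ with hφ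
  have hφm : φ ^ μ = 1 := by
    have e1 : (⟨k ^ 2 ^ a, pow_mem hk _⟩ : normalizer (S : Set G)) ^ μ = 1 := Subtype.ext (by
      show (k ^ 2 ^ a) ^ μ = 1
      rw [← pow_mul, ← e, pow_orderOf_eq_one])
    rw [hφ, ← map_pow, e1, map_one]
  have hfix := trivial_of_odd f.two φ hμ hφm (fun s hs => Subtype.ext (by
    show k ^ 2 ^ a * (s : G) * (k ^ 2 ^ a)⁻¹ = s
    have hsN : (s : G) ∈ N := h.mem_of_sq (congrArg Subtype.val hs)
    rw [← mem_centralizer_iff.1 (pow_mem hkC (2 ^ a)) s hsN, mul_inv_cancel_right])) ⟨x, hx⟩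
  have hc2 : Commute (k ^ 2 ^ a) x := by
    have h3 : k ^ 2 ^ a * x * (k ^ 2 ^ a)⁻¹ = x := congrArg Subtype.val hfix
    exact mul_inv_eq_iff_eq_mul.1 h3
  have hg : Nat.gcd (2 ^ a) μ = 1 :=
    Nat.Coprime.pow_left _ ((Nat.prime_two.coprime_iff_not_dvd).2 fun hd =>
      (Nat.not_even_iff_odd.2 hμ) (even_iff_two_dvd.2 hd))
  show Commute k x
  rw [← pow_one k, ← hg, ← zpow_natCast, Nat.gcd_eq_gcd_ab, zpow_add, zpow_mul, zpow_mul,
    zpow_natCast, zpow_natCast]
  exact (Commute.zpow_left hc2 _).mul_left (Commute.zpow_left hc1 _)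

/-- The exponent and the top powers. -/
theorem exists_exponent (hab : IsMulCommutative S) :
    ∃ e : ℕ, (∀ x ∈ S, x ^ 2 ^ (e + 1) = 1) ∧ ∀ n ∈ N, ∃ v ∈ S, v ^ 2 ^ e = n := by
  classical
  have hex : ∃ e : ℕ, ∀ x ∈ S, x ^ 2 ^ e = 1 := by
    haveI : Fact (Nat.Prime 2) := ⟨Nat.prime_two⟩
    obtain ⟨n, hn⟩ := IsPGroup.iff_card.1 f.two
    refine ⟨n, fun x hx => ?_⟩
    have := congrArg Subtype.val (pow_card_eq_one' (x := (⟨x, hx⟩ : S)))
    rw [hn] at this
    exact this
  obtain ⟨e, he⟩ : ∃ e, Nat.find hex = e + 1 := by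
    refine Nat.exists_eq_succ_of_ne_zero fun h0 => ?_
    obtain ⟨a, ha, ha1⟩ := h.exists_ne_one
    have := Nat.find_spec hex a (f.le ha)
    rw [h0, pow_zero, pow_one] at this
    exact ha1 this
  refine ⟨e, he ▸ Nat.find_spec hex, fun n hn => ?_⟩
  by_cases hn1 : n = 1
  · exact ⟨1, one_mem S, by rw [one_pow, hn1]⟩
  have hmin := Nat.find_min hex (show e < Nat.find hex by omega)
  push Not at hmin
  obtain ⟨x, hx, hxe⟩ := hmin
  have hw : x ^ 2 ^ e ∈ N := h.mem_of_sq (by
    rw [← pow_two, ← pow_mul, ← pow_succ]; exact (he ▸ Nat.find_spec hex) x hx)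
  obtain ⟨g, hg⟩ := h.trans hw hn hxe hn1
  -- a normalising element with the same effect
  haveI := h.normal
  obtain ⟨m, hm, hmg⟩ := f.induce (MulAut.conjNormal g)
  refine ⟨m * x * m⁻¹, conj_mem f hm hx, ?_⟩
  rw [conj_pow, hmg ⟨_, hw⟩, MulAut.conjNormal_apply]
  exact hg

end Full

end CfsgLib.Pyramidal74
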