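import Cfsg.Agent.Lib.DGroup.RankOne
import Cfsg.Agent.S0205
import Cfsg.Agent.S0217
import Cfsg.Agent.S0223
import Cfsg.Agent.S1225

/-!
An abelian Sylow 2-subgroup of rank at least three in which the centraliser of a single involution in the
normaliser centralises everything: the normaliser is transitive on the involutions.
-/

set_option autoImplicit false
set_option linter.style.haveILetI false
set_option linter.unusedSectionVars false

namespace CfsgLib.Pyramidal74

open Subgroup

variable {X : Type*} [Group X] [Finite X]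

/-- The odd core of the centraliser of an element, as a subgroup. -/
noncomputable def centCore (a : X) : Subgroup X :=
  (Cfsg.oddCore (centralizer ({a} : Set X))).map (centralizer ({a} : Set X)).subtype

theorem centCore_le (a : X) : centCore a ≤ centralizer ({a} : Set X) := map_subtype_le _

theorem odd_card_centCore (a : X) : Odd (Nat.card (centCore a)) := by
  unfold centCore
  rw [← Nat.card_congr
    ((Cfsg.oddCore (centralizer ({a} : Set X))).equivMapOfInjective _ (subtype_injective _)).toEquiv]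
  exact CfsgLib.DGroup.odd_card_oddCore

theorem odd_orderOf_of_mem {H : Subgroup X} (hH : Odd (Nat.card H)) {x : X} (hx : x ∈ H) :
    Odd (orderOf x) := by
  have := orderOf_dvd_natCard (⟨x, hx⟩ : H)
  rw [orderOf_mk] at this
  exact hH.of_dvd_nat this

theorem mem_centCore {P : Sylow 2 X} (hab : IsMulCommutative P)
    (hcent : ∀ a ∈ (P : Subgroup X), a ≠ 1 → ∀ k ∈ normalizer ((P : Subgroup X) : Set X),
      k * a = a * k → ∀ e ∈ (P : Subgroup X), k * e = e * k)
    {a : X} (ha : a ∈ (P : Subgroup X)) (ha1 : a ≠ 1) {g : X}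
    (hg : g ∈ centralizer ({a} : Set X)) (hodd : Odd (orderOf g)) : g ∈ centCore a := by
  haveI : Fact (Nat.Prime 2) := ⟨Nat.prime_two⟩
  set C := centralizer ({a} : Set X) with hC
  have hPC : (P : Subgroup X) ≤ C := fun e he =>
    mem_centralizer_singleton_iff.2 (congrArg Subtype.val (hab.is_comm.comm (⟨e, he⟩ : P) ⟨a, ha⟩))
  let Q : Sylow 2 C := P.subtype hPC
  have hQ : ∀ x : C, x ∈ (Q : Subgroup C) ↔ (x : X) ∈ (P : Subgroup X) := fun x => by
    show x ∈ ((P.subtype hPC : Sylow 2 C) : Subgroup C) ↔ _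
    rw [Sylow.coe_subtype]; exact mem_subgroupOf
  have hnc : normalizer ((Q : Subgroup C) : Set C) ≤ centralizer ((Q : Subgroup C) : Set C) := by
    intro k hk
    refine mem_centralizer_iff.2 fun e he => Subtype.ext ?_
    refine (hcent a ha ha1 k (mem_normalizer_iff.2 fun x => ?_) (mem_centralizer_singleton_iff.1 k.2) e
      ((hQ e).1 he)).symm
    constructor
    · intro hx
      have := (mem_normalizer_iff.1 hk ⟨x, hPC hx⟩).1 ((hQ _).2 hx)
      exact (hQ _).1 this
    · intro hx
      have hxC : x ∈ C := by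
        have := mul_mem (mul_mem (inv_mem k.2) (hPC hx)) k.2
        simpa [mul_assoc] using this
      exact (hQ _).1 ((mem_normalizer_iff.1 hk ⟨x, hxC⟩).2 ((hQ _).2 hx))
  have hcomp := MonoidHom.ker_transferSylow_isComplement' Q hnc
  set K := (MonoidHom.transferSylow Q hnc).ker with hK
  have hKodd : Odd (Nat.card K) := by
    rw [← hcomp.index_eq_card, Nat.odd_iff, ← Nat.two_dvd_ne_zero]
    exact Q.not_dvd_index
  refine ⟨⟨g, hg⟩, CfsgLib.DGroup.le_oddCore inferInstance hKodd ?_, rfl⟩
  rw [hK, MonoidHom.mem_ker]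
  set u := MonoidHom.transferSylow Q hnc ⟨g, hg⟩ with hu
  have h1 : orderOf u ∣ orderOf g := by
    rw [hu, ← orderOf_mk g hg]; exact orderOf_map_dvd _ _
  obtain ⟨n, hn⟩ := IsPGroup.iff_orderOf.1 Q.2 u
  rw [← orderOf_eq_one_iff]
  rw [hn] at h1 ⊢
  rcases n with _ | n
  · rfl
  · exact absurd (even_iff_two_dvd.2 ((dvd_pow_self 2 (Nat.succ_ne_zero n)).trans h1))
      (Nat.not_even_iff_odd.2 hodd)

/-- The statement. -/
theorem normalizer_transitive {P : Sylow 2 X} (hab : IsMulCommutative P)
    (hel : ∀ e ∈ (P : Subgroup X), e * e = 1) (hrank : 2 ^ 3 ≤ Nat.card P)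
    (hperf : commutator X = ⊤) (hO : ∀ W : Subgroup X, W.Normal → Odd (Nat.card W) → W = ⊥)
    (hcent : ∀ a ∈ (P : Subgroup X), a ≠ 1 → ∀ k ∈ normalizer ((P : Subgroup X) : Set X),
      k * a = a * k → ∀ e ∈ (P : Subgroup X), k * e = e * k)
    {a b : X} (ha : a ∈ (P : Subgroup X)) (hb : b ∈ (P : Subgroup X)) (ha1 : a ≠ 1) (hb1 : b ≠ 1) :
    ∃ n ∈ normalizer ((P : Subgroup X) : Set X), n * a * n⁻¹ = b := by
  haveI : Fact (Nat.Prime 2) := ⟨Nat.prime_two⟩
  haveI := hab
  classical
  -- odd elements of centralisers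
  have hcore : ∀ a ∈ (P : Subgroup X), a ≠ 1 → ∀ g ∈ centralizer ({a} : Set X), Odd (orderOf g) →
      g ∈ centCore a := fun a ha ha1 g hg hodd => mem_centCore hab hcent ha ha1 hg hodd
  have hcomm : ∀ a ∈ (P : Subgroup X), ∀ b ∈ (P : Subgroup X), a * b = b * a := fun a ha b hb =>
    congrArg Subtype.val (hab.is_comm.comm (⟨a, ha⟩ : P) ⟨b, hb⟩)
  have hbal := Cfsg.Agent.S0217.result (p := 2) (P : Subgroup X) hcomm
    (fun a ha => by rw [pow_two]; exact hel a ha) hrank centCore
    (fun a _ _ => centCore_le a)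
    (fun a _ _ => by
      rw [← even_iff_two_dvd, Nat.not_even_iff_odd]; exact odd_card_centCore a)
    (fun a ha ha1 e he x hx => by
      refine hcore a ha ha1 _ ?_ ?_
      · refine mul_mem (mul_mem ?_ (centCore_le a hx)) (inv_mem ?_) <;>
          exact mem_centralizer_singleton_iff.2 (hcomm e he a ha)
      · rw [show e * x * e⁻¹ = (MulAut.conj e).toMonoidHom x from rfl,
          orderOf_injective (MulAut.conj e).toMonoidHom (MulAut.conj e).injective]
        exact odd_orderOf_of_mem (odd_card_centCore a) hx)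
    (fun a _ _ => Cfsg.Agent.S0205.result (odd_card_centCore a))
    (fun a _ _ c hc hc1 x hx => hcore c hc hc1 x hx.2 (odd_orderOf_of_mem (odd_card_centCore a) hx.1))
  set W := ⨆ a : {a : X // a ∈ (P : Subgroup X) ∧ a ≠ 1}, centCore (a : X) with hW
  obtain ⟨hWodd, hWc⟩ := hbal
  have hWodd' : Odd (Nat.card W) := by
    rwa [← even_iff_two_dvd, Nat.not_even_iff_odd] at hWodd
  have hNW : normalizer ((P : Subgroup X) : Set X) ≤ normalizer (W : Set X) := by
    intro n hn
    have hle : ∀ n ∈ normalizer ((P : Subgroup X) : Set X), ∀ x ∈ W, n * x * n⁻¹ ∈ W := by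
      intro n hn x hx
      have h2 : W.map (MulAut.conj n).toMonoidHom ≤ W := by
        rw [hW, Subgroup.map_iSup]
        refine iSup_le fun c => ?_
        have hc' : n * c.1 * n⁻¹ ∈ (P : Subgroup X) := (mem_normalizer_iff.1 hn c.1).1 c.2.1
        have hc1 : n * c.1 * n⁻¹ ≠ 1 := fun e => c.2.2 (conj_eq_one_iff.1 e)
        refine le_trans ?_ (le_iSup (fun d : {a : X // a ∈ (P : Subgroup X) ∧ a ≠ 1} => centCore (d : X))
          ⟨_, hc', hc1⟩)
        rintro _ ⟨y, hy, rfl⟩
        refine hcore _ hc' hc1 _ ?_ ?_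
        · have hy' := mem_centralizer_singleton_iff.1 (centCore_le _ hy)
          refine mem_centralizer_singleton_iff.2 ?_
          show n * y * n⁻¹ * (n * c.1 * n⁻¹) = n * c.1 * n⁻¹ * (n * y * n⁻¹)
          calc n * y * n⁻¹ * (n * c.1 * n⁻¹) = n * (y * c.1) * n⁻¹ := by group
            _ = n * (c.1 * y) * n⁻¹ := by rw [hy']
            _ = _ := by group
        · rw [orderOf_injective (MulAut.conj n).toMonoidHom (MulAut.conj n).injective]
          exact odd_orderOf_of_mem (odd_card_centCore _) hy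
      exact h2 ⟨x, hx, rfl⟩
    refine mem_normalizer_iff.2 fun x => ⟨hle n hn x, fun hx => ?_⟩
    have := hle n⁻¹ (inv_mem hn) _ hx
    simpa [mul_assoc] using this
  -- the subgroup that will be strongly embedded
  obtain ⟨M, hMtop, hNM, hCM⟩ : ∃ M : Subgroup X, M ≠ ⊤ ∧ normalizer ((P : Subgroup X) : Set X) ≤ M ∧
      ∀ c ∈ (P : Subgroup X), c ≠ 1 → centralizer ({c} : Set X) ≤ M := by
    have hdec : ∀ c ∈ (P : Subgroup X), c ≠ 1 → ∀ M : Subgroup X, (P : Subgroup X) ≤ M →
        centCore c ≤ M → centralizer ({c} : Set X) ≤ M := by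
      intro c hc hc1 M hPM hKM
      have hPc : (P : Subgroup X) ≤ centralizer ({c} : Set X) := fun e he =>
        mem_centralizer_singleton_iff.2 (hcomm e he c hc)
      haveI hn : ((centCore c).subgroupOf (centralizer ({c} : Set X))).Normal := by
        rw [centCore, subgroupOf, comap_map_eq_self_of_injective (subtype_injective _)]
        infer_instance
      intro g hg
      set C := centralizer ({c} : Set X)
      obtain ⟨Q, hQdef⟩ : ∃ Q : Sylow 2 (centralizer ({c} : Set X)),
          (Q : Subgroup (centralizer ({c} : Set X))) =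
            (P : Subgroup X).subgroupOf (centralizer ({c} : Set X)) :=
        ⟨P.subtype hPc, Sylow.coe_subtype P hPc⟩
      let K := (centCore c).subgroupOf C
      -- the quotient by the core is a 2-group
      have hquot : IsPGroup 2 (C ⧸ K) := by
        intro q
        obtain ⟨y, rfl⟩ := QuotientGroup.mk_surjective q
        obtain ⟨a, m, hm, hord⟩ :=
          Nat.exists_eq_pow_mul_and_not_dvd (orderOf_pos (y : X)).ne' 2 (by norm_num)
        refine ⟨a, ?_⟩
        rw [← QuotientGroup.mk_pow, QuotientGroup.eq_one_iff]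
        refine hcore c hc hc1 _ ((y ^ 2 ^ a).2) ?_
        rw [show C.subtype (y ^ 2 ^ a) = (y : X) ^ 2 ^ a from rfl,
          orderOf_pow_of_dvd (by positivity) ⟨m, hord⟩, hord, Nat.mul_div_cancel_left _ (by positivity)]
        rw [Nat.odd_iff]; omega
      have htop : (Q : Subgroup C).map (QuotientGroup.mk' K) = ⊤ := by
        have h5 := (Sylow.mapSurjective (QuotientGroup.mk'_surjective K) Q).is_maximal'
          (Q := ⊤) (hquot.to_subgroup ⊤) le_top
        exact h5.symm
      obtain ⟨e, he, hee⟩ := htop.ge (mem_top (QuotientGroup.mk' K ⟨g, hg⟩))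
      rw [QuotientGroup.mk'_apply, QuotientGroup.mk'_apply, QuotientGroup.eq] at hee
      have he' : (e : X) ∈ M := hPM (by
        exact mem_subgroupOf.1 (hQdef.le he))
      have := mul_mem he' (hKM (mem_subgroupOf.1 hee))
      simpa using this
    by_cases hWbot : W = ⊥
    · refine ⟨normalizer ((P : Subgroup X) : Set X), fun e => ?_, le_rfl, fun c hc hc1 =>
        hdec c hc hc1 _ le_normalizer ?_⟩
      · haveI : (P : Subgroup X).Normal := normalizer_eq_top_iff.1 e
        have hodd : Odd (Nat.card (X ⧸ (P : Subgroup X))) := by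
          rw [← index_eq_card, Nat.odd_iff, ← Nat.two_dvd_ne_zero]; exact P.not_dvd_index
        have hsolv : Group.IsSolvable (⊤ : Subgroup (X ⧸ (P : Subgroup X))) :=
          Cfsg.Agent.S0205.result (by rwa [Subgroup.card_top])
        haveI : Group.IsSolvable (X ⧸ (P : Subgroup X)) :=
          Group.isSolvable_of_surjective (f := (⊤ : Subgroup (X ⧸ (P : Subgroup X))).subtype)
            (fun y => ⟨⟨y, mem_top y⟩, rfl⟩)
        haveI : Group.IsSolvable (P : Subgroup X) := Group.isSolvable_of_comm fun x y =>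
          hab.is_comm.comm x y
        haveI : Group.IsSolvable X := (Group.isSolvable_iff_subgroup_quotient (P : Subgroup X)).2
          ⟨inferInstance, inferInstance⟩
        haveI : Nontrivial X := ⟨⟨a, 1, ha1⟩⟩
        exact (Group.IsSolvable.commutator_lt_top_of_nontrivial X).ne hperf
      · refine le_trans ?_ (le_of_eq_of_le hWbot bot_le)
        exact le_iSup (fun d : {a : X // a ∈ (P : Subgroup X) ∧ a ≠ 1} => centCore (d : X)) ⟨c, hc, hc1⟩
    · refine ⟨normalizer (W : Set X), fun e => hWbot ?_, hNW, fun c hc hc1 =>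
        hdec c hc hc1 _ (le_normalizer.trans hNW) ?_⟩
      · exact hO W (normalizer_eq_top_iff.1 e) hWodd'
      · exact (le_iSup (fun d : {a : X // a ∈ (P : Subgroup X) ∧ a ≠ 1} => centCore (d : X))
          ⟨c, hc, hc1⟩).trans le_normalizer
  have hPM : (P : Subgroup X) ≤ M := le_normalizer.trans hNM
  have h2a : orderOf a = 2 := orderOf_eq_prime (by rw [pow_two]; exact hel a ha) ha1
  have h2b : orderOf b = 2 := orderOf_eq_prime (by rw [pow_two]; exact hel b hb) hb1
  -- every involution of `M` is conjugate into the Sylow subgroup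
  have hinto : ∀ t ∈ M, orderOf t = 2 → ∃ m ∈ M, m * t * m⁻¹ ∈ (P : Subgroup X) := by
    intro t ht ht2
    have hz : IsPGroup 2 (zpowers (⟨t, ht⟩ : M)) :=
      IsPGroup.of_card (n := 1) (by rw [Nat.card_zpowers, orderOf_mk, ht2, pow_one])
    obtain ⟨Q, hQ⟩ := hz.exists_le_sylow
    obtain ⟨m, hm⟩ := MulAction.exists_smul_eq M Q (P.subtype hPM)
    refine ⟨m, m.2, ?_⟩
    have : m * ⟨t, ht⟩ * m⁻¹ ∈ ((P.subtype hPM : Sylow 2 M) : Subgroup M) := by
      rw [← hm]
      exact ⟨_, hQ (mem_zpowers _), rfl⟩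
    rw [Sylow.coe_subtype, mem_subgroupOf] at this
    exact this
  have hfus : ∀ x y : X, x ∈ (P : Subgroup X) → y ∈ (P : Subgroup X) → IsConj x y →
      ∃ n ∈ normalizer ((P : Subgroup X) : Set X), n * x * n⁻¹ = y := by
    intro x y hx hy hxy
    obtain ⟨g, rfl⟩ := isConj_iff.1 hxy
    obtain ⟨n, hn, e⟩ := P.conj_eq_normalizer_conj_of_mem x g⁻¹ hx (by rwa [inv_inv])
    rw [inv_inv] at e
    exact ⟨n⁻¹, inv_mem hn, by rw [inv_inv]; exact e.symm⟩
  have hse : Cfsg.IsStronglyEmbedded M := by
    refine (Cfsg.Agent.S0223.result M hMtop ?_).2 ⟨?_, ?_⟩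
    · rw [even_iff_two_dvd]
      have := orderOf_dvd_natCard (⟨a, hPM ha⟩ : M)
      rwa [orderOf_mk, h2a] at this
    · intro t ht ht2 g hg
      obtain ⟨m, hm, hmt⟩ := hinto t ht ht2
      have hmt1 : m * t * m⁻¹ ≠ 1 := fun e => by
        rw [conj_eq_one_iff.1 e, orderOf_one] at ht2; omega
      have hg' : m * g * m⁻¹ ∈ centralizer ({m * t * m⁻¹} : Set X) := by
        refine mem_centralizer_singleton_iff.2 ?_
        have := mem_centralizer_singleton_iff.1 hg
        calc m * g * m⁻¹ * (m * t * m⁻¹) = m * (g * t) * m⁻¹ := by group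
          _ = m * (t * g) * m⁻¹ := by rw [this]
          _ = _ := by group
      have h5 := hCM _ hmt hmt1 hg'
      have := mul_mem (mul_mem (inv_mem hm) h5) hm
      simpa [mul_assoc] using this
    · intro t ht s hs ht2 hs2 hts
      obtain ⟨m, hm, hmt⟩ := hinto t ht ht2
      obtain ⟨m', hm', hms⟩ := hinto s hs hs2
      obtain ⟨n, hn, hnn⟩ := hfus _ _ hmt hms
        (((isConj_iff.2 ⟨m, rfl⟩ : IsConj t (m * t * m⁻¹)).symm.trans hts).trans
          (isConj_iff.2 ⟨m', rfl⟩))
      refine ⟨m'⁻¹ * n * m, mul_mem (mul_mem (inv_mem hm') (hNM hn)) hm, ?_⟩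
      calc m'⁻¹ * n * m * t * (m'⁻¹ * n * m)⁻¹ = m'⁻¹ * (n * (m * t * m⁻¹) * n⁻¹) * m' := by group
        _ = s := by rw [hnn]; group
  obtain ⟨g, hg⟩ : ∃ g, g ∉ M := by
    by_contra hno; push Not at hno; exact hMtop (eq_top_iff.2 fun x _ => hno x)
  have hu : g * a * g⁻¹ ∉ M := fun hmem => by
    have hodd := hse.2.2 g hg
    have hmem' : g * a * g⁻¹ ∈ M ⊓ M.map (MulAut.conj g).toMonoidHom :=
      mem_inf.2 ⟨hmem, a, hPM ha, rfl⟩
    have := orderOf_dvd_natCard (⟨g * a * g⁻¹, hmem'⟩ :
      (M ⊓ M.map (MulAut.conj g).toMonoidHom : Subgroup X))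
    rw [orderOf_mk, show g * a * g⁻¹ = (MulAut.conj g).toMonoidHom a from rfl,
      orderOf_injective (MulAut.conj g).toMonoidHom (MulAut.conj g).injective, h2a] at this
    exact (Nat.not_even_iff_odd.2 hodd) (even_iff_two_dvd.2 this)
  have hg2 : orderOf (g * a * g⁻¹) = 2 := by
    rw [← h2a]; exact orderOf_injective (MulAut.conj g).toMonoidHom (MulAut.conj g).injective a
  exact hfus a b ha hb
    ((Cfsg.Agent.S1225.result M hse _ hg2 hu a b h2a (hPM ha) h2b (hPM hb)).2 a b h2a h2b)

end CfsgLib.Pyramidal74
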