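import Cfsg.Agent.Lib.Pyramidal74.Basics

/-!
The setting with trivial odd core and its first consequences.
-/

set_option autoImplicit false
set_option linter.style.haveILetI false
set_option linter.unusedSectionVars false

namespace CfsgLib.Pyramidal74

open Subgroup

variable {G : Type*} [Group G] [Finite G]

/-- Trivial odd core, all involutions in an elementary abelian normal subgroup with a prime number of
non-trivial elements, all conjugate. -/
structure Hyp (N : Subgroup G) (p r : ℕ) : Prop where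
  prime : p.Prime
  ne_two : p ≠ 2
  pow_eq : 2 ^ r = p + 1
  card_eq : Nat.card N = 2 ^ r
  normal : N.Normal
  comm : IsMulCommutative N
  sq : ∀ x ∈ N, x * x = 1
  all : ∀ x : G, orderOf x = 2 → x ∈ N
  one : OneClass G
  core : Cfsg.oddCore G = ⊥

namespace Hyp

variable {N : Subgroup G} {p r : ℕ} (h : Hyp N p r)
include h

theorem r_two_le : 2 ≤ r := by
  have := h.prime.two_le
  have := h.pow_eq
  rcases r with _ | _ | r <;> simp_all <;> omega

theorem le_centralizer : N ≤ centralizer (N : Set G) := fun x hx =>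
  mem_centralizer_iff.2 fun y hy => congrArg Subtype.val (h.comm.is_comm.comm (⟨y, hy⟩ : N) ⟨x, hx⟩)

theorem isPGroup : IsPGroup 2 N := IsPGroup.of_card h.card_eq

theorem mem_of_sq {x : G} (hx : x * x = 1) : x ∈ N := by
  by_cases h1 : x = 1
  · exact h1 ▸ one_mem N
  · exact h.all x (order_two_of h1 hx)

theorem trans {a b : G} (ha : a ∈ N) (hb : b ∈ N) (ha1 : a ≠ 1) (hb1 : b ≠ 1) :
    ∃ g : G, g * a * g⁻¹ = b :=
  h.one a b (order_two_of ha1 (h.sq a ha)) (order_two_of hb1 (h.sq b hb))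

theorem exists_two : ∃ a b, a ∈ N ∧ b ∈ N ∧ a ≠ 1 ∧ b ≠ 1 ∧ a ≠ b := by
  classical
  haveI := Fintype.ofFinite N
  have hlt : 2 < Fintype.card N := by
    rw [← Nat.card_eq_fintype_card, h.card_eq]
    calc 2 < 2 ^ 2 := by norm_num
      _ ≤ 2 ^ r := Nat.pow_le_pow_right (by norm_num) h.r_two_le
  obtain ⟨u, v, w, huv, huw, hvw⟩ := Fintype.two_lt_card_iff.1 hlt
  by_cases hu : (u : G) = 1
  · exact ⟨v, w, v.2, w.2, fun e => huv (Subtype.ext (hu.trans e.symm)),
      fun e => huw (Subtype.ext (hu.trans e.symm)), fun e => hvw (Subtype.ext e)⟩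
  · by_cases hv : (v : G) = 1
    · exact ⟨u, w, u.2, w.2, hu, fun e => hvw (Subtype.ext (hv.trans e.symm)),
        fun e => huw (Subtype.ext e)⟩
    · exact ⟨u, v, u.2, v.2, hu, hv, fun e => huv (Subtype.ext e)⟩

theorem exists_ne_one : ∃ a ∈ N, a ≠ 1 :=
  let ⟨a, _, ha, _, ha1, _⟩ := h.exists_two
  ⟨a, ha, ha1⟩

/-- A normal subgroup that is not solvable contains the elementary subgroup. -/
theorem le_of_not_solvable {L : Subgroup G} [L.Normal] (hL : ¬ Group.IsSolvable L) : N ≤ L := by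
  obtain ⟨x, hxL, hx⟩ := exists_involution_of_nonsolvable hL
  intro y hy
  by_cases hy1 : y = 1
  · rw [hy1]; exact one_mem L
  · obtain ⟨g, rfl⟩ := h.trans (h.all x hx) hy (fun e => by rw [e, orderOf_one] at hx; omega) hy1
    exact Subgroup.Normal.conj_mem inferInstance x hxL g

/-- A normal subgroup centralising `N` whose 2-subgroup `R` has Frattini's property: its normaliser
is transitive. -/
theorem trans_normalizer {L : Subgroup G} [L.Normal] (hLC : L ≤ centralizer (N : Set G))
    (P : Sylow 2 L) {a b : G} (ha : a ∈ N) (hb : b ∈ N) (ha1 : a ≠ 1) (hb1 : b ≠ 1) :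
    ∃ g ∈ normalizer ((P.map L.subtype : Subgroup G) : Set G), g * a * g⁻¹ = b := by
  haveI : Fact (Nat.Prime 2) := ⟨Nat.prime_two⟩
  obtain ⟨g, rfl⟩ := h.trans ha hb ha1 hb1
  obtain ⟨n, hn, l, hl, rfl⟩ := mem_sup_of_normal_right.1
    (P.normalizer_sup_eq_top.ge (mem_top g))
  refine ⟨n, hn, ?_⟩
  have hla : a * l = l * a := mem_centralizer_iff.1 (hLC hl) a ha
  calc n * a * n⁻¹ = n * ((a * l) * l⁻¹) * n⁻¹ := by group
    _ = n * ((l * a) * l⁻¹) * n⁻¹ := by rw [hla]
    _ = n * l * a * (n * l)⁻¹ := by group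

theorem le_sylow_map {L : Subgroup G} [L.Normal] (hNL : N ≤ L) (P : Sylow 2 L) :
    N ≤ P.map L.subtype := by
  haveI := h.normal
  haveI : Fact (Nat.Prime 2) := ⟨Nat.prime_two⟩
  have hle : N.subgroupOf L ≤ (P : Subgroup L) := by
    have hp := (h.isPGroup.comap_of_injective L.subtype L.subtype_injective)
    obtain ⟨Q, hQ⟩ := IsPGroup.exists_le_sylow hp
    obtain ⟨g, hg⟩ := MulAction.exists_smul_eq L Q P
    rw [← hg]
    intro x hx
    have : g⁻¹ * x * g ∈ N.subgroupOf L := by
      have := Subgroup.Normal.conj_mem (inferInstance : (N.subgroupOf L).Normal) x hx g⁻¹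
      rwa [inv_inv] at this
    exact ⟨g⁻¹ * x * g, hQ this, by simp [mul_assoc]⟩
  exact fun x hx => ⟨⟨x, hNL hx⟩, hle (by exact hx), rfl⟩

end Hyp

end CfsgLib.Pyramidal74
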