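import Cfsg.Agent.Lib.Pyramidal74.Degree

/-!
A 2-group whose involutions form a small central subgroup has no automorphism of order the square of the
associated prime acting with kernel on those involutions.
-/

set_option autoImplicit false
set_option linter.style.haveILetI false
set_option linter.unusedSectionVars false

namespace CfsgLib.Pyramidal74

open scoped commutatorElement

section Quad

variable {Q : Type*} [Group Q] [Finite Q] (Z : Subgroup Q) [Z.Normal]
variable (hc : ∀ z ∈ Z, ∀ x : Q, z * x = x * z) (hsq : ∀ x : Q, x * x ∈ Z)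
variable (h1 : ∀ x : Q, x * x = 1 ↔ x ∈ Z)
include hc hsq h1

theorem comm_mem_of_sq (x y : Q) : ⁅x, y⁆ ∈ Z := by
  rw [commutatorElement_def,
    show x * y * x⁻¹ * y⁻¹ = (x * x) * ((x⁻¹ * y) * (x⁻¹ * y)) * (y * y)⁻¹ by group]
  exact mul_mem (mul_mem (hsq _) (hsq _)) (inv_mem (hsq _))

theorem sq_mul_of_sq (x y : Q) : (x * y) * (x * y) = (x * x) * (y * y) * ⁅y, x⁆ := by
  have hz := comm_mem_of_sq Z hc hsq h1 y x
  calc x * y * (x * y) = x * ⁅y, x⁆ * (x * (y * y)) := by rw [commutatorElement_def]; group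
    _ = ⁅y, x⁆ * x * (x * (y * y)) := by rw [hc _ hz x]
    _ = ⁅y, x⁆ * (x * x * (y * y)) := by group
    _ = _ := hc _ hz _

/-- The quotient has rank at most twice that of the subgroup. -/
theorem card_quotient_le {s : ℕ} (hs : Nat.card Z = 2 ^ s) {d : ℕ}
    (hd : Nat.card (Q ⧸ Z) = 2 ^ d) : d ≤ 2 * s := by
  classical
  by_contra hlt
  have hcomm : ∀ v w : Q ⧸ Z, v * w = w * v := by
    rintro ⟨x⟩ ⟨y⟩
    show ((x : Q) : Q ⧸ Z) * (y : Q ⧸ Z) = (y : Q ⧸ Z) * (x : Q ⧸ Z)
    rw [← QuotientGroup.mk_mul, ← QuotientGroup.mk_mul, QuotientGroup.eq,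
      show (x * y)⁻¹ * (y * x) = ⁅y⁻¹, x⁻¹⁆ by rw [commutatorElement_def]; group]
    exact comm_mem_of_sq Z hc hsq h1 _ _
  letI : CommGroup (Q ⧸ Z) := { (inferInstance : Group (Q ⧸ Z)) with mul_comm := hcomm }
  haveI := Fintype.ofFinite (Q ⧸ Z)
  have hV2 : ∀ v : Q ⧸ Z, v * v = 1 := by
    rintro ⟨x⟩
    exact (QuotientGroup.eq_one_iff _).2 (hsq x)
  have hsqz : ∀ (x z : Q), z ∈ Z → (x * z) * (x * z) = x * x := fun x z hz => by
    rw [sq_mul_of_sq Z hc hsq h1, (h1 z).2 hz,
      commutatorElement_eq_one_iff_commute.2 (hc z hz x), mul_one, mul_one]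
  let q : Q ⧸ Z → Q := fun v => v.out * v.out
  have hq : ∀ (v : Q ⧸ Z) (x : Q), (x : Q ⧸ Z) = v → q v = x * x := fun v x hx => by
    subst hx
    obtain ⟨z, hz⟩ := QuotientGroup.mk_out_eq_mul Z x
    show (x : Q ⧸ Z).out * (x : Q ⧸ Z).out = _
    rw [hz, hsqz x z z.2]
  -- a linear form on the subgroup gives a function of degree two
  have hdeg : ∀ M : Subgroup Q, (M.subgroupOf Z).index = 2 →
      Deg 2 fun v : Q ⧸ Z => if q v ∈ M then (1 : ZMod 2) else 0 := by
    intro M hM
    let χ : Q → ZMod 2 := fun a => if a ∈ M then 0 else 1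
    have hχ : ∀ a ∈ Z, ∀ b ∈ Z, χ (a * b) = χ a + χ b := fun a ha b hb => by
      have := Subgroup.mul_mem_iff_of_index_two (H := M.subgroupOf Z) hM (a := ⟨a, ha⟩) (b := ⟨b, hb⟩)
      simp only [Subgroup.mem_subgroupOf, MulMemClass.mk_mul_mk] at this
      by_cases u : a ∈ M <;> by_cases w : b ∈ M <;>
        simp [χ, u, w, this, zmod_two_add_self]
    have hf : ∀ v : Q ⧸ Z, (if q v ∈ M then (1 : ZMod 2) else 0) = χ (q v) + 1 := fun v => by
      by_cases u : q v ∈ M <;> simp [χ, u, zmod_two_add_self]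
    intro a b c v
    show (if q (v * c * b * a) ∈ M then (1 : ZMod 2) else 0) + (if q (v * c * b) ∈ M then 1 else 0) +
        ((if q (v * c * a) ∈ M then (1 : ZMod 2) else 0) + (if q (v * c) ∈ M then 1 else 0)) =
      (if q (v * b * a) ∈ M then (1 : ZMod 2) else 0) + (if q (v * b) ∈ M then 1 else 0) +
        ((if q (v * a) ∈ M then (1 : ZMod 2) else 0) + (if q v ∈ M then 1 else 0))
    induction a using QuotientGroup.induction_on with | H A => ?_
    induction b using QuotientGroup.induction_on with | H B => ?_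
    induction c using QuotientGroup.induction_on with | H C => ?_
    induction v using QuotientGroup.induction_on with | H W => ?_
    simp only [hf]
    simp only [← QuotientGroup.mk_mul, hq _ _ rfl]
    have key : ∀ U : Q, χ (U * B * A * (U * B * A)) + χ (U * B * (U * B)) +
        (χ (U * A * (U * A)) + χ (U * U)) = χ ⁅A, B⁆ := by
      intro U
      have e2 : ⁅A, U * B⁆ = ⁅A, U⁆ * ⁅A, B⁆ := by
        calc ⁅A, U * B⁆ = ⁅A, U⁆ * (U * ⁅A, B⁆ * U⁻¹) := by simp only [commutatorElement_def]; group
          _ = _ := by rw [← hc _ (comm_mem_of_sq Z hc hsq h1 A B) U, mul_inv_cancel_right]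
      have m1 := hsq (U * B)
      have m2 := comm_mem_of_sq Z hc hsq h1 A U
      have m3 := comm_mem_of_sq Z hc hsq h1 A B
      rw [sq_mul_of_sq Z hc hsq h1 (U * B) A, sq_mul_of_sq Z hc hsq h1 U A,
        hχ _ (mul_mem m1 (hsq A)) _ (comm_mem_of_sq Z hc hsq h1 _ _), e2, hχ _ m1 _ (hsq A),
        hχ _ m2 _ m3, hχ _ (mul_mem (hsq U) (hsq A)) _ m2, hχ _ (hsq U) _ (hsq A)]
      calc _ = χ ⁅A, B⁆ + ((χ (U * B * (U * B)) + χ (U * B * (U * B))) + (χ (A * A) + χ (A * A)) +
            (χ ⁅A, U⁆ + χ ⁅A, U⁆) + (χ (U * U) + χ (U * U))) := by ring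
        _ = _ := by simp [zmod_two_add_self]
    have hsimp : ∀ a b c d : ZMod 2, a + 1 + (b + 1) + (c + 1 + (d + 1)) = a + b + (c + d) := by decide
    rw [hsimp, hsimp, key, key]
  -- the indicator of a subgroup
  have main : ∀ (k : ℕ) (A : Subgroup Q), A ≤ Z → 2 ^ s ≤ Nat.card A * 2 ^ k →
      Deg (2 * k) fun v : Q ⧸ Z => if q v ∈ A then (1 : ZMod 2) else 0 := by
    intro k
    induction k with
    | zero =>
      intro A hA hk
      have : A = Z := Subgroup.eq_of_le_of_card_ge hA (by rw [hs]; simpa using hk)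
      subst this
      intro a v
      simp [q, hsq]
    | succ k ih =>
      intro A hA hk
      by_cases hAZ : A = Z
      · subst hAZ
        refine deg_mono (Nat.zero_le _) ?_
        intro a v
        simp [q, hsq]
      obtain ⟨b, hbZ, hbA⟩ : ∃ b ∈ Z, b ∉ A := by
        by_contra hno
        push Not at hno
        exact hAZ (le_antisymm hA hno)
      letI : CommGroup Z :=
        { (inferInstance : Group Z) with mul_comm := fun x y => Subtype.ext (hc x x.2 y) }
      obtain ⟨M, hAM, hbM, hM⟩ := exists_index_two_avoiding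
        (V := Z) (fun z => Subtype.ext ((h1 z).2 z.2)) (A.subgroupOf Z) (b := ⟨b, hbZ⟩) hbA
      let B : Subgroup Q :=
        { carrier := {x | x ∈ A ∨ (x * b ∈ A)}
          one_mem' := Or.inl (one_mem _)
          mul_mem' := fun {x y} hx hy => by
            rcases hx with hx | hx <;> rcases hy with hy | hy
            · exact Or.inl (mul_mem hx hy)
            · exact Or.inr (by rw [mul_assoc]; exact mul_mem hx hy)
            · exact Or.inr (by rw [mul_assoc, ← hc b hbZ y, ← mul_assoc]; exact mul_mem hx hy)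
            · refine Or.inl ?_
              have : x * y = (x * b) * (y * b) := by
                rw [← hc b hbZ y, mul_assoc, ← mul_assoc b, (h1 b).2 hbZ, one_mul]
              rw [this]; exact mul_mem hx hy
          inv_mem' := fun {x} hx => by
            have hxZ : x ∈ Z := by
              rcases hx with hx | hx
              · exact hA hx
              · have := mul_mem (hA hx) hbZ
                rwa [mul_assoc, (h1 b).2 hbZ, mul_one] at this
            rwa [inv_eq_of_mul_eq_one_right ((h1 x).2 hxZ)] }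
      have hBZ : B ≤ Z := by
        rintro x (hx | hx)
        · exact hA hx
        · have := mul_mem (hA hx) hbZ
          rwa [mul_assoc, (h1 b).2 hbZ, mul_one] at this
      have hlt : 2 ^ s ≤ Nat.card B * 2 ^ k := by
        have hne : A ≠ B := fun e => hbA (e ▸ (Or.inr (by rw [(h1 b).2 hbZ]; exact one_mem A) : b ∈ B))
        have hAB : A ≤ B := fun x hx => Or.inl hx
        obtain ⟨t, ht⟩ := Subgroup.card_dvd_of_le hAB
        have ht2 : 2 ≤ t := by
          by_contra ht2
          interval_cases t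
          · rw [mul_zero] at ht; exact absurd ht Nat.card_pos.ne'
          · exact hne (Subgroup.eq_of_le_of_card_ge hAB (by rw [ht, mul_one]))
        rw [ht]
        rw [pow_succ] at hk
        calc 2 ^ s ≤ Nat.card A * (2 ^ k * 2) := hk
          _ ≤ Nat.card A * (2 ^ k * t) := Nat.mul_le_mul_left _ (Nat.mul_le_mul_left _ ht2)
          _ = _ := by ring
      have hprod := deg_mul (2 * (k + 1)) (2 * k) 2 (by ring) (ih B hBZ hlt)
        (hdeg (M.map Z.subtype) (by
          rw [show (M.map Z.subtype).subgroupOf Z = M from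
            Subgroup.comap_map_eq_self_of_injective Z.subtype_injective M, Subgroup.index_eq_two_iff]
          refine ⟨⟨b, hbZ⟩, fun z => ?_⟩
          by_cases hz : z ∈ M
          · exact Or.inr ⟨hz, fun hzb => hbM (by
              have := mul_mem (inv_mem hz) hzb; rwa [inv_mul_cancel_left] at this)⟩
          · exact Or.inl ⟨hM z hz, hz⟩))
      convert hprod using 2 with v
      have hmem : q v ∈ A ↔ q v ∈ B ∧ q v ∈ M.map Z.subtype := by
        constructor
        · exact fun hv => ⟨Or.inl hv, ⟨⟨q v, hA hv⟩, hAM hv, rfl⟩⟩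
        · rintro ⟨hB | hB, z, hz, hzv⟩
          · exact hB
          · exfalso
            refine hbM ?_
            have h3 : z * ⟨b, hbZ⟩ ∈ M := hAM (show ((z : Q) * b) ∈ A from by
              rw [show (z : Q) = q v from hzv]; exact hB)
            have := mul_mem (inv_mem hz) h3
            rwa [inv_mul_cancel_left] at this
      by_cases u : q v ∈ B <;> by_cases w : q v ∈ M.map Z.subtype <;>
        simp [u, w, hmem]
  have h0 := sum_eq_zero_of_deg (d := d) (k := 2 * s) (by omega) (Q ⧸ Z) hV2
    (by rw [← hd, Nat.card_eq_fintype_card]) _ (main s ⊥ bot_le (by simp))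
  rw [Finset.sum_eq_single 1 ?_ (by simp)] at h0
  · rw [hq 1 1 (QuotientGroup.mk_one Z), if_pos (by simp)] at h0
    exact one_ne_zero h0
  · intro v _ hv
    refine if_neg fun hqv => hv ?_
    rw [← QuotientGroup.out_eq' v]
    exact (QuotientGroup.eq_one_iff _).2 ((h1 _).1 (Subgroup.mem_bot.1 hqv))

end Quad

theorem not_sq_dvd_two_pow_sub_one {p r d : ℕ} (hp : 3 ≤ p) (hr : 2 ^ r = p + 1) (hd1 : 1 ≤ d)
    (hd : d ≤ 2 * r) : ¬ p * p ∣ 2 ^ d - 1 := by
  intro hdiv
  rcases lt_or_ge r d with hlt | hge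
  · obtain ⟨e, rfl⟩ : ∃ e, d = r + e := ⟨d - r, by omega⟩
    have he : 1 ≤ e := by omega
    have h2e : 2 ≤ 2 ^ e := Nat.le_self_pow (by omega) 2
    have hsplit : 2 ^ (r + e) - 1 = p * 2 ^ e + (2 ^ e - 1) := by
      rw [pow_add, hr, Nat.succ_mul]; omega
    have hpdvd : p ∣ 2 ^ e - 1 := by
      have := dvd_trans (dvd_mul_right p p) hdiv
      rw [hsplit] at this
      exact (Nat.dvd_add_right (dvd_mul_right p _)).1 this
    have hle : 2 ^ e ≤ p + 1 := hr ▸ Nat.pow_le_pow_right (by norm_num) (by omega)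
    have heq : 2 ^ e = p + 1 := by
      obtain ⟨c, hc⟩ := hpdvd
      rcases c with _ | _ | c
      · omega
      · omega
      · exfalso
        have : p * 2 ≤ p * (c + 1 + 1) := Nat.mul_le_mul_left _ (by omega)
        omega
    rw [hsplit, heq, Nat.add_sub_cancel, show p * (p + 1) + p = p * (p + 2) by ring] at hdiv
    have h2 : p ∣ p + 2 := Nat.dvd_of_mul_dvd_mul_left (by omega) hdiv
    have := Nat.le_of_dvd (by norm_num) ((Nat.dvd_add_right dvd_rfl).1 h2)
    omega
  · have h1 : 2 ≤ 2 ^ d := Nat.le_self_pow (by omega) 2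
    have hle : 2 ^ d ≤ p + 1 := hr ▸ Nat.pow_le_pow_right (by norm_num) hge
    have := Nat.le_of_dvd (by omega) hdiv
    have h3 : 3 * p ≤ p * p := Nat.mul_le_mul_right p hp
    omega

theorem card_modEq_of_free {X : Type*} [Finite X] (f : Equiv.Perm X) {p : ℕ} (hp : p.Prime) (a : ℕ)
    (hf : f ^ p ^ (a + 1) = 1) (hfree : ∀ x, (f ^ p ^ a) x ≠ x) : p ^ (a + 1) ∣ Nat.card X := by
  classical
  letI : MulAction (Subgroup.zpowers f) X := MulAction.compHom X (Subgroup.zpowers f).subtype
  have hstab : ∀ x : X, MulAction.stabilizer (Subgroup.zpowers f) x = ⊥ := by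
    intro x
    rw [eq_bot_iff]
    rintro ⟨g, hg⟩ hgx
    obtain ⟨n, rfl⟩ := (mem_powers_iff_mem_zpowers (x := f)).2 hg
    rw [Subgroup.mem_bot, Subgroup.mk_eq_one]
    by_contra hne
    have hfix : (f ^ n) x = x := hgx
    have hgcd : (f ^ n.gcd (p ^ (a + 1))) x = x := by
      have hfix' : (f ^ (n : ℤ)) x = x := by rwa [zpow_natCast]
      have hfix'' : (f ^ ((p ^ (a + 1) : ℕ) : ℤ)) x = x := by rw [zpow_natCast, hf]; rfl
      rw [← zpow_natCast, Nat.gcd_eq_gcd_ab, zpow_add, Equiv.Perm.mul_apply, zpow_mul, zpow_mul,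
        Equiv.Perm.zpow_apply_eq_self_of_apply_eq_self hfix'',
        Equiv.Perm.zpow_apply_eq_self_of_apply_eq_self hfix']
    obtain ⟨j, hj, hje⟩ := (Nat.dvd_prime_pow hp).1 (Nat.gcd_dvd_right n (p ^ (a + 1)))
    have hjlt : j ≤ a := by
      by_contra hja
      have : j = a + 1 := by omega
      subst this
      obtain ⟨c, hc⟩ := hje ▸ Nat.gcd_dvd_left n (p ^ (a + 1))
      exact hne (by show f ^ n = 1; rw [hc, pow_mul, hf, one_pow])
    rw [hje] at hgcd
    apply hfree x
    obtain ⟨c, hc⟩ := Nat.pow_dvd_pow p hjlt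
    rw [hc, pow_mul]
    have := Equiv.Perm.zpow_apply_eq_self_of_apply_eq_self hgcd (c : ℤ)
    rwa [zpow_natCast] at this
  rcases isEmpty_or_nonempty X with hX | ⟨⟨x⟩⟩
  · simp
  have hord : orderOf f = p ^ (a + 1) := by
    haveI : Fact p.Prime := ⟨hp⟩
    exact orderOf_eq_prime_pow (fun e => hfree x (by rw [e]; rfl)) hf
  rw [← hord, ← Nat.card_zpowers]
  rw [Nat.card_congr (MulAction.selfEquivSigmaOrbitsQuotientStabilizer (Subgroup.zpowers f) X)]
  haveI := Fintype.ofFinite X
  rw [Nat.card_sigma]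
  refine Finset.dvd_sum fun ω _ => ?_
  rw [hstab, ← Subgroup.index_eq_card, Subgroup.index_bot]

/-- The rigidity. -/
theorem aut_rigid {p r : ℕ} (hp : p.Prime) (hp2 : p ≠ 2) (hr : 2 ^ r = p + 1) :
    ∀ (n : ℕ) (R : Type*) [Group R] [Finite R], Nat.card R = n → IsPGroup 2 R →
      ∀ N : Subgroup R, (∀ z ∈ N, ∀ x : R, z * x = x * z) → (∀ x : R, x * x = 1 ↔ x ∈ N) →
      Nat.card N ≤ 2 ^ r → ∀ ψ : MulAut R, ψ ^ (p * p) = 1 → (∀ z ∈ N, (ψ ^ p) z = z) → ψ ^ p = 1 := by
  intro n
  induction n using Nat.strong_induction_on with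
  | _ n ih =>
    intro R _ _ hn hR N hc h1 hN ψ hψ hfix
    set τ := ψ ^ p with hτdef
    have hτp : τ ^ p = 1 := by rw [hτdef, ← pow_mul]; exact hψ
    -- the invariant proper subgroups are fixed
    have hsmall : ∀ (S : Subgroup R), S ≠ ⊤ → (∀ x ∈ S, ψ x ∈ S) → ∀ x ∈ S, τ x = x := by
      intro S hS hinv x hx
      let f : S →* S :=
        { toFun := fun y => ⟨ψ y, hinv y y.2⟩
          map_one' := Subtype.ext (map_one ψ)
          map_mul' := fun a b => Subtype.ext (map_mul ψ (a : R) (b : R)) }
      have hfb : Function.Bijective f := Finite.injective_iff_bijective.1 fun a b hab =>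
        Subtype.ext (ψ.injective (congrArg Subtype.val hab))
      let φ : MulAut S := MulEquiv.ofBijective f hfb
      have hpow : ∀ (m : ℕ) (y : S), (((φ ^ m) y : S) : R) = (ψ ^ m) (y : R) := by
        intro m
        induction m with
        | zero => intro y; rfl
        | succ m ihm =>
          intro y
          rw [pow_succ', pow_succ', MulAut.mul_apply, MulAut.mul_apply, ← ihm y]
          rfl
      have hlt : Nat.card S < n := by
        rw [← hn]
        refine lt_of_le_of_ne (Subgroup.card_le_card_group S) fun e => hS ?_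
        exact Subgroup.eq_top_of_card_eq S e
      have hres := ih _ hlt S rfl (hR.to_subgroup S) (N.subgroupOf S)
        (fun z hz y => Subtype.ext (hc z hz y))
        (fun y => ⟨fun e => (h1 _).1 (congrArg Subtype.val e), fun e => Subtype.ext ((h1 _).2 e)⟩)
        ((Nat.card_le_card_of_injective (fun z : N.subgroupOf S => (⟨z, z.2⟩ : N)) (fun a b hab =>
          Subtype.ext (Subtype.ext (congrArg (fun c : N => (c : R)) hab)))).trans hN)
        φ (MulEquiv.ext fun y => Subtype.ext (by rw [hpow, hψ]; rfl))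
        (fun z hz => Subtype.ext (by rw [hpow]; exact hfix z hz))
      have := congrArg (fun g : MulAut S => ((g ⟨x, hx⟩ : S) : R)) hres
      rw [hpow] at this
      exact this
    by_contra hne
    have hτψ : ∀ x, τ (ψ x) = ψ (τ x) := fun x => by
      have := congrArg (fun g : MulAut R => g x) ((Commute.pow_self ψ p).eq)
      exact this
    -- the movements generate
    have hgen : Subgroup.closure (Set.range fun x => x⁻¹ * τ x) = ⊤ := by
      by_contra hE
      refine hne (MulEquiv.ext fun x => ?_)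
      have hfixc := hsmall _ hE (fun y hy => by
        have := Subgroup.mem_map_of_mem (ψ : R →* R) hy
        rw [MonoidHom.map_closure] at this
        refine Subgroup.closure_mono ?_ this
        rintro _ ⟨_, ⟨z, rfl⟩, rfl⟩
        exact ⟨ψ z, by simp [hτψ]⟩)
      set c := x⁻¹ * τ x with hcdef
      have hc' : τ c = c := hfixc c (Subgroup.subset_closure ⟨x, rfl⟩)
      have hit : ∀ m : ℕ, (τ ^ m) x = x * c ^ m := by
        intro m
        induction m with
        | zero => simp
        | succ m ihm =>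
          rw [pow_succ', MulAut.mul_apply, ihm, map_mul, map_pow, hc',
            show τ x = x * c by rw [hcdef, mul_inv_cancel_left], mul_assoc, ← pow_succ']
      have hcp : c ^ p = 1 := by
        have := hit p
        rwa [hτp, MulAut.one_apply, left_eq_mul] at this
      obtain ⟨e, he⟩ := hR c
      have : c = 1 := by
        have h2 : orderOf c ∣ Nat.gcd p (2 ^ e) :=
          Nat.dvd_gcd (orderOf_dvd_of_pow_eq_one hcp) (orderOf_dvd_of_pow_eq_one he)
        rw [((Nat.coprime_primes hp Nat.prime_two).2 hp2).pow_right e] at h2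
        exact orderOf_eq_one_iff.1 (Nat.dvd_one.1 h2)
      rw [MulAut.one_apply]
      exact (inv_mul_eq_one.1 this).symm
    haveI : Nontrivial R := by
      rcases subsingleton_or_nontrivial R with h | h
      · exact absurd (MulEquiv.ext fun x => Subsingleton.elim _ _) hne
      · exact h
    -- squares are central
    have hsqne : Subgroup.closure (Set.range fun x : R => x * x) ≠ ⊤ := by
      haveI : Fact (Nat.Prime 2) := ⟨Nat.prime_two⟩
      obtain ⟨m, hm⟩ := IsPGroup.iff_card.1 hR
      obtain ⟨K, hK⟩ := Sylow.exists_subgroup_card_pow_prime 2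
        (n := m - 1) (hm ▸ Nat.pow_dvd_pow 2 (Nat.sub_le m 1))
      have hm1 : m ≠ 0 := fun e => by
        rw [e, pow_zero] at hm
        exact absurd (Nat.card_eq_one_iff_unique.1 hm).1 (not_subsingleton R)
      have hidx : K.index = 2 := by
        have := K.card_mul_index
        rw [hK, hm] at this
        refine Nat.eq_of_mul_eq_mul_left (pow_pos two_pos (m - 1)) ?_
        rw [this, ← pow_succ]; congr 1; omega
      intro e
      have hle : Subgroup.closure (Set.range fun x : R => x * x) ≤ K := by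
        rw [Subgroup.closure_le]
        rintro _ ⟨x, rfl⟩
        exact Subgroup.mul_self_mem_of_index_two hidx x
      rw [e, top_le_iff] at hle
      rw [hle, Subgroup.index_top] at hidx
      omega
    have hfixsq : ∀ x : R, τ (x * x) = x * x := fun x =>
      hsmall _ hsqne (fun y hy => by
        have := Subgroup.mem_map_of_mem (ψ : R →* R) hy
        rw [MonoidHom.map_closure] at this
        refine Subgroup.closure_mono ?_ this
        rintro _ ⟨_, ⟨z, rfl⟩, rfl⟩
        exact ⟨ψ z, by simp⟩) _ (Subgroup.subset_closure ⟨x, rfl⟩)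
    have hsqc : ∀ x y : R, x * x * y = y * (x * x) := by
      intro x
      have key : ∀ y ∈ Subgroup.closure (Set.range fun u => u⁻¹ * τ u), Commute (x * x) y := by
        intro y hy
        induction hy using Subgroup.closure_induction with
        | mem y hy =>
          obtain ⟨u, rfl⟩ := hy
          have e := hfixsq (u * x * u⁻¹)
          rw [show u * x * u⁻¹ * (u * x * u⁻¹) = u * (x * x) * u⁻¹ by group, map_mul _ (u * (x * x)),
            map_mul _ u, map_inv, hfixsq x] at e
          show x * x * (u⁻¹ * τ u) = u⁻¹ * τ u * (x * x)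
          calc x * x * (u⁻¹ * τ u) = u⁻¹ * (u * (x * x) * u⁻¹) * τ u := by group
            _ = u⁻¹ * (τ u * (x * x) * (τ u)⁻¹) * τ u := by rw [e]
            _ = _ := by group
        | one => exact Commute.one_right _
        | mul _ _ _ _ a b => exact a.mul_right b
        | inv _ _ a => exact a.inv_right
      exact fun y => key y (hgen ▸ Subgroup.mem_top y)
    -- commutators are involutions
    have hcc : ∀ x y : R, ⁅x, y⁆ ∈ N := by
      intro x y
      have hcent : ∀ z, ⁅x, y⁆ * z = z * ⁅x, y⁆ := fun z => by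
        rw [commutatorElement_def,
          show x * y * x⁻¹ * y⁻¹ = (x * x) * ((x⁻¹ * y) * (x⁻¹ * y)) * (y * y)⁻¹ by group]
        have a : Commute (x * x) z := hsqc x z
        have b : Commute ((x⁻¹ * y) * (x⁻¹ * y)) z := hsqc _ z
        have c : Commute (y * y)⁻¹ z := (show Commute (y * y) z from hsqc y z).inv_left
        exact ((a.mul_left b).mul_left c).eq
      refine (h1 _).1 ?_
      calc ⁅x, y⁆ * ⁅x, y⁆ = x * (y * x⁻¹ * y⁻¹) * (⁅x, y⁆) := by rw [commutatorElement_def]; group
        _ = x * (⁅x, y⁆ * (y * x⁻¹ * y⁻¹)) := by rw [mul_assoc, hcent]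
        _ = (x * x) * (y * (x * x)⁻¹ * y⁻¹) := by rw [commutatorElement_def]; group
        _ = 1 := by
          rw [show y * (x * x)⁻¹ = (x * x)⁻¹ * y from
            ((show Commute (x * x) y from hsqc x y).inv_left).eq.symm]
          group
    have hmix : ∀ x y : R, (x * y) * (x * y) = (x * x) * (y * y) * ⁅y, x⁆ := fun x y => by
      calc x * y * (x * y) = x * ⁅y, x⁆ * (x * (y * y)) := by rw [commutatorElement_def]; group
        _ = ⁅y, x⁆ * x * (x * (y * y)) := by rw [hc _ (hcc y x) x]
        _ = ⁅y, x⁆ * (x * x * (y * y)) := by group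
        _ = _ := hc _ (hcc y x) _
    have hsqN : ∀ x : R, x * x ∈ N := by
      have key : ∀ y ∈ Subgroup.closure (Set.range fun u => u⁻¹ * τ u), y * y ∈ N := by
        intro y hy
        induction hy using Subgroup.closure_induction with
        | mem y hy =>
          obtain ⟨u, rfl⟩ := hy
          have e := hfixsq u
          rw [map_mul, show τ u = u * (u⁻¹ * τ u) by group, hmix, mul_assoc, mul_eq_left] at e
          rw [eq_inv_of_mul_eq_one_left e]
          exact inv_mem (hcc _ _)
        | one => rw [one_mul]; exact one_mem N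
        | mul a b _ _ ha hb => rw [hmix]; exact mul_mem (mul_mem ha hb) (hcc b a)
        | inv a _ ha => rw [← mul_inv_rev]; exact inv_mem ha
      exact fun x => key x (hgen ▸ Subgroup.mem_top x)
    haveI : N.Normal := ⟨fun z hz g => by rw [← hc z hz g, mul_inv_cancel_right]; exact hz⟩
    have hψN : ∀ z ∈ N, ψ z ∈ N := fun z hz => (h1 _).1 (by rw [← map_mul, (h1 z).2 hz, map_one])
    let fV : R ⧸ N →* R ⧸ N := QuotientGroup.map N N (ψ : R →* R) hψN
    have hpow : ∀ (m : ℕ) (x : R), fV^[m] (x : R ⧸ N) = (((ψ ^ m) x : R) : R ⧸ N) := by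
      intro m x
      induction m with
      | zero => rfl
      | succ m ihm => rw [Function.iterate_succ_apply', ihm, pow_succ']; rfl
    have hfull : ∀ v : R ⧸ N, fV^[p * p] v = v := fun v => by
      obtain ⟨x, rfl⟩ := QuotientGroup.mk_surjective v
      rw [hpow, hψ]; rfl
    -- `τ` fixes no coset but the trivial one
    have hVcomm : ∀ v w : R ⧸ N, v * w = w * v := by
      rintro ⟨x⟩ ⟨y⟩
      show ((x : R) : R ⧸ N) * (y : R ⧸ N) = (y : R ⧸ N) * (x : R ⧸ N)
      rw [← QuotientGroup.mk_mul, ← QuotientGroup.mk_mul, QuotientGroup.eq,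
        show (x * y)⁻¹ * (y * x) = ⁅y⁻¹, x⁻¹⁆ by rw [commutatorElement_def]; group]
      exact hcc _ _
    letI : CommGroup (R ⧸ N) := { (inferInstance : Group (R ⧸ N)) with mul_comm := hVcomm }
    have hfree : ∀ x : R, ((τ x : R) : R ⧸ N) = (x : R ⧸ N) → x ∈ N := by
      let ν : R →* R ⧸ N :=
        { toFun := fun x => ∏ i ∈ Finset.range p, (((τ ^ i) x : R) : R ⧸ N)
          map_one' := by simp
          map_mul' := fun a b => by simp [Finset.prod_mul_distrib] }
      have hshift : ∀ u, ν (τ u) = ν u := by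
        intro u
        show ∏ i ∈ Finset.range p, (((τ ^ i) (τ u) : R) : R ⧸ N) = _
        have h3 : ∀ i, (τ ^ i) (τ u) = (τ ^ (i + 1)) u := fun i => by rw [pow_succ]; rfl
        simp only [h3]
        have h4 := Finset.prod_range_succ' (fun i => (((τ ^ i) u : R) : R ⧸ N)) p
        rw [Finset.prod_range_succ, hτp, pow_zero] at h4
        exact (mul_right_cancel h4).symm
      have hν : ∀ y ∈ Subgroup.closure (Set.range fun u => u⁻¹ * τ u), ν y = 1 := fun y hy =>
        ((Subgroup.closure_le ν.ker).2 (by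
          rintro _ ⟨u, rfl⟩
          show ν (u⁻¹ * τ u) = 1
          rw [map_mul, map_inv, hshift, inv_mul_cancel]) hy : y ∈ ν.ker)
      intro x hx
      have hit : ∀ i : ℕ, (((τ ^ i) x : R) : R ⧸ N) = (x : R ⧸ N) := by
        intro i
        induction i with
        | zero => rfl
        | succ i ihm =>
          rw [← hx, pow_succ]
          show (((τ ^ i) (τ x) : R) : R ⧸ N) = ((τ x : R) : R ⧸ N)
          have hmem : x⁻¹ * τ x ∈ N := QuotientGroup.eq.1 hx.symm
          have hτi : (τ ^ i) (x⁻¹ * τ x) ∈ N :=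
            (h1 _).1 (by rw [← map_mul, (h1 _).2 hmem, map_one])
          have e5 : (((τ ^ i) (τ x) : R) : R ⧸ N) = (((τ ^ i) x : R) : R ⧸ N) := by
            refine (QuotientGroup.eq.2 ?_).symm
            rwa [← map_inv, ← map_mul]
          rw [e5, ihm, hx]
      have h5 := hν x (hgen ▸ Subgroup.mem_top x)
      change ∏ i ∈ Finset.range p, (((τ ^ i) x : R) : R ⧸ N) = 1 at h5
      rw [Finset.prod_congr rfl (fun i _ => hit i), Finset.prod_const, Finset.card_range] at h5
      have h6 : (x : R ⧸ N) ^ 2 = 1 := by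
        rw [pow_two, ← QuotientGroup.mk_mul, QuotientGroup.eq_one_iff]; exact hsqN x
      obtain ⟨j, rfl⟩ := hp.odd_of_ne_two hp2
      rw [pow_succ, pow_mul, h6, one_pow, one_mul] at h5
      exact (QuotientGroup.eq_one_iff x).1 h5
    -- the count
    haveI : Fact (Nat.Prime 2) := ⟨Nat.prime_two⟩
    obtain ⟨d, hd⟩ := IsPGroup.iff_card.1 (hR.to_quotient N)
    obtain ⟨s, hs⟩ := IsPGroup.iff_card.1 (hR.to_subgroup N)
    have hs' : s ≤ r := (Nat.pow_le_pow_iff_right (by norm_num)).1 (hs ▸ hN)
    have hd2 := card_quotient_le N hc hsqN h1 hs hd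
    have hd0 : 1 ≤ d := by
      rcases d with _ | d
      · exfalso
        rw [pow_zero, ← Subgroup.index_eq_card, Subgroup.index_eq_one] at hd
        exact hne (MulEquiv.ext fun x => hfix x (hd ▸ Subgroup.mem_top x))
      · omega
    have hbij : Function.Bijective fV := Finite.surjective_iff_bijective.1 fun v => by
      obtain ⟨x, rfl⟩ := QuotientGroup.mk_surjective v
      exact ⟨(ψ.symm x : R), congrArg QuotientGroup.mk (ψ.apply_symm_apply x)⟩
    let e : Equiv.Perm {v : R ⧸ N // v ≠ 1} :=
      (Equiv.ofBijective fV hbij).subtypeEquiv (fun v => (map_ne_one_iff fV hbij.1).symm)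
    have he : ∀ (m : ℕ) v, ((e ^ m) v : R ⧸ N) = fV^[m] (v : R ⧸ N) := by
      intro m v
      induction m with
      | zero => rfl
      | succ m ihm => rw [pow_succ', Function.iterate_succ_apply', ← ihm]; rfl
    have hdiv := card_modEq_of_free e hp 1 (Equiv.ext fun v => Subtype.ext (by
        rw [he, show p ^ (1 + 1) = p * p by ring, hfull]; rfl))
      (fun v hv => by
        have h7 := congrArg Subtype.val hv
        rw [he, pow_one] at h7
        obtain ⟨x, hx⟩ := QuotientGroup.mk_surjective (v : R ⧸ N)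
        rw [← hx, hpow, ← hτdef] at h7
        exact v.2 (hx ▸ (QuotientGroup.eq_one_iff x).2 (hfree x h7)))
    have hcard : Nat.card {v : R ⧸ N // v ≠ 1} = 2 ^ d - 1 := by
      classical
      haveI := Fintype.ofFinite (R ⧸ N)
      rw [Nat.card_eq_fintype_card, Fintype.card_subtype_compl, Fintype.card_subtype_eq,
        ← Nat.card_eq_fintype_card, hd]
    rw [hcard, show p ^ (1 + 1) = p * p by ring] at hdiv
    exact not_sq_dvd_two_pow_sub_one (by have := hp.two_le; omega) hr hd0 (by omega) hdiv

end CfsgLib.Pyramidal74
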