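import Cfsg.Agent.Lib.Pyramidal74.Bundle
import Cfsg.Agent.Lib.Pyramidal74.Rigid
import Cfsg.Agent.S1137
import Cfsg.Agent.S1138

/-!
A non-abelian 2-group whose Mersenne prime many involutions are permuted transitively by its automorphisms
is a Suzuki 2-group.
-/

set_option autoImplicit false
set_option linter.style.haveILetI false
set_option linter.unusedSectionVars false

namespace CfsgLib.Pyramidal74

open scoped commutatorElement

variable {R : Type*} [Group R] [Finite R] (N : Subgroup R) {p r : ℕ}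

theorem card_points (hN : Nat.card N = 2 ^ r) (hr : 2 ^ r = p + 1) :
    Nat.card {z : R // z ∈ N ∧ z ≠ 1} = p := by
  classical
  haveI := Fintype.ofFinite R
  have hins : Finset.univ.filter (fun z : R => z ∈ N) =
      insert 1 (Finset.univ.filter fun z : R => z ∈ N ∧ z ≠ 1) := by
    ext z
    simp only [Finset.mem_filter, Finset.mem_univ, true_and, Finset.mem_insert]
    constructor
    · intro hz; by_cases h : z = 1
      exacts [Or.inl h, Or.inr ⟨hz, h⟩]
    · rintro (rfl | h)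
      exacts [one_mem N, h.1]
  rw [hr, Nat.card_eq_fintype_card, Fintype.card_subtype, hins,
    Finset.card_insert_of_notMem (by simp)] at hN
  rw [Nat.card_eq_fintype_card, Fintype.card_subtype]
  omega

theorem exists_cyclic_regular (hp : p.Prime) (hp2 : p ≠ 2) (hR : IsPGroup 2 R)
    (hc : ∀ z ∈ N, ∀ x : R, z * x = x * z) (h1 : ∀ x : R, x * x = 1 ↔ x ∈ N)
    (hN : Nat.card N = 2 ^ r) (hr : 2 ^ r = p + 1)
    (htr : ∀ a ∈ N, ∀ b ∈ N, a ≠ 1 → b ≠ 1 → ∃ φ : MulAut R, φ a = b) :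
    ∃ φ : MulAut R, φ ^ p = 1 ∧
      ∀ a ∈ N, ∀ b ∈ N, a ≠ 1 → b ≠ 1 → ∃! k : Subgroup.zpowers φ, (k : MulAut R) a = b := by
  classical
  haveI hpf : Fact p.Prime := ⟨hp⟩
  let Ω := {z : R // z ∈ N ∧ z ≠ 1}
  have hmap : ∀ (φ : MulAut R) (z : R), (z ∈ N ∧ z ≠ 1) ↔ (φ z ∈ N ∧ φ z ≠ 1) := fun φ z => by
    rw [← h1 z, ← h1 (φ z), ← map_mul, map_eq_one_iff φ φ.injective, map_ne_one_iff φ φ.injective]
  let π : MulAut R →* Equiv.Perm Ω :=
    { toFun := fun φ => (φ : R ≃ R).subtypeEquiv (hmap φ)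
      map_one' := Equiv.ext fun _ => rfl
      map_mul' := fun _ _ => Equiv.ext fun _ => rfl }
  have hΩ : Nat.card Ω = p := card_points N hN hr
  haveI : Nonempty Ω := (Nat.card_pos_iff.1 (by rw [hΩ]; exact hp.pos)).1
  obtain ⟨ω₀⟩ := ‹Nonempty Ω›
  have hdvd : p ∣ Nat.card π.range := by
    have hdec := Nat.card_congr (MulAction.orbitProdStabilizerEquivGroup π.range ω₀)
    rw [Nat.card_prod] at hdec
    have ho : MulAction.orbit π.range ω₀ = Set.univ := Set.eq_univ_of_forall fun ω => by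
      obtain ⟨φ, hφ⟩ := htr _ ω₀.2.1 _ ω.2.1 ω₀.2.2 ω.2.2
      exact ⟨⟨π φ, φ, rfl⟩, Subtype.ext hφ⟩
    rw [ho, Nat.card_congr (Equiv.Set.univ Ω), hΩ] at hdec
    exact ⟨_, hdec.symm⟩
  obtain ⟨εs, hε⟩ := exists_prime_orderOf_dvd_card' (G := π.range) p hdvd
  obtain ⟨φ₀, hφ₀⟩ := εs.2
  rw [← Subgroup.orderOf_coe, ← hφ₀] at hε
  -- take the `p`-part
  obtain ⟨a, m, hpm, hord⟩ := Nat.exists_eq_pow_mul_and_not_dvd (orderOf_pos φ₀).ne' p hp.ne_one
  set φ := φ₀ ^ m with hφdef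
  have hπφ : orderOf (π φ) = p := by
    rw [hφdef, map_pow, Nat.Coprime.orderOf_pow, hε]
    rw [hε]
    exact hp.coprime_iff_not_dvd.2 hpm
  have hφa : φ ^ p ^ a = 1 := by
    rw [hφdef, ← pow_mul, mul_comm, ← hord, pow_orderOf_eq_one]
  have hfixN : ∀ z ∈ N, (φ ^ p) z = z := fun z hz => by
    by_cases hz1 : z = 1
    · rw [hz1, map_one]
    have := congrArg (fun e : Equiv.Perm Ω => ((e ⟨z, hz, hz1⟩ : Ω) : R))
      (show π (φ ^ p) = 1 by rw [map_pow, ← hπφ, pow_orderOf_eq_one])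
    exact this
  have hφp : φ ^ p = 1 := by
    have main : ∀ b : ℕ, φ ^ p ^ (b + 1) = 1 → φ ^ p = 1 := by
      intro b
      induction b with
      | zero => intro h; rwa [pow_one] at h
      | succ b ih =>
        intro h
        refine ih ?_
        have := aut_rigid hp hp2 hr _ R rfl hR N hc h1 hN.le (φ ^ p ^ b)
          (by rw [← pow_mul, ← h]; congr 1; ring)
          (fun z hz => by
            rw [← pow_mul, mul_comm (p ^ b), pow_mul]
            have hstep : ∀ i : ℕ, ((φ ^ p) ^ i) z = z := by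
              intro i
              induction i with
              | zero => rfl
              | succ i hi => rw [pow_succ, MulAut.mul_apply, hfixN z hz, hi]
            exact hstep _)
        rwa [← pow_mul, ← pow_succ] at this
    rcases a with _ | a
    · rw [pow_zero, pow_one] at hφa
      rw [hφa, map_one, orderOf_one] at hπφ
      exact absurd hπφ.symm hp.ne_one
    · exact main a hφa
  have hπp : (π φ) ^ p = 1 := by rw [← map_pow, hφp, map_one]
  -- `π φ` moves every point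
  have hmove : ∀ ω : Ω, π φ ω ≠ ω := by
    intro ω hω
    let X := {x : Ω // π φ x ≠ x}
    let f : Equiv.Perm X := (π φ).subtypePerm (fun x => (not_congr (π φ).injective.eq_iff))
    have hne : π φ ≠ 1 := fun e => by rw [e, orderOf_one] at hπφ; exact hp.ne_one hπφ.symm
    obtain ⟨x, hx⟩ : ∃ x, π φ x ≠ x := by
      by_contra hno; push Not at hno; exact hne (Equiv.ext hno)
    have hdiv := card_modEq_of_free f hp 0
      (Equiv.ext fun x => Subtype.ext (by
        have hit : ∀ i : ℕ, ((f ^ i) x : Ω) = ((π φ) ^ i) (x : Ω) := by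
          intro i
          induction i with
          | zero => rfl
          | succ i ih => rw [pow_succ', pow_succ', Equiv.Perm.mul_apply, Equiv.Perm.mul_apply, ← ih]; rfl
        rw [zero_add, pow_one, hit, hπp]; rfl))
      (fun x => by
        rw [pow_zero, pow_one]
        exact fun e => x.2 (congrArg Subtype.val e))
    haveI : Nonempty X := ⟨⟨x, hx⟩⟩
    have hle : Nat.card X < Nat.card Ω := by
      haveI := Fintype.ofFinite Ω
      rw [Nat.card_eq_fintype_card, Nat.card_eq_fintype_card]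
      exact Fintype.card_subtype_lt (x := ω) (by simpa using hω)
    rw [zero_add, pow_one] at hdiv
    have := Nat.le_of_dvd Nat.card_pos hdiv
    omega
  refine ⟨φ, hφp, fun x hx y hy hx1 hy1 => ?_⟩
  let o : Subgroup.zpowers φ → Ω := fun k => π k ⟨x, hx, hx1⟩
  have hordφ : orderOf φ = p := orderOf_eq_prime hφp
    (fun e => by rw [e, map_one, orderOf_one] at hπφ; exact hp.ne_one hπφ.symm)
  have hinj : Function.Injective o := by
    intro k k' hkk
    have hfix : (π (k'⁻¹ * k : Subgroup.zpowers φ)) ⟨x, hx, hx1⟩ = ⟨x, hx, hx1⟩ := by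
      rw [Subgroup.coe_mul, map_mul, Equiv.Perm.mul_apply]
      show π _ (o k) = _
      rw [hkk]
      show π (k'⁻¹ : Subgroup.zpowers φ) (π k' ⟨x, hx, hx1⟩) = _
      rw [← Equiv.Perm.mul_apply, ← map_mul, ← Subgroup.coe_mul, inv_mul_cancel,
        OneMemClass.coe_one, map_one, Equiv.Perm.one_apply]
    by_contra hne
    have hgen : Subgroup.zpowers (k'⁻¹ * k) = ⊤ :=
      zpowers_eq_top_of_prime_card (by rw [Nat.card_zpowers, hordφ]) (by simpa [inv_mul_eq_one] using Ne.symm hne)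
    obtain ⟨n, hn⟩ := Subgroup.mem_zpowers_iff.1
      (hgen ▸ Subgroup.mem_top (⟨φ, Subgroup.mem_zpowers φ⟩ : Subgroup.zpowers φ))
    apply hmove ⟨x, hx, hx1⟩
    have e := congrArg (fun u : Subgroup.zpowers φ => π (u : MulAut R)) hn
    simp only [SubgroupClass.coe_zpow, map_zpow] at e
    rw [← e]
    exact Equiv.Perm.zpow_apply_eq_self_of_apply_eq_self hfix n
  have hbij : Function.Bijective o := (Nat.bijective_iff_injective_and_card o).2
    ⟨hinj, by rw [Nat.card_zpowers, hordφ, hΩ]⟩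
  obtain ⟨k, hk⟩ := hbij.2 ⟨y, hy, hy1⟩
  refine ⟨k, congrArg Subtype.val hk, fun k' hk' => hinj ?_⟩
  rw [hk]
  exact Subtype.ext hk'

/-- Higman's structure. -/
theorem bundle_of_trans (hp : p.Prime) (hp2 : p ≠ 2) (hR : IsPGroup 2 R)
    (hc : ∀ z ∈ N, ∀ x : R, z * x = x * z) (h1 : ∀ x : R, x * x = 1 ↔ x ∈ N)
    (hN : Nat.card N = 2 ^ r) (hr : 2 ^ r = p + 1) (hna : ∃ x y : R, x * y ≠ y * x)
    (htr : ∀ a ∈ N, ∀ b ∈ N, a ≠ 1 → b ≠ 1 → ∃ φ : MulAut R, φ a = b) :
    Bundle N ∧ (Nat.card R = Nat.card N ^ 2 ∨ Nat.card R = Nat.card N ^ 3) := by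
  obtain ⟨φ, -, hreg⟩ := exists_cyclic_regular N hp hp2 hR hc h1 hN hr htr
  have htwo : ∃ x y : R, x ≠ y ∧ x ≠ 1 ∧ x * x = 1 ∧ y ≠ 1 ∧ y * y = 1 := by
    have hcard := card_points N hN hr
    haveI := Fintype.ofFinite {z : R // z ∈ N ∧ z ≠ 1}
    rw [Nat.card_eq_fintype_card] at hcard
    obtain ⟨u, v, huv⟩ := Fintype.exists_pair_of_one_lt_card (hcard ▸ hp.one_lt)
    exact ⟨u, v, fun e => huv (Subtype.ext e), u.2.2, (h1 _).2 u.2.1, v.2.2, (h1 _).2 v.2.1⟩
  have hS : Cfsg.IsSuzukiTwoGroup R :=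
    ⟨inferInstance, hR, hna, htwo, Subgroup.zpowers φ, inferInstance,
      fun x y hx hxx hy hyy => hreg x ((h1 x).1 hxx) y ((h1 y).1 hyy) hx hy⟩
  obtain ⟨hinv, -⟩ := Cfsg.Agent.S1137.result hS
  obtain ⟨hsq, -, hcard, -⟩ := Cfsg.Agent.S1138.result hS
  have hZ : Subgroup.center R = N := by
    refine le_antisymm (fun x hx => ?_) (fun x hx => Subgroup.mem_center_iff.2 fun y => (hc x hx y).symm)
    by_cases h : x = 1
    · rw [h]; exact one_mem N
    · exact (h1 x).1 ((hinv x).2 ⟨hx, h⟩).2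
  rw [hZ] at hsq hcard
  refine ⟨⟨hc, hsq, h1, htr, ?_⟩, hcard⟩
  rw [hN, hr]
  have := hp.pos
  omega

/-- The same for a subgroup with normaliser transitive on the involutions of the ambient subgroup. -/
theorem bundle_of_normalizer {G : Type*} [Group G] [Finite G] (A R : Subgroup G)
    (hp : p.Prime) (hp2 : p ≠ 2) (hA : Nat.card A = 2 ^ r) (hr : 2 ^ r = p + 1)
    (hAsq : ∀ x ∈ A, x * x = 1) (hall : ∀ x : G, orderOf x = 2 → x ∈ A)
    (hR : IsPGroup 2 R) (hAR : A ≤ R) (hc : R ≤ Subgroup.centralizer (A : Set G))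
    (hna : ¬ IsMulCommutative R)
    (htr : ∀ a ∈ A, ∀ b ∈ A, a ≠ 1 → b ≠ 1 → ∃ g ∈ Subgroup.normalizer (R : Set G), g * a * g⁻¹ = b) :
    Bundle (A.subgroupOf R) ∧
      (Nat.card R = Nat.card A ^ 2 ∨ Nat.card R = Nat.card A ^ 3) := by
  have hcard : Nat.card (A.subgroupOf R) = Nat.card A :=
    Nat.card_congr (Subgroup.subgroupOfEquivOfLe hAR).toEquiv
  rw [← hcard]
  refine bundle_of_trans (A.subgroupOf R) hp hp2 hR (fun z hz x => Subtype.ext
      (Subgroup.mem_centralizer_iff.1 (hc x.2) z hz)) (fun x => ⟨fun hx => ?_, fun hx => ?_⟩)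
    (hcard.trans hA) hr ?_ ?_
  · by_cases h : (x : G) = 1
    · exact Subgroup.mem_subgroupOf.2 (h ▸ one_mem A)
    · refine hall _ (orderOf_eq_prime ?_ h)
      rw [pow_two]; exact congrArg Subtype.val hx
  · exact Subtype.ext (hAsq _ hx)
  · by_contra hh
    push Not at hh
    exact hna ⟨⟨hh⟩⟩
  · intro a ha b hb ha1 hb1
    obtain ⟨g, hg, hgb⟩ := htr a ha b hb (fun e => ha1 (Subtype.ext e)) (fun e => hb1 (Subtype.ext e))
    exact ⟨Subgroup.normalizerMonoidHom R ⟨g, hg⟩, Subtype.ext hgb⟩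

end CfsgLib.Pyramidal74
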