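import Cfsg.Agent.Lib.Pyramidal74.Full
import Cfsg.Agent.Lib.Pyramidal74.Transit

/-!
The Sylow subgroup of the kernel is abelian if every automorphism of the elementary subgroup is induced.
-/

set_option autoImplicit false
set_option linter.style.haveILetI false
set_option linter.unusedSectionVars false

namespace CfsgLib.Pyramidal74

open Subgroup

variable {G : Type*} [Group G] [Finite G] {N : Subgroup G} {p r : ℕ}

/-- A transvection. -/
theorem exists_transvection (h : Hyp N p r) (a b c : N) (ha : a ≠ 1) (hc : c ≠ 1) (hca : c ≠ a)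
    (hcb : c ≠ b) (hcab : c ≠ a * b) :
    ∃ φ : MulAut N, φ * φ = 1 ∧ φ a = a ∧ φ b = b ∧ φ c ≠ c := by
  letI : CommGroup N := { (inferInstance : Group N) with mul_comm := h.comm.is_comm.comm }
  have h2 : ∀ v : N, v * v = 1 := fun v => Subtype.ext (h.sq _ v.2)
  let A : Subgroup N :=
    { carrier := {x | x = 1 ∨ x = a ∨ x = b ∨ x = a * b}
      one_mem' := Or.inl rfl
      mul_mem' := fun {x y} hx hy => by
        have e1 : b * a = a * b := mul_comm _ _
        have e2 : a * (a * b) = b := by rw [← mul_assoc, h2, one_mul]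
        have e3 : b * (a * b) = a := by rw [mul_comm a b, ← mul_assoc, h2, one_mul]
        have e4 : a * b * a = b := by rw [mul_comm a b, mul_assoc, h2, mul_one]
        have e5 : a * b * b = a := by rw [mul_assoc, h2, mul_one]
        simp only [Set.mem_ofPred_eq] at hx hy ⊢
        rcases hx with hx | hx | hx | hx <;> rcases hy with hy | hy | hy | hy <;>
          simp only [hx, hy, one_mul, mul_one, h2, e1, e2, e3, e4, e5, true_or, or_true]
      inv_mem' := fun {x} hx => by rwa [inv_eq_of_mul_eq_one_right (h2 x)] }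
  have hcA : c ∉ A := by
    rintro (e | e | e | e)
    exacts [hc e, hca e, hcb e, hcab e]
  obtain ⟨M, hAM, hcM, hM⟩ := exists_index_two_avoiding h2 A hcA
  classical
  have haM : a ∈ M := hAM (Or.inr (Or.inl rfl))
  have hbM : b ∈ M := hAM (Or.inr (Or.inr (Or.inl rfl)))
  have hidx : M.index = 2 := index_eq_two_iff.2 ⟨c, fun v => by
    by_cases hv : v ∈ M
    · exact Or.inr ⟨hv, fun h3 => hcM (by
        have := mul_mem (inv_mem hv) h3; rwa [inv_mul_cancel_left] at this)⟩
    · exact Or.inl ⟨hM v hv, hv⟩⟩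
  let t : N → N := fun v => if v ∈ M then v else v * a
  have ht : ∀ v, t (t v) = v := fun v => by
    by_cases hv : v ∈ M
    · simp [t, hv]
    · have : v * a ∉ M := fun h3 => hv (by
        have := mul_mem h3 (inv_mem haM); rwa [mul_inv_cancel_right] at this)
      simp [t, hv, this, mul_assoc, h2]
  let φ : MulAut N :=
    { toFun := t
      invFun := t
      left_inv := ht
      right_inv := ht
      map_mul' := fun u v => by
        have := mul_mem_iff_of_index_two hidx (a := u) (b := v)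
        by_cases hu : u ∈ M <;> by_cases hv : v ∈ M
        · simp [t, hu, hv, this]
        · simp [t, hu, hv, this, mul_assoc]
        · simp [t, hu, hv, this, mul_right_comm]
        · simp [t, hu, hv, this]
          rw [mul_mul_mul_comm, h2, mul_one] }
  refine ⟨φ, MulEquiv.ext ht, if_pos haM, if_pos hbM, ?_⟩
  show t c ≠ c
  simp [t, hcM, ha]

theorem Hyp.exists_three (h : Hyp N p r) (hr : 3 ≤ r) :
    ∃ a b c : N, a ≠ 1 ∧ b ≠ 1 ∧ a ≠ b ∧ c ≠ 1 ∧ c ≠ a ∧ c ≠ b ∧ c ≠ a * b := by
  classical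
  obtain ⟨a, b, ha, hb, ha1, hb1, hab⟩ := h.exists_two
  haveI := Fintype.ofFinite N
  let a' : N := ⟨a, ha⟩
  let b' : N := ⟨b, hb⟩
  obtain ⟨c, hc⟩ : ∃ c : N, c ∉ ({1, a', b', a' * b'} : Finset N) := by
    by_contra hno
    push Not at hno
    have h1 : Fintype.card N ≤ ({1, a', b', a' * b'} : Finset N).card :=
      Finset.card_le_card fun x _ => hno x
    have h2 : ({1, a', b', a' * b'} : Finset N).card ≤ 4 := Finset.card_le_four
    rw [← Nat.card_eq_fintype_card, h.card_eq] at h1
    have : 2 ^ 3 ≤ 2 ^ r := Nat.pow_le_pow_right (by norm_num) hr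
    omega
  simp only [Finset.mem_insert, Finset.mem_singleton, not_or] at hc
  exact ⟨a', b', c, fun e => ha1 (congrArg Subtype.val e), fun e => hb1 (congrArg Subtype.val e),
    fun e => hab (congrArg Subtype.val e), hc.1, hc.2.1, hc.2.2.1, hc.2.2.2⟩

theorem Full.isMulCommutative {S : Subgroup G} (f : Full N S) (h : Hyp N p r) (hr : 3 ≤ r) :
    IsMulCommutative S := by
  by_contra hna
  haveI := h.normal
  have htr : ∀ a ∈ N, ∀ b ∈ N, a ≠ 1 → b ≠ 1 → ∃ g ∈ normalizer (S : Set G), g * a * g⁻¹ = b := by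
    intro a ha b hb ha1 hb1
    obtain ⟨g, hg⟩ := h.trans ha hb ha1 hb1
    obtain ⟨m, hm, hmg⟩ := f.induce (MulAut.conjNormal g)
    exact ⟨m, hm, by rw [hmg ⟨a, ha⟩, MulAut.conjNormal_apply]; exact hg⟩
  obtain ⟨hB, hcard⟩ := bundle_of_normalizer N S h.prime h.ne_two h.card_eq h.pow_eq h.sq h.all f.two f.le
    f.le_cent hna htr
  have hN : Nat.card (N.subgroupOf S) = Nat.card N := Nat.card_congr (subgroupOfEquivOfLe f.le).toEquiv
  rcases hcard with hs | hb
  · refine hna ⟨⟨hB.commute_of_small (by rw [hs, hN]) ?_⟩⟩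
    intro a ha b hb ha1 hb1 hab c hc hc1 hca hcb hcab
    have hsub : ∀ {x y : S} (hx : x ∈ N.subgroupOf S) (hy : y ∈ N.subgroupOf S), x ≠ y →
        (⟨(x : G), hx⟩ : N) ≠ ⟨(y : G), hy⟩ := fun _ _ hne e =>
      hne (Subtype.ext (congrArg (fun n : N => (n : G)) e))
    obtain ⟨φ, -, hφa, hφb, hφc⟩ := exists_transvection h ⟨(a : G), ha⟩ ⟨(b : G), hb⟩ ⟨(c : G), hc⟩
      (fun e => ha1 (Subtype.ext (congrArg (fun n : N => (n : G)) e)))
      (fun e => hc1 (Subtype.ext (congrArg (fun n : N => (n : G)) e)))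
      (hsub hc ha hca) (hsub hc hb hcb)
      (fun e => hcab (Subtype.ext (congrArg (fun n : N => (n : G)) e)))
    obtain ⟨m, hm, hmφ⟩ := f.induce φ
    refine ⟨normalizerMonoidHom S ⟨m, hm⟩, Subtype.ext ((hmφ ⟨(a : G), ha⟩).trans (congrArg Subtype.val hφa)),
      Subtype.ext ((hmφ ⟨(b : G), hb⟩).trans (congrArg Subtype.val hφb)), fun e => hφc (Subtype.ext ?_)⟩
    exact (hmφ ⟨(c : G), hc⟩).symm.trans (congrArg Subtype.val e)
  · obtain ⟨a, b, c, ha1, -, -, hc1, hca, hcb, hcab⟩ := h.exists_three hr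
    obtain ⟨φ, hφ2, -, -, hφc⟩ := exists_transvection h a b c ha1 hc1 hca hcb hcab
    obtain ⟨m, hm, hmφ⟩ := f.induce φ
    obtain ⟨i, μ, hμ, e⟩ := exists_two_part (z := m)
    have hι : MulAut.conjNormal (m ^ μ) = φ := by
      have h1 : MulAut.conjNormal m = φ := MulEquiv.ext fun n => Subtype.ext (by
        rw [MulAut.conjNormal_apply]; exact hmφ n)
      obtain ⟨j, hj⟩ := hμ
      rw [map_pow, h1, hj, pow_succ, pow_mul, pow_two, hφ2, one_pow, one_mul]
    set k := m ^ μ with hk
    have hkM : k ∈ normalizer (S : Set G) := pow_mem hm _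
    have hkk : k * k ∈ S := by
      refine f.mem_of_two h (mul_mem hkM hkM) (Full.mem_centralizer f h fun n hn => ?_) (i := i) ?_
      · have h3 := congrArg (fun ψ : MulAut N => ((ψ ⟨n, hn⟩ : N) : G))
          (show MulAut.conjNormal (k * k) = (1 : MulAut N) by rw [map_mul, hι, hφ2])
        simp only [MulAut.conjNormal_apply, MulAut.one_apply] at h3
        exact h3
      · rw [← pow_two, hk, ← pow_mul, ← pow_mul, show μ * (2 * 2 ^ i) = 2 ^ i * μ * 2 by ring, pow_mul, ← e,
          pow_orderOf_eq_one, one_pow]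
    refine hB.false_of_big (by rw [hb, hN]) (normalizerMonoidHom S ⟨k, hkM⟩) (fun u => ?_)
      (n₀ := ⟨(c : G), f.le c.2⟩) c.2 (fun e2 => hφc (Subtype.ext ?_))
    · show k * (k * (u : G) * k⁻¹) * k⁻¹ * (u : G)⁻¹ ∈ N
      have := hB.comm_mem ⟨_, hkk⟩ u
      rw [commutatorElement_def] at this
      have h4 : (k * k) * (u : G) * (k * k)⁻¹ * (u : G)⁻¹ ∈ N := this
      simpa [mul_assoc] using h4
    · rw [← hι, MulAut.conjNormal_apply]
      exact congrArg Subtype.val e2

end CfsgLib.Pyramidal74
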