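import Cfsg.Agent.Lib.Pyramidal74.Full

/-!
An abelian Sylow subgroup of the kernel in rank three.
-/

set_option autoImplicit false
set_option linter.style.haveILetI false
set_option linter.unusedSectionVars false

namespace CfsgLib.Pyramidal74

open Subgroup
open scoped commutatorElement

theorem additive_three {A : Type*} [AddCommGroup A] (n : ℕ) [NeZero n] [Module (ZMod n) A]
    (T : (Fin 3 → ZMod n) ≃ₗ[ZMod n] A) (l : A →ₗ[ZMod n] A)
    (h0 : l (T ![1, 0, 0]) = T ![0, 1, 0]) (h1 : l (T ![0, 1, 0]) = T ![0, 0, 1])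
    (hdet : LinearMap.det l = 1) (h4 : ∀ z, l (l (l (l z))) = z) {d : A} (hd : l d = d) :
    ∃ u, u + l (l u) = d := by
  set q := T.symm (l (T ![0, 0, 1])) with hq
  have h2 : l (T ![0, 0, 1]) = T q := (T.apply_symm_apply _).symm
  have hl : ∀ c, l (T c) = T ![c 2 * q 0, c 0 + c 2 * q 1, c 1 + c 2 * q 2] := by
    intro c
    have hc : c = c 0 • ![1, 0, 0] + c 1 • ![0, 1, 0] + c 2 • ![0, 0, 1] := by
      ext i; fin_cases i <;> simp
    conv_lhs => rw [hc]
    simp only [map_add, map_smul, h0, h1, h2]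
    simp only [← map_smul, ← map_add]
    congr 1
    ext i; fin_cases i <;> simp
  -- determinant
  have hq0 : q 0 = 1 := by
    let M : Matrix (Fin 3) (Fin 3) (ZMod n) := !![0, 0, q 0; 1, 0, q 1; 0, 1, q 2]
    have hM : l = T.toLinearMap ∘ₗ Matrix.toLin' M ∘ₗ T.symm.toLinearMap := by
      refine LinearMap.ext fun z => ?_
      obtain ⟨c, rfl⟩ := T.surjective z
      rw [LinearMap.comp_apply, LinearMap.comp_apply, LinearEquiv.coe_coe, LinearEquiv.coe_coe,
        T.symm_apply_apply, hl, Matrix.toLin'_apply]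
      congr 1
      ext i; fin_cases i <;> simp [M, Matrix.mulVec, dotProduct, Fin.sum_univ_three] <;> ring
    rw [hM, LinearMap.det_conj, LinearMap.det_toLin', Matrix.det_fin_three] at hdet
    simpa [M] using hdet
  have e4 := h4 (T ![1, 0, 0])
  rw [h0, h1, h2, hl, T.injective.eq_iff] at e4
  have a0 := congrFun e4 0
  have a2 := congrFun e4 2
  simp only [Matrix.cons_val_zero, Matrix.cons_val] at a0 a2
  rw [hq0, mul_one] at a0
  rw [a0, one_mul] at a2
  have hq1 : q 1 = -1 := eq_neg_of_add_eq_zero_left a2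
  obtain ⟨c, rfl⟩ := T.surjective d
  rw [hl, T.injective.eq_iff] at hd
  have b0 := congrFun hd 0
  have b1 := congrFun hd 1
  simp only [Matrix.cons_val_zero, Matrix.cons_val_one, Matrix.cons_val] at b0 b1
  rw [hq0, mul_one] at b0
  rw [hq1, b0, mul_neg_one, add_neg_cancel] at b1
  refine ⟨c 0 • T ![1, 0, 0], ?_⟩
  rw [map_smul, map_smul, h0, h1, ← map_smul, ← map_smul, ← map_add]
  congr 1
  ext i; fin_cases i <;> simp [b0, ← b1]

theorem group_three {A : Type*} [CommGroup A] (ε : ℕ) (hexp : ∀ x : A, x ^ 2 ^ (ε + 1) = 1) (σ α β : MulAut A)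
    (i₀ : ℕ) (hσ : σ = ⁅α, β⁆ ^ i₀) (h4 : ∀ x, σ (σ (σ (σ x))) = x) (v : A)
    (hspan : ∀ w : A, w * w = 1 → ∃ i j k : ℕ,
      w = (v ^ 2 ^ ε) ^ i * σ (v ^ 2 ^ ε) ^ j * σ (σ (v ^ 2 ^ ε)) ^ k)
    (hind : ∀ i j k : ℕ, (v ^ 2 ^ ε) ^ i * σ (v ^ 2 ^ ε) ^ j * σ (σ (v ^ 2 ^ ε)) ^ k = 1 →
      2 ∣ i ∧ 2 ∣ j ∧ 2 ∣ k) {d : A} (hd : σ d = d) : ∃ u, u * σ (σ u) = d := by
  classical
  have hexp' : ∀ x : Additive A, 2 ^ (ε + 1) • x = 0 := fun x => by
    apply Additive.toMul.injective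
    rw [toMul_nsmul, hexp, toMul_zero]
  haveI : NeZero (2 ^ (ε + 1)) := ⟨by positivity⟩
  obtain ⟨inst⟩ : Nonempty (Module (ZMod (2 ^ (ε + 1))) (Additive A)) := ⟨AddCommGroup.zmodModule hexp'⟩
  let ρ : MulAut A →* Module.End (ZMod (2 ^ (ε + 1))) (Additive A) :=
    { toFun := fun φ => (φ.toMonoidHom.toAdditive).toZModLinearMap _
      map_one' := LinearMap.ext fun _ => rfl
      map_mul' := fun _ _ => LinearMap.ext fun _ => rfl }
  set l : Additive A →ₗ[ZMod (2 ^ (ε + 1))] Additive A := ρ σ with hl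
  have hlc : ∀ x : Additive A, l x = Additive.ofMul (σ (Additive.toMul x)) := fun _ => rfl
  have hdet : LinearMap.det l = 1 := by
    let D : MulAut A →* (ZMod (2 ^ (ε + 1)))ˣ := (LinearMap.det.comp ρ).toHomUnits
    have hσD : D σ = 1 := by
      rw [hσ, map_pow, map_commutatorElement,
        (commutatorElement_eq_one_iff_commute).2 (Commute.all _ _), one_pow]
    exact congrArg Units.val hσD
  let v₀ : Additive A := Additive.ofMul v
  let T : (Fin 3 → ZMod (2 ^ (ε + 1))) →ₗ[ZMod (2 ^ (ε + 1))] Additive A :=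
    Fintype.linearCombination (ZMod (2 ^ (ε + 1))) ![v₀, l v₀, l (l v₀)]
  have hT : ∀ c, T c = c 0 • v₀ + c 1 • l v₀ + c 2 • l (l v₀) := fun c => by
    simp [T, Fintype.linearCombination_apply, Fin.sum_univ_three]
  have htopk : ∀ i j k : ℕ,
      Additive.toMul (2 ^ ε • ((i : ZMod (2 ^ (ε + 1))) • v₀ + (j : ZMod (2 ^ (ε + 1))) • l v₀ +
        (k : ZMod (2 ^ (ε + 1))) • l (l v₀))) =
      (v ^ 2 ^ ε) ^ i * σ (v ^ 2 ^ ε) ^ j * σ (σ (v ^ 2 ^ ε)) ^ k := by
    intro i j k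
    rw [Nat.cast_smul_eq_nsmul, Nat.cast_smul_eq_nsmul, Nat.cast_smul_eq_nsmul]
    simp only [toMul_nsmul, toMul_add, mul_pow, hlc, toMul_ofMul, v₀, map_pow, ← pow_mul]
    simp only [mul_comm (2 ^ ε)]
  have hinj : Function.Injective T := by
    rw [injective_iff_map_eq_zero]
    intro c hc
    by_contra hne
    have hex : ∃ j : ℕ, 2 ^ j • c = 0 := ⟨ε + 1, funext fun i => by
      rw [Pi.smul_apply, nsmul_eq_mul, ZMod.natCast_self, zero_mul]; rfl⟩
    obtain ⟨j, hj⟩ : ∃ j, Nat.find hex = j + 1 := by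
      refine Nat.exists_eq_succ_of_ne_zero fun h0 => hne ?_
      have := Nat.find_spec hex
      rwa [h0, pow_zero, one_smul] at this
    have hmin : 2 ^ j • c ≠ 0 := Nat.find_min hex (by omega)
    have h2 : ∀ i, ∃ δ : ℕ, (2 ^ j • c) i = (2 ^ ε : ℕ) • (δ : ZMod (2 ^ (ε + 1))) := by
      intro i
      set w := (2 ^ j • c) i with hw
      have hw2 : ((w.val * 2 : ℕ) : ZMod (2 ^ (ε + 1))) = 0 := by
        rw [Nat.cast_mul, ZMod.natCast_zmod_val, hw]
        have hp : (2 : ℕ) ^ (j + 1) = 2 * 2 ^ j := pow_succ' 2 j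
        have h3 : (2 ^ (j + 1) • c) i = 0 := congrFun (hj ▸ Nat.find_spec hex) i
        rw [hp, mul_smul, Pi.smul_apply, nsmul_eq_mul] at h3
        rw [mul_comm]; exact h3
      rw [ZMod.natCast_eq_zero_iff] at hw2
      obtain ⟨δ, hδ⟩ := hw2
      have hδ' : w.val = 2 ^ ε * δ := Nat.eq_of_mul_eq_mul_right two_pos (hδ.trans (by ring))
      exact ⟨δ, by rw [nsmul_eq_mul, ← Nat.cast_mul, ← hδ', ZMod.natCast_zmod_val]⟩
    choose δ hδ using h2
    have h5 : T (2 ^ j • c) = 0 := by rw [map_nsmul, hc, smul_zero]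
    rw [hT, hδ, hδ, hδ, smul_assoc, smul_assoc, smul_assoc, ← smul_add, ← smul_add] at h5
    have h6 := htopk (δ 0) (δ 1) (δ 2)
    rw [h5, toMul_zero] at h6
    obtain ⟨d0, d1, d2⟩ := hind _ _ _ h6.symm
    have hz0 : ∀ i, 2 ∣ δ i → (2 ^ j • c) i = 0 := fun i ⟨q, hq⟩ => by
      rw [hδ, nsmul_eq_mul, ← Nat.cast_mul, hq, ← mul_assoc, ← pow_succ, Nat.cast_mul,
        ZMod.natCast_self, zero_mul]
    apply hmin
    funext i
    fin_cases i
    · exact hz0 _ d0
    · exact hz0 _ d1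
    · exact hz0 _ d2
  have hsurj : Function.Surjective T := by
    have main : ∀ i, i ≤ ε + 1 → ∀ s : Additive A, 2 ^ i • s = 0 → s ∈ LinearMap.range T := by
      intro i
      induction i with
      | zero => intro _ s hs; rw [pow_zero, one_smul] at hs; exact hs ▸ zero_mem _
      | succ i ih =>
        intro hi s hs
        obtain ⟨x, y, z, hn⟩ := hspan (Additive.toMul (2 ^ i • s)) (by
          rw [← toMul_add, ← two_nsmul, ← mul_smul, ← pow_succ', hs, toMul_zero])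
        set u := 2 ^ (ε - i) • T ![(x : ZMod (2 ^ (ε + 1))), y, z] with hu
        have hue : 2 ^ i • u = 2 ^ i • s := by
          apply Additive.toMul.injective
          rw [hu, ← mul_smul, ← pow_add, show i + (ε - i) = ε by omega, hT]
          simp only [Matrix.cons_val_zero, Matrix.cons_val_one, Matrix.cons_val]
          rw [htopk]
          exact hn.symm
        have := ih (by omega) (s - u) (by rw [smul_sub, hue, sub_self])
        have h7 := add_mem this (show u ∈ LinearMap.range T from hu ▸ nsmul_mem (⟨_, rfl⟩ : T _ ∈ LinearMap.range T) _)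
        rwa [sub_add_cancel] at h7
    exact fun s => main (ε + 1) le_rfl s (hexp' s)
  let T' := LinearEquiv.ofBijective T ⟨hinj, hsurj⟩
  have hT0 : T' ![1, 0, 0] = v₀ := by show T _ = _; simp [hT]
  have hT1 : T' ![0, 1, 0] = l v₀ := by show T _ = _; simp [hT]
  have hT2 : T' ![0, 0, 1] = l (l v₀) := by show T _ = _; simp [hT]
  obtain ⟨u, hu⟩ := additive_three _ T' l (by rw [hT0, hT1]) (by rw [hT1, hT2]) hdet
    (fun s => congrArg Additive.ofMul (h4 (Additive.toMul s))) (d := Additive.ofMul d)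
    (congrArg Additive.ofMul hd)
  exact ⟨Additive.toMul u, congrArg Additive.toMul hu⟩

variable {G : Type*} [Group G] [Finite G] {N : Subgroup G} {p r : ℕ}

theorem Full.false_of_three {S : Subgroup G} (f : Full N S) (h : Hyp N p r) (hab : IsMulCommutative S)
    (g x₀ y₀ : MulAut N) (hg : g = ⁅x₀, y₀⁆) (hg4 : g ^ 4 = 1) (hg2 : g * g ≠ 1) (a : N)
    (hspan : ∀ n : N, ∃ i j k : ℕ, n = a ^ i * g a ^ j * g (g a) ^ k)
    (hind : ∀ i j k : ℕ, a ^ i * g a ^ j * g (g a) ^ k = 1 → 2 ∣ i ∧ 2 ∣ j ∧ 2 ∣ k) : False := by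
  classical
  haveI := h.normal
  letI : CommGroup S := { (inferInstance : Group S) with mul_comm := hab.is_comm.comm }
  have lift : ∀ φ : MulAut N, ∃ m : normalizer (S : Set G), MulAut.conjNormal (m : G) = φ := fun φ => by
    obtain ⟨m, hm, hmφ⟩ := f.induce φ
    exact ⟨⟨m, hm⟩, MulEquiv.ext fun n => Subtype.ext (by rw [MulAut.conjNormal_apply]; exact hmφ n)⟩
  obtain ⟨xm, hxm⟩ := lift x₀
  obtain ⟨ym, hym⟩ := lift y₀
  set z := ⁅xm, ym⁆ with hz
  let ι : normalizer (S : Set G) →* MulAut N := MulAut.conjNormal.comp (normalizer (S : Set G)).subtype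
  have hzι : ι z = g := by rw [hz, map_commutatorElement]; show ⁅MulAut.conjNormal (xm : G), _⁆ = g; rw [hxm, hg, ← hym]; rfl
  obtain ⟨k, μ, hμ, e⟩ := exists_two_part (z := z)
  set y := z ^ (μ * μ) with hy
  have hyι : ι y = g := by
    obtain ⟨j, hj⟩ := hμ
    rw [hy, map_pow, hzι, show μ * μ = 4 * (j * j + j) + 1 by rw [hj]; ring, pow_succ, pow_mul, hg4,
      one_pow, one_mul]
  have hy2 : y ^ 2 ^ k = 1 := by
    rw [hy, ← pow_mul, show μ * μ * 2 ^ k = 2 ^ k * μ * μ by ring, pow_mul, ← e, pow_orderOf_eq_one, one_pow]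
  have hcy : ∀ n : N, ((g n : N) : G) = (y : G) * n * (y : G)⁻¹ := fun n => by
    rw [← hyι]; exact MulAut.conjNormal_apply _ _
  set d : G := (y : G) ^ 4 with hd
  have hdS : d ∈ S := by
    refine f.mem_of_two h (pow_mem y.2 4) (Full.mem_centralizer f h fun n hn => ?_) (i := k) ?_
    · have h3 := congrArg (fun φ : MulAut N => ((φ ⟨n, hn⟩ : N) : G))
        (show MulAut.conjNormal d = (1 : MulAut N) by
          rw [hd, map_pow]; show (ι y) ^ 4 = 1; rw [hyι, hg4])
      simp only [MulAut.conjNormal_apply, MulAut.one_apply] at h3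
      exact h3
    · rw [hd, ← pow_mul, mul_comm, pow_mul, ← SubgroupClass.coe_pow, hy2, OneMemClass.coe_one, one_pow]
  set σ := normalizerMonoidHom S y with hσ
  have hσc : ∀ s : S, ((σ s : S) : G) = (y : G) * s * (y : G)⁻¹ := fun _ => rfl
  obtain ⟨ε, hexp, htop⟩ := f.exists_exponent h hab
  obtain ⟨v, hv, hve⟩ := htop a a.2
  have hyd : (y : G) * d * (y : G)⁻¹ = d := by
    rw [hd, (Commute.self_pow (y : G) 4).eq, mul_inv_cancel_right]
  have hva : ((((⟨v, hv⟩ : S) ^ 2 ^ ε) : S) : G) = a := hve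
  have hcomb : ∀ i j k : ℕ, (((((⟨v, hv⟩ : S) ^ 2 ^ ε) ^ i * σ ((⟨v, hv⟩ : S) ^ 2 ^ ε) ^ j *
      σ (σ ((⟨v, hv⟩ : S) ^ 2 ^ ε)) ^ k : S)) : G) = ((a ^ i * g a ^ j * g (g a) ^ k : N) : G) :=
    fun i j k => by simp only [Subgroup.coe_mul, SubgroupClass.coe_pow, hσc, hcy, hve]
  obtain ⟨u, hu⟩ := group_three ε (fun s => Subtype.ext (hexp s s.2)) σ (normalizerMonoidHom S xm)
    (normalizerMonoidHom S ym) (μ * μ) (by rw [hσ, hy, hz, map_pow, map_commutatorElement])
    (fun s => Subtype.ext (by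
      simp only [hσc]
      calc _ = d * (s : G) * d⁻¹ := by
            rw [hd]; simp only [pow_succ, pow_zero, one_mul, mul_inv_rev, mul_assoc]
        _ = _ := by
          rw [show d * (s : G) = s * d from congrArg Subtype.val (mul_comm (⟨d, hdS⟩ : S) s),
            mul_inv_cancel_right]))
    ⟨v, hv⟩
    (fun w hw => by
      obtain ⟨i, j, k, hn⟩ := hspan ⟨w, h.mem_of_sq (congrArg Subtype.val hw)⟩
      exact ⟨i, j, k, Subtype.ext ((congrArg Subtype.val hn).trans (hcomb i j k).symm)⟩)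
    (fun i j k he => hind i j k (Subtype.ext ((hcomb i j k).symm.trans (congrArg Subtype.val he))))
    (d := (⟨d, hdS⟩⁻¹ : S))
    (Subtype.ext (by
      rw [hσc]
      show (y : G) * d⁻¹ * (y : G)⁻¹ = d⁻¹
      calc _ = ((y : G) * d * (y : G)⁻¹)⁻¹ := by group
        _ = _ := by rw [hyd]))
  set u' : G := ((u : S) : G) with hu'
  have hu2 : u' * ((y : G) * ((y : G) * u' * (y : G)⁻¹) * (y : G)⁻¹) = d⁻¹ :=
    congrArg Subtype.val hu
  have hinv : (u' * (y : G) ^ 2) * (u' * (y : G) ^ 2) = 1 := by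
    calc _ = u' * ((y : G) * ((y : G) * u' * (y : G)⁻¹) * (y : G)⁻¹) * (y : G) ^ 4 := by
          simp only [pow_succ, pow_zero, one_mul, mul_assoc, inv_mul_cancel_left]
      _ = 1 := by rw [hu2, ← hd, inv_mul_cancel]
  have hid : ∀ b ∈ centralizer (N : Set G), (MulAut.conjNormal b : MulAut N) = 1 := fun b hb =>
    MulEquiv.ext fun n => Subtype.ext (by
      rw [MulAut.conjNormal_apply, ← mem_centralizer_iff.1 hb n n.2, mul_inv_cancel_right, MulAut.one_apply])
  have h8 := hid _ (h.le_centralizer (h.mem_of_sq hinv))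
  rw [map_mul, hid _ (f.le_cent (Subtype.mem _)), one_mul, map_pow] at h8
  change ι y ^ 2 = 1 at h8
  rw [hyι, pow_two] at h8
  exact hg2 h8

end CfsgLib.Pyramidal74
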