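import Cfsg.Agent.Lib.Pyramidal74.Split
import Cfsg.Agent.Lib.Pyramidal74.Three
import Cfsg.Agent.Lib.Pyramidal74.NonAb
import Cfsg.Agent.S4179

/-!
The group induced on the elementary subgroup is solvable.
-/

set_option autoImplicit false
set_option linter.style.haveILetI false
set_option linter.unusedSectionVars false

namespace CfsgLib.Pyramidal74

open Subgroup
open scoped commutatorElement

theorem zmod_two_cases : ∀ c : ZMod 2, c = 0 ∨ c = 1 := by decide

/-- Transport of an additive automorphism. -/
def transport {N W : Type*} [Group N] [AddGroup W] (E : Additive N ≃+ W) : (W ≃+ W) → MulAut N :=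
  fun f => MulEquiv.toAdditive.symm ((E.trans f).trans E.symm)

section

variable {N W : Type*} [Group N] [AddGroup W] (E : Additive N ≃+ W)

theorem transport_apply (f : W ≃+ W) (n : N) :
    transport E f n = Additive.toMul (E.symm (f (E (Additive.ofMul n)))) := rfl

theorem transport_mul (f g : W ≃+ W) : transport E f * transport E g = transport E (g.trans f) := by
  ext n
  simp [transport_apply, MulAut.mul_apply]

theorem transport_refl : transport E (AddEquiv.refl W) = 1 := by
  ext n
  simp [transport_apply]

theorem transport_eq (f : W ≃+ W) {n : N} {w : W} (hn : E (Additive.ofMul n) = w) :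
    E (Additive.ofMul (transport E f n)) = f w := by
  rw [← hn, transport_apply, ofMul_toMul, AddEquiv.apply_symm_apply]

theorem transport_injective {f g : W ≃+ W} (h : transport E f = transport E g) : f = g := by
  ext w
  have := transport_eq E f (n := Additive.toMul (E.symm w)) (w := w) (by simp)
  rw [h, transport_eq E g (w := w) (by simp)] at this
  exact this.symm

end

variable {G : Type*} [Group G] [Finite G] {N : Subgroup G} {p r : ℕ}

theorem Hyp.exists_equiv (h : Hyp N p r) (W : Type*) [AddCommGroup W] [Module (ZMod 2) W]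
    [FiniteDimensional (ZMod 2) W] (hW : Module.finrank (ZMod 2) W = r) :
    Nonempty (Additive N ≃+ W) := by
  haveI := h.comm
  letI : CommGroup N := { (inferInstance : Group N) with mul_comm := h.comm.is_comm.comm }
  obtain ⟨inst⟩ : Nonempty (Module (ZMod 2) (Additive N)) := ⟨AddCommGroup.zmodModule fun x => by
    apply Additive.toMul.injective
    rw [toMul_nsmul, pow_two, toMul_zero]
    exact Subtype.ext (h.sq _ (Additive.toMul x).2)⟩
  haveI : Module.Finite (ZMod 2) (Additive N) := Module.Finite.of_finite
  have hfr : Module.finrank (ZMod 2) (Additive N) = r := by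
    have := Module.natCard_eq_pow_finrank (K := ZMod 2) (V := Additive N)
    rw [Nat.card_congr Additive.toMul, h.card_eq, Nat.card_zmod] at this
    exact (Nat.pow_right_injective le_rfl this).symm
  exact ⟨(LinearEquiv.ofFinrankEq _ _ (hfr.trans hW.symm)).toAddEquiv⟩

theorem Full.false_of_four {S : Subgroup G} (f : Full N S) (h : Hyp N p r) (hab : IsMulCommutative S)
    (hr : 4 ≤ r) : False := by
  haveI : Fact (Nat.Prime 2) := ⟨Nat.prime_two⟩
  set F := GaloisField 2 (r - 2) with hF
  have hfr : Module.finrank (ZMod 2) ((ZMod 2 × ZMod 2) × F) = r := by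
    rw [Module.finrank_prod, Module.finrank_prod, Module.finrank_self, GaloisField.finrank 2 (by omega)]
    omega
  obtain ⟨E⟩ := h.exists_equiv ((ZMod 2 × ZMod 2) × F) hfr
  classical
  haveI := Fintype.ofFinite F
  have hcF : Fintype.card F = 2 ^ (r - 2) := by
    rw [← Nat.card_eq_fintype_card]; exact GaloisField.card 2 (r - 2) (by omega)
  have h4 : 4 ≤ 2 ^ (r - 2) := by
    calc 4 = 2 ^ 2 := by norm_num
      _ ≤ _ := Nat.pow_le_pow_right (by norm_num) (by omega)
  obtain ⟨ω, hω⟩ : ∃ ω : Fˣ, ω ≠ 1 := by
    haveI : Nontrivial Fˣ := Fintype.one_lt_card_iff_nontrivial.1 (by rw [Fintype.card_units, hcF]; omega)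
    exact exists_ne 1
  let cW : ((ZMod 2 × ZMod 2) × F) ≃+ ((ZMod 2 × ZMod 2) × F) :=
    { toFun := fun w => (w.1, (ω : F) * w.2)
      invFun := fun w => (w.1, ((ω⁻¹ : Fˣ) : F) * w.2)
      left_inv := fun w => by simp
      right_inv := fun w => by simp
      map_add' := fun u v => by simp [mul_add] }
  let tW : ((ZMod 2 × ZMod 2) × F) ≃+ ((ZMod 2 × ZMod 2) × F) :=
    { toFun := fun w => ((w.1.2, w.1.1), w.2)
      invFun := fun w => ((w.1.2, w.1.1), w.2)
      left_inv := fun w => rfl
      right_inv := fun w => rfl
      map_add' := fun u v => rfl }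
  have hpow : ∀ i : ℕ, ∀ n : N, ∀ w, E (Additive.ofMul n) = w →
      E (Additive.ofMul (((transport E cW) ^ i) n)) = (w.1, (ω : F) ^ i * w.2) := by
    intro i
    induction i with
    | zero => intro n w hn; simp [hn]
    | succ i ih =>
      intro n w hn
      rw [pow_succ', MulAut.mul_apply, transport_eq E cW (ih n w hn)]
      show (_, (ω : F) * _) = _
      rw [← mul_assoc, ← pow_succ']
  set a₀ : N := Additive.toMul (E.symm ((1, 0), 0)) with ha₀
  have hEa₀ : E (Additive.ofMul a₀) = ((1, 0), 0) := by simp [ha₀]
  refine f.false_of_pair h hab (transport E cW) (transport E tW) (m := Fintype.card Fˣ) ?_ ?_ ?_ ?_ ?_ a₀ ?_ ?_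
  · rw [Fintype.card_units, hcF]
    have : Even (2 ^ (r - 2)) := Nat.even_pow.2 ⟨even_two, by omega⟩
    exact Nat.Even.sub_odd (by omega) this odd_one
  · refine MulEquiv.ext fun n => ?_
    apply Additive.ofMul.injective
    apply E.injective
    rw [hpow _ n _ rfl, MulAut.one_apply, ← Units.val_pow_eq_pow_val, pow_card_eq_one, Units.val_one,
      one_mul]
  · rw [transport_mul, transport_mul]; rfl
  · rw [transport_mul, ← transport_refl E]; rfl
  · intro e
    rw [← transport_refl E] at e
    have := congrArg (fun g : ((ZMod 2 × ZMod 2) × F) ≃+ _ => (g ((1, 0), 0)).1.1) (transport_injective E e)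
    exact absurd this (by simp [tW])
  · apply Additive.ofMul.injective
    apply E.injective
    rw [transport_eq E cW hEa₀, hEa₀]
    show (_, (ω : F) * 0) = _
    rw [mul_zero]
  · intro a hca hta
    set w := E (Additive.ofMul a) with hw
    have h1 : cW w = w := by rw [← transport_eq E cW hw.symm, hca]
    have h2 : tW w = w := by rw [← transport_eq E tW hw.symm, hta]
    have hw2 : w.2 = 0 := by
      have h3 : (ω : F) * w.2 = w.2 := congrArg Prod.snd h1
      by_contra hne
      exact hω (Units.ext ((mul_eq_right₀ hne).1 h3))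
    have hw12 : w.1.2 = w.1.1 := congrArg (fun v : (ZMod 2 × ZMod 2) × F => v.1.1) h2
    have hz := zmod_two_cases
    rcases hz w.1.1 with h0 | h0
    · left
      apply Additive.ofMul.injective
      apply E.injective
      rw [← hw, show w = 0 from Prod.ext (Prod.ext h0 (hw12.trans h0)) hw2, ofMul_one, map_zero]
    · right
      apply Additive.ofMul.injective
      apply E.injective
      rw [← hw, ofMul_mul, map_add, transport_eq E tW hEa₀, hEa₀]
      show w = (((1, 0), 0) : (ZMod 2 × ZMod 2) × F) + ((0, 1), 0)
      refine Prod.ext (Prod.ext ?_ ?_) ?_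
      · simp [h0]
      · simp [hw12, h0]
      · simp [hw2]

/-- The model in rank three. -/
abbrev W3 := ZMod 2 × ZMod 2 × ZMod 2

theorem Full.false_of_rank_three {S : Subgroup G} (f : Full N S) (h : Hyp N p 3) (hab : IsMulCommutative S) :
    False := by
  obtain ⟨E⟩ := h.exists_equiv W3 (by rw [Module.finrank_prod, Module.finrank_prod, Module.finrank_self])
  let gW : W3 ≃+ W3 :=
    { toFun := fun v => (v.2.2, v.1 + v.2.2, v.2.1 + v.2.2)
      invFun := fun v => (v.2.1 + v.1, v.2.2 + v.1, v.1)
      left_inv := fun v => by revert v; decide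
      right_inv := fun v => by revert v; decide
      map_add' := fun u v => by revert u v; decide }
  let xW : W3 ≃+ W3 :=
    { toFun := fun v => (v.2.2, v.2.1, v.1)
      invFun := fun v => (v.2.2, v.2.1, v.1)
      left_inv := fun v => rfl
      right_inv := fun v => rfl
      map_add' := fun u v => rfl }
  let yW : W3 ≃+ W3 :=
    { toFun := fun v => (v.2.2, v.1 + v.2.1, v.2.1)
      invFun := fun v => (v.2.1 + v.2.2, v.2.2, v.1)
      left_inv := fun v => by revert v; decide
      right_inv := fun v => by revert v; decide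
      map_add' := fun u v => by revert u v; decide }
  have hinv : ∀ F : W3 ≃+ W3, (transport E F)⁻¹ = transport E F.symm := fun F =>
    inv_eq_of_mul_eq_one_right (by rw [transport_mul, ← transport_refl E]; congr 1; ext1 w; simp)
  set a : N := Additive.toMul (E.symm (1, 0, 0)) with ha
  have hEa : E (Additive.ofMul a) = (1, 0, 0) := by simp [ha]
  have hEga : E (Additive.ofMul (transport E gW a)) = (0, 1, 0) := transport_eq E gW hEa
  have hEgga : E (Additive.ofMul (transport E gW (transport E gW a))) = (0, 0, 1) := transport_eq E gW hEga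
  have hcomb : ∀ i j k : ℕ, E (Additive.ofMul (a ^ i * transport E gW a ^ j *
      transport E gW (transport E gW a) ^ k)) = ((i : ZMod 2), (j : ZMod 2), (k : ZMod 2)) := by
    intro i j k
    rw [ofMul_mul, ofMul_mul, ofMul_pow, ofMul_pow, ofMul_pow, map_add, map_add, map_nsmul, map_nsmul,
      map_nsmul, hEa, hEga, hEgga]
    refine Prod.ext ?_ (Prod.ext ?_ ?_) <;> simp
  refine f.false_of_three h hab (transport E gW) (transport E xW) (transport E yW) ?_ ?_ ?_ a ?_ ?_
  · rw [commutatorElement_def, hinv, hinv, transport_mul, transport_mul, transport_mul]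
    congr 1
  · rw [show 4 = 2 + 2 from rfl, pow_add, pow_two, transport_mul, transport_mul, ← transport_refl E]
    congr 1
    refine AddEquiv.ext fun v => ?_
    revert v
    decide
  · intro e
    rw [transport_mul, ← transport_refl E] at e
    exact absurd (congrArg (fun F : W3 ≃+ W3 => F (1, 0, 0)) (transport_injective E e)) (by decide)
  · intro n
    refine ⟨(E (Additive.ofMul n)).1.val, (E (Additive.ofMul n)).2.1.val, (E (Additive.ofMul n)).2.2.val, ?_⟩
    apply Additive.ofMul.injective
    apply E.injective
    rw [hcomb]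
    simp
  · intro i j k he
    have := hcomb i j k
    rw [he, ofMul_one, map_zero] at this
    refine ⟨?_, ?_, ?_⟩ <;> rw [← ZMod.natCast_eq_zero_iff]
    exacts [(congrArg (fun v : W3 => v.1) this).symm, (congrArg (fun v : W3 => v.2.1) this).symm,
      (congrArg (fun v : W3 => v.2.2) this).symm]

/-- Transitive groups of automorphisms of the elementary subgroup: solvable or everything. -/
theorem Hyp.range_solvable_or_top (h : Hyp N p r) (H : Subgroup (MulAut N))
    (htr : ∀ a b : N, a ≠ 1 → b ≠ 1 → ∃ φ ∈ H, φ a = b) : Group.IsSolvable H ∨ H = ⊤ := by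
  classical
  letI : CommGroup N := { (inferInstance : Group N) with mul_comm := h.comm.is_comm.comm }
  obtain ⟨inst⟩ : Nonempty (Module (ZMod 2) (Additive N)) := ⟨AddCommGroup.zmodModule fun x => by
    apply Additive.toMul.injective
    rw [toMul_nsmul, pow_two, toMul_zero]
    exact Subtype.ext (h.sq _ (Additive.toMul x).2)⟩
  haveI : Module.Finite (ZMod 2) (Additive N) := Module.Finite.of_finite
  have hfr : Module.finrank (ZMod 2) (Additive N) = r := by
    have := Module.natCard_eq_pow_finrank (K := ZMod 2) (V := Additive N)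
    rw [Nat.card_congr Additive.toMul, h.card_eq, Nat.card_zmod] at this
    exact (Nat.pow_right_injective le_rfl this).symm
  let V := Additive N
  let Φ : MulAut N →* (V ≃ₗ[ZMod 2] V) :=
    { toFun := fun φ =>
        { (MulEquiv.toAdditive φ : V ≃+ V) with map_smul' := ZMod.map_smul (MulEquiv.toAdditive φ : V ≃+ V) }
      map_one' := LinearEquiv.ext fun _ => rfl
      map_mul' := fun _ _ => LinearEquiv.ext fun _ => rfl }
  have hΦ : Function.Injective Φ := fun φ ψ e => MulEquiv.ext fun n =>
    congrArg (fun f : V ≃ₗ[ZMod 2] V => Additive.toMul (f (Additive.ofMul n))) e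
  have hΦs : Function.Surjective Φ := fun L =>
    ⟨MulEquiv.toAdditive.symm L.toAddEquiv, LinearEquiv.ext fun _ => rfl⟩
  have hp' : (2 ^ r - 1).Prime := by rw [h.pow_eq, Nat.add_sub_cancel]; exact h.prime
  haveI : Finite (V ≃ₗ[ZMod 2] V) := Finite.of_injective _ DFunLike.coe_injective
  let e := H.equivMapOfInjective Φ hΦ
  have hback : Group.IsSolvable (H.map Φ) → Group.IsSolvable H := fun _ =>
    Group.isSolvable_of_isSolvable_injective (f := e.toMonoidHom) e.injective
  rcases (Cfsg.Agent.S4179.result (V := V) r hfr hp' (H.map Φ)).1 (fun v w hv hw => by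
    obtain ⟨φ, hφ, hφv⟩ := htr (Additive.toMul v) (Additive.toMul w)
      (fun e => hv (Additive.toMul.injective e)) (fun e => hw (Additive.toMul.injective e))
    exact ⟨Φ φ, ⟨φ, hφ, rfl⟩, congrArg Additive.ofMul hφv⟩) with ⟨hc, -⟩ | ⟨hcard, C, hCH, hCn, hCc, hCcard⟩ | htop
  · exact Or.inl (hback (haveI := hc; Group.isSolvable_of_comm (IsCyclic.isMulCommutative.is_comm.comm)))
  · refine Or.inl (hback ?_)
    haveI := hCn
    haveI := hCc
    haveI : Group.IsSolvable C := Group.isSolvable_of_comm (IsCyclic.isMulCommutative.is_comm.comm)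
    haveI : Group.IsSolvable (C.subgroupOf (H.map Φ)) :=
      Group.isSolvable_of_isSolvable_injective (f := (subgroupOfEquivOfLe hCH).toMonoidHom)
        (subgroupOfEquivOfLe hCH).injective
    have hrp : r.Prime := (Nat.prime_of_pow_sub_one_prime (by have := h.r_two_le; omega) hp').2
    have hi : Nat.card ((H.map Φ) ⧸ C.subgroupOf (H.map Φ)) = r := by
      have := card_mul_index (C.subgroupOf (H.map Φ))
      rw [Nat.card_congr (subgroupOfEquivOfLe hCH).toEquiv, hCcard, hcard, mul_comm r] at this
      exact Nat.eq_of_mul_eq_mul_left (by rw [h.pow_eq]; have := h.prime.pos; omega) this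
    haveI : Fact r.Prime := ⟨hrp⟩
    haveI := isCyclic_of_prime_card hi
    haveI : Group.IsSolvable ((H.map Φ) ⧸ C.subgroupOf (H.map Φ)) :=
      Group.isSolvable_of_comm (IsCyclic.isMulCommutative.is_comm.comm)
    exact (Group.isSolvable_iff_subgroup_quotient (C.subgroupOf (H.map Φ))).2 ⟨inferInstance, inferInstance⟩
  · refine Or.inr (eq_top_iff.2 fun φ _ => ?_)
    obtain ⟨ψ, hψ, e⟩ := htop.ge (mem_top (Φ φ))
    exact hΦ e ▸ hψ

theorem Hyp.solvable_of_rank_two (h : Hyp N p 2) : Group.IsSolvable (MulAut N) := by
  classical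
  let Ω := {n : N // n ≠ 1}
  have hΩ : Nat.card Ω = 3 := by
    haveI := Fintype.ofFinite N
    rw [Nat.card_eq_fintype_card, Fintype.card_subtype_compl, Fintype.card_subtype_eq,
      ← Nat.card_eq_fintype_card, h.card_eq]
    rfl
  let π : MulAut N →* Equiv.Perm Ω :=
    { toFun := fun φ => (φ.toEquiv).subtypeEquiv (fun n => (map_ne_one_iff φ φ.injective).symm)
      map_one' := Equiv.ext fun _ => rfl
      map_mul' := fun _ _ => Equiv.ext fun _ => rfl }
  have hπ : Function.Injective π := fun φ ψ e => MulEquiv.ext fun n => by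
    by_cases hn : n = 1
    · simp [hn]
    · exact congrArg (fun σ : Equiv.Perm Ω => ((σ ⟨n, hn⟩ : Ω) : N)) e
  haveI := Fintype.ofFinite Ω
  rw [Nat.card_eq_fintype_card] at hΩ
  have h3 : Group.IsSolvable (Equiv.Perm Ω) := by
    haveI : Group.IsSolvable (alternatingGroup Ω) := by
      have hc : Nat.card (alternatingGroup Ω) = 3 := by
        haveI : Nontrivial Ω := Fintype.one_lt_card_iff_nontrivial.1 (by omega)
        rw [nat_card_alternatingGroup, Nat.card_eq_fintype_card, hΩ]; rfl
      haveI := isCyclic_of_prime_card (p := 3) hc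
      exact Group.isSolvable_of_comm (IsCyclic.isMulCommutative.is_comm.comm)
    haveI : Group.IsSolvable (Equiv.Perm Ω ⧸ alternatingGroup Ω) := by
      have hc : Nat.card (Equiv.Perm Ω ⧸ alternatingGroup Ω) = 2 := by
        haveI : Nontrivial Ω := Fintype.one_lt_card_iff_nontrivial.1 (by omega)
        rw [← Subgroup.index_eq_card, alternatingGroup.index_eq_two]
      haveI : Fact (Nat.Prime 2) := ⟨Nat.prime_two⟩
      haveI := isCyclic_of_prime_card (p := 2) hc
      exact Group.isSolvable_of_comm (IsCyclic.isMulCommutative.is_comm.comm)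
    exact (Group.isSolvable_iff_subgroup_quotient (alternatingGroup Ω)).2 ⟨inferInstance, inferInstance⟩
  exact Group.isSolvable_of_isSolvable_injective hπ

/-- The induced group is solvable. -/
theorem Hyp.solvable_range (h : Hyp N p r) :
    haveI := h.normal
    Group.IsSolvable (MulAut.conjNormal (H := N)).range := by
  haveI := h.normal
  by_cases hr2 : r = 2
  · subst hr2
    haveI := h.solvable_of_rank_two
    exact Group.isSolvable_of_isSolvable_injective (f := (MulAut.conjNormal (H := N)).range.subtype) Subtype.val_injective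
  rcases h.range_solvable_or_top (MulAut.conjNormal (H := N)).range (fun a b ha hb => by
    obtain ⟨g, hg⟩ := h.trans a.2 b.2 (fun e => ha (Subtype.ext e)) (fun e => hb (Subtype.ext e))
    exact ⟨_, ⟨g, rfl⟩, Subtype.ext (by rw [MulAut.conjNormal_apply]; exact hg)⟩) with hs | htop
  · exact hs
  exfalso
  have hr : 3 ≤ r := by have := h.r_two_le; omega
  obtain ⟨S, f⟩ := h.exists_full fun φ => by
    obtain ⟨g, hg⟩ := htop.ge (mem_top φ)
    exact ⟨g, fun n => by rw [← hg, MulAut.conjNormal_apply]⟩
  have hab := f.isMulCommutative h hr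
  rcases eq_or_lt_of_le hr with h3 | h4
  · subst h3
    exact f.false_of_rank_three h hab
  · exact f.false_of_four h hab (by omega)

end CfsgLib.Pyramidal74
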