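import Cfsg.Agent.Lib.Pyramidal74.Hyp
import Cfsg.Agent.Lib.Pyramidal74.Transit
import Cfsg.Agent.Lib.Pyramidal74.Fusion
import Cfsg.Agent.Lib.Transfer.Central

/-!
The centraliser of the elementary subgroup is solvable.
-/

set_option autoImplicit false
set_option linter.style.haveILetI false
set_option linter.unusedSectionVars false

namespace CfsgLib.Pyramidal74

open Subgroup
open scoped commutatorElement

variable {G : Type*} [Group G] [Finite G] {N : Subgroup G} {p r : ℕ}

theorem not_solvable_of_perfect {H : Type*} [Group H] [Nontrivial H] (h : commutator H = ⊤) :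
    ¬ Group.IsSolvable H := fun _ => (Group.IsSolvable.commutator_lt_top_of_nontrivial H).ne h

namespace Hyp

variable (h : Hyp N p r)
include h

theorem isPGroup_map {L : Subgroup G} (P : Sylow 2 L) : IsPGroup 2 (P.map L.subtype : Subgroup G) :=
  P.2.map _

/-- Properties of the Sylow 2-subgroup of a perfect normal subgroup centralising `N`. -/
theorem bundle_sylow {L : Subgroup G} [L.Normal] (hLC : L ≤ centralizer (N : Set G))
    (hperf : commutator L = ⊤) (hne : L ≠ ⊥) (P : Sylow 2 L) :
    Bundle (N.subgroupOf (P.map L.subtype)) ∧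
      (Nat.card (P.map L.subtype : Subgroup G) = Nat.card N ^ 2 ∨
        Nat.card (P.map L.subtype : Subgroup G) = Nat.card N ^ 3) := by
  haveI : Fact (Nat.Prime 2) := ⟨Nat.prime_two⟩
  haveI : Nontrivial L := (nontrivial_iff_ne_bot L).2 hne
  have hNL : N ≤ L := h.le_of_not_solvable (not_solvable_of_perfect hperf)
  have hNP : N ≤ P.map L.subtype := h.le_sylow_map hNL P
  refine bundle_of_normalizer N (P.map L.subtype) h.prime h.ne_two h.card_eq h.pow_eq h.sq h.all
    (h.isPGroup_map P) hNP ((map_subtype_le _).trans hLC) (fun hab => ?_)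
    (fun a ha b hb ha1 hb1 => h.trans_normalizer hLC P ha hb ha1 hb1)
  -- transfer kills an abelian one
  obtain ⟨z, hz, hz1⟩ := h.exists_ne_one
  have hzP : (⟨z, hNL hz⟩ : L) ∈ (P : Subgroup L) := by
    obtain ⟨y, hy, hyz⟩ := hNP hz
    have : y = ⟨z, hNL hz⟩ := Subtype.ext hyz
    exact this ▸ hy
  have hc : IsMulCommutative (P : Subgroup L) := ⟨⟨fun x y => Subtype.ext (Subtype.ext (by
    have := congrArg Subtype.val (hab.is_comm.comm
      (⟨((x : L) : G), ⟨x, x.2, rfl⟩⟩ : (P.map L.subtype : Subgroup G)) ⟨((y : L) : G), ⟨y, y.2, rfl⟩⟩)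
    exact this))⟩⟩
  have hHall : Nat.Coprime (Nat.card (P : Subgroup L)) (P : Subgroup L).index := by
    obtain ⟨n, hn⟩ := IsPGroup.iff_card.1 P.2
    rw [hn]
    exact Nat.Coprime.pow_left _ ((Nat.prime_two.coprime_iff_not_dvd).2 P.not_dvd_index)
  have := CfsgLib.Transfer.eq_one_of_central_commutator (P : Subgroup L) hc hHall hzP
    (hperf ▸ mem_top _) (mem_center_iff.2 fun g => Subtype.ext
      (mem_centralizer_iff.1 (hLC g.2) z hz).symm)
  exact hz1 (congrArg Subtype.val this)

/-- No perfect normal subgroup centralises `N`. -/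
theorem perfect_eq_bot {L : Subgroup G} [L.Normal] (hLC : L ≤ centralizer (N : Set G))
    (hperf : commutator L = ⊤) : L = ⊥ := by
  by_contra hne
  haveI : Fact (Nat.Prime 2) := ⟨Nat.prime_two⟩
  haveI : Nontrivial L := (nontrivial_iff_ne_bot L).2 hne
  have hNL : N ≤ L := h.le_of_not_solvable (not_solvable_of_perfect hperf)
  haveI := h.normal
  obtain ⟨P⟩ : Nonempty (Sylow 2 L) := inferInstance
  obtain ⟨hB, hcard⟩ := h.bundle_sylow hLC hperf hne P
  set R : Subgroup G := P.map L.subtype with hR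
  have hNR : N ≤ R := h.le_sylow_map hNL P
  have hmemR : ∀ x : L, (x : G) ∈ R ↔ x ∈ (P : Subgroup L) := fun x =>
    ⟨fun ⟨y, hy, e⟩ => (Subtype.ext e : y = x) ▸ hy, fun hx => ⟨x, hx, rfl⟩⟩
  set N' : Subgroup L := N.subgroupOf L with hN'
  have hN'P : N' ≤ (P : Subgroup L) := fun x hx => (hmemR x).1 (hNR hx)
  set X := L ⧸ N'
  let mk := QuotientGroup.mk' N'
  let E : Sylow 2 X := Sylow.mapSurjective (QuotientGroup.mk'_surjective N') P
  have hE : ∀ e : X, e ∈ (E : Subgroup X) ↔ ∃ x ∈ (P : Subgroup L), mk x = e := fun e => Iff.rfl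
  have hEpre : ∀ x : L, mk x ∈ (E : Subgroup X) ↔ x ∈ (P : Subgroup L) := by
    refine fun x => ⟨fun hx => ?_, fun hx => ⟨x, hx, rfl⟩⟩
    obtain ⟨y, hy, e⟩ := hx
    rw [QuotientGroup.mk'_apply, QuotientGroup.mk'_apply, QuotientGroup.eq] at e
    have := mul_mem hy (hN'P e)
    rwa [mul_inv_cancel_left] at this
  -- data in the Sylow subgroup
  have hB' : ∀ x y : L, x ∈ (P : Subgroup L) → y ∈ (P : Subgroup L) → mk (x * y) = mk (y * x) := by
    intro x y hx hy
    rw [QuotientGroup.mk'_apply, QuotientGroup.mk'_apply, QuotientGroup.eq]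
    show ((x * y)⁻¹ * (y * x) : G) ∈ N
    have := hB.comm_mem (⟨_, (hmemR y).2 hy⟩⁻¹ : R) (⟨_, (hmemR x).2 hx⟩⁻¹ : R)
    rw [commutatorElement_def, inv_inv, inv_inv] at this
    have h' : ((y : G)⁻¹ * (x : G)⁻¹ * y * x) ∈ N := this
    simpa [mul_assoc] using h'
  have hEab : IsMulCommutative E := by
    refine ⟨⟨?_⟩⟩
    rintro ⟨_, x, hx, rfl⟩ ⟨_, y, hy, rfl⟩
    exact Subtype.ext (by
      show mk x * mk y = mk y * mk x
      rw [← map_mul, ← map_mul]; exact hB' x y hx hy)
  have hEel : ∀ e ∈ (E : Subgroup X), e * e = 1 := by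
    rintro _ ⟨x, hx, rfl⟩
    show mk x * mk x = 1
    rw [← map_mul]
    exact (QuotientGroup.eq_one_iff _).2 (hB.sq_mem ⟨_, (hmemR x).2 hx⟩)
  have hEcard : Nat.card E * Nat.card N = Nat.card R := by
    have h1 : Nat.card R = Nat.card P :=
      (Nat.card_congr ((P : Subgroup L).equivMapOfInjective _ L.subtype_injective).toEquiv).symm
    have h2 : Nat.card N' = Nat.card N := Nat.card_congr (subgroupOfEquivOfLe hNL).toEquiv
    let f : (P : Subgroup L) →* X := mk.comp (P : Subgroup L).subtype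
    have hk : f.ker = N'.subgroupOf (P : Subgroup L) := by
      ext x; exact QuotientGroup.eq_one_iff _
    have hrange : f.range = (E : Subgroup X) := by
      ext e
      exact ⟨fun ⟨x, hx⟩ => ⟨x, x.2, hx⟩, fun ⟨x, hx, hxe⟩ => ⟨⟨x, hx⟩, hxe⟩⟩
    have h3 := f.ker.card_mul_index
    rw [index_ker, hrange, hk, Nat.card_congr (subgroupOfEquivOfLe hN'P).toEquiv, h2] at h3
    rw [h1, ← h3]; ring
  -- normaliser elements act on the Sylow subgroup
  have hnorm : ∀ k : L, mk k ∈ normalizer ((E : Subgroup X) : Set X) →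
      (k : G) ∈ normalizer (R : Set G) := by
    intro k hk
    refine mem_normalizer_iff.2 fun x => ?_
    constructor
    · intro hx
      have hxL : x ∈ L := map_subtype_le _ hx
      rw [show (k : G) * x * (k : G)⁻¹ = ((k * ⟨x, hxL⟩ * k⁻¹ : L) : G) from rfl, hmemR, ← hEpre,
        map_mul, map_mul, map_inv]
      exact (mem_normalizer_iff.1 hk _).1 ((hEpre _).2 ((hmemR ⟨x, hxL⟩).1 hx))
    · intro hx
      have hxL : x ∈ L := by
        have := Subgroup.Normal.conj_mem (inferInstance : L.Normal) _ (map_subtype_le _ hx) (k : G)⁻¹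
        simpa [mul_assoc] using this
      rw [show (k : G) * x * (k : G)⁻¹ = ((k * ⟨x, hxL⟩ * k⁻¹ : L) : G) from rfl, hmemR, ← hEpre,
        map_mul, map_mul, map_inv] at hx
      exact (hmemR ⟨x, hxL⟩).2 ((hEpre _).1 ((mem_normalizer_iff.1 hk _).2 hx))
  have hfix : ∀ (k : L) (hk : (k : G) ∈ normalizer (R : Set G)), ∀ n ∈ N.subgroupOf R,
      normalizerMonoidHom R ⟨k, hk⟩ n = n := fun k hk n hn => Subtype.ext (by
    show (k : G) * n * (k : G)⁻¹ = n
    rw [← mem_centralizer_iff.1 (hLC k.2) n hn, mul_inv_cancel_right])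
  have hXperf : commutator X = ⊤ := by
    rw [commutator_eq_closure]
    rw [eq_top_iff]
    intro q _
    obtain ⟨x, rfl⟩ := QuotientGroup.mk'_surjective N' q
    have hx : x ∈ commutator L := hperf ▸ mem_top x
    rw [commutator_eq_closure] at hx
    have h6 := Subgroup.mem_map_of_mem (QuotientGroup.mk' N') hx
    rw [MonoidHom.map_closure] at h6
    refine closure_mono ?_ h6
    rintro _ ⟨_, ⟨a, b, rfl⟩, rfl⟩
    exact ⟨_, _, (map_commutatorElement _ a b).symm⟩
  rcases hcard with hsmall | hbig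
  · -- squaring determines the cosets: the normaliser centralises
    have hnc : normalizer ((E : Subgroup X) : Set X) ≤ centralizer ((E : Subgroup X) : Set X) := by
      intro q hq
      obtain ⟨k, rfl⟩ := QuotientGroup.mk'_surjective N' q
      refine mem_centralizer_iff.2 ?_
      rintro _ ⟨x, hx, rfl⟩
      have hk := hnorm k hq
      have hsm : Nat.card R = Nat.card (N.subgroupOf R) ^ 2 := by
        rw [hsmall, Nat.card_congr (subgroupOfEquivOfLe hNR).toEquiv]
      have e : (⟨_, (hmemR x).2 hx⟩ : R) * ⟨_, (hmemR x).2 hx⟩ =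
          normalizerMonoidHom R ⟨k, hk⟩ ⟨_, (hmemR x).2 hx⟩ *
            normalizerMonoidHom R ⟨k, hk⟩ ⟨_, (hmemR x).2 hx⟩ := by
        rw [← map_mul, hfix k hk _ (hB.sq_mem _)]
      have h5 : ((x : G)⁻¹ * ((k : G) * x * (k : G)⁻¹)) ∈ N := hB.sq_injective hsm e
      show mk x * mk k = mk k * mk x
      rw [← map_mul, ← map_mul, QuotientGroup.mk'_apply, QuotientGroup.mk'_apply, QuotientGroup.eq]
      show ((x * k : G))⁻¹ * (k * x) ∈ N
      have := h.normal.conj_mem _ h5 (k : G)⁻¹
      simpa [mul_assoc] using this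
    have hcomp := MonoidHom.ker_transferSylow_isComplement' E hnc
    set K := (MonoidHom.transferSylow E hnc).ker
    have hKt : K = ⊤ := by
      rw [eq_top_iff, ← hXperf, commutator_eq_closure, closure_le]
      rintro _ ⟨a, b, rfl⟩
      show MonoidHom.transferSylow E hnc ⁅a, b⁆ = 1
      rw [map_commutatorElement, commutatorElement_eq_one_iff_commute]
      exact hEab.is_comm.comm _ _
    have h1 : Nat.card E = 1 := by
      have := hcomp.card_mul
      rw [hKt, card_top] at this
      exact Nat.eq_of_mul_eq_mul_left Nat.card_pos (this.trans (mul_one _).symm)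
    rw [h1, one_mul, hsmall, pow_two] at hEcard
    have := Nat.eq_of_mul_eq_mul_left Nat.card_pos ((mul_one _).trans hEcard)
    rw [h.card_eq, h.pow_eq] at this
    have := h.prime.pos
    omega
  · have hN2 : 2 ^ 2 ≤ Nat.card N := h.card_eq ▸ Nat.pow_le_pow_right (by norm_num) h.r_two_le
    have hE3 : 2 ^ 3 ≤ Nat.card E := by
      have e : Nat.card E = Nat.card N * Nat.card N := by
        refine Nat.eq_of_mul_eq_mul_right (Nat.card_pos (α := N)) ?_
        rw [hEcard, hbig]; ring
      rw [e]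
      calc 2 ^ 3 ≤ 2 ^ 2 * 2 ^ 2 := by norm_num
        _ ≤ _ := Nat.mul_le_mul hN2 hN2
    have hcardR : Nat.card R = Nat.card (N.subgroupOf R) ^ 2 ∨
        Nat.card R = Nat.card (N.subgroupOf R) ^ 3 := Or.inr (by
      rw [hbig, Nat.card_congr (subgroupOfEquivOfLe hNR).toEquiv])
    have hcent : ∀ a ∈ (E : Subgroup X), a ≠ 1 → ∀ q ∈ normalizer ((E : Subgroup X) : Set X),
        q * a = a * q → ∀ e ∈ (E : Subgroup X), q * e = e * q := by
      intro a ha ha1 q hq hqa e he
      obtain ⟨k, rfl⟩ := QuotientGroup.mk'_surjective N' q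
      obtain ⟨x, hx, rfl⟩ := ha
      obtain ⟨u, hu, rfl⟩ := he
      -- odd part of `k`
      obtain ⟨t, m, hm, hord⟩ := Nat.exists_eq_pow_mul_and_not_dvd (orderOf_pos k).ne' 2 (by norm_num)
      have hmodd : Odd m := Nat.odd_iff.2 (by omega)
      set k₁ := k ^ 2 ^ t with hk₁
      have hq1 : mk k₁ ∈ normalizer ((E : Subgroup X) : Set X) := by
        rw [hk₁, map_pow]; exact pow_mem hq _
      have hk := hnorm k₁ hq1
      have hca : mk k₁ * mk x = mk x * mk k₁ := by
        rw [hk₁, map_pow]; exact ((show Commute (mk k) (mk x) from hqa).pow_left _).eq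
      have hkm : normalizerMonoidHom R ⟨k₁, hk⟩ ^ m = 1 := by
        have e1 : (⟨k₁, hk⟩ : normalizer (R : Set G)) ^ m = 1 := Subtype.ext (by
          show (k₁ : G) ^ m = 1
          rw [← SubgroupClass.coe_pow, hk₁, ← pow_mul, ← hord, pow_orderOf_eq_one]; rfl)
        rw [← map_pow, e1, map_one]
      have hx1 : (⟨_, (hmemR x).2 hx⟩ : R) ∉ N.subgroupOf R := fun hxN =>
        ha1 ((QuotientGroup.eq_one_iff _).2 hxN)
      have hxk : normalizerMonoidHom R ⟨k₁, hk⟩ ⟨_, (hmemR x).2 hx⟩ * (⟨_, (hmemR x).2 hx⟩ : R)⁻¹ ∈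
          N.subgroupOf R := by
        show (k₁ : G) * x * (k₁ : G)⁻¹ * (x : G)⁻¹ ∈ N
        have : mk (k₁ * x * k₁⁻¹ * x⁻¹) = 1 := by
          rw [map_mul, map_mul, map_mul, map_inv, map_inv, hca, mul_inv_cancel_right, mul_inv_cancel]
        have h9 : k₁ * x * k₁⁻¹ * x⁻¹ ∈ N' := (QuotientGroup.eq_one_iff _).1 this
        exact h9
      have hmove := hB.move_trivial hcardR _ hmodd hkm (hfix k₁ hk) hx1 hxk ⟨_, (hmemR u).2 hu⟩
      have h1 : Commute (mk k₁) (mk u) := by
        have h7 : (k₁ : G) * u * (k₁ : G)⁻¹ * (u : G)⁻¹ ∈ N := hmove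
        have : mk (k₁ * u * k₁⁻¹ * u⁻¹) = 1 := (QuotientGroup.eq_one_iff _).2 h7
        rw [map_mul, map_mul, map_mul, map_inv, map_inv, mul_inv_eq_one, mul_inv_eq_iff_eq_mul] at this
        exact this
      -- the index of `E` in its normaliser is odd
      set s := ((E : Subgroup X).subgroupOf (normalizer ((E : Subgroup X) : Set X))).index with hs
      have hsodd : ¬ 2 ∣ s := fun hd =>
        E.not_dvd_index (hd.trans (by
          rw [hs]
          exact relIndex_dvd_index_of_le le_normalizer))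
      have h2 : Commute (mk k ^ s) (mk u) := by
        have hmem : (⟨mk k, hq⟩ : normalizer ((E : Subgroup X) : Set X)) ^ s ∈
            (E : Subgroup X).subgroupOf (normalizer ((E : Subgroup X) : Set X)) := pow_index_mem _ _
        exact congrArg Subtype.val (hEab.is_comm.comm
          (⟨_, mem_subgroupOf.1 hmem⟩ : E) ⟨mk u, u, hu, rfl⟩)
      have hgcd : Nat.gcd (2 ^ t) s = 1 :=
        Nat.Coprime.pow_left _ ((Nat.prime_two.coprime_iff_not_dvd).2 hsodd)
      have h3 : Commute (mk k) (mk u) := by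
        rw [← pow_one (mk k), ← hgcd, ← zpow_natCast, Nat.gcd_eq_gcd_ab, zpow_add, zpow_mul, zpow_mul,
          zpow_natCast, zpow_natCast]
        refine (Commute.zpow_left ?_ _).mul_left (Commute.zpow_left h2 _)
        rw [← map_pow, ← hk₁]; exact h1
      exact h3.eq
    have hO : ∀ W : Subgroup X, W.Normal → Odd (Nat.card W) → W = ⊥ := by
      intro W hW hWodd
      let Wp := W.comap mk
      haveI : Wp.Normal := hW.comap mk
      have hN'W : N' ≤ Wp := fun x hx => by
        show mk x ∈ W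
        rw [show mk x = 1 from (QuotientGroup.eq_one_iff x).2 hx]; exact one_mem W
      -- elements of odd order make up a normal subgroup
      have hco : Nat.Coprime (Nat.card (N'.subgroupOf Wp)) (N'.subgroupOf Wp).index := by
        rw [Nat.card_congr (subgroupOfEquivOfLe hN'W).toEquiv,
          Nat.card_congr (subgroupOfEquivOfLe hNL).toEquiv, h.card_eq]
        refine Nat.Coprime.pow_left _ ((Nat.prime_two.coprime_iff_not_dvd).2 ?_)
        have : (N'.subgroupOf Wp).index = Nat.card W := by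
          let f : Wp →* X := mk.comp Wp.subtype
          have hk : f.ker = N'.subgroupOf Wp := by ext x; exact QuotientGroup.eq_one_iff _
          rw [← hk, index_ker]
          congr 1
          have : f.range = W := by
            ext q
            refine ⟨fun ⟨x, hx⟩ => hx ▸ x.2, fun hq => ?_⟩
            obtain ⟨x, rfl⟩ := QuotientGroup.mk'_surjective N' q
            exact ⟨⟨x, hq⟩, rfl⟩
          rw [this]
        rw [this, ← even_iff_two_dvd, Nat.not_even_iff_odd]
        exact hWodd
      obtain ⟨K, hK⟩ := exists_right_complement'_of_coprime hco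
      have hKodd : Odd (Nat.card K) := by
        rw [← hK.symm.index_eq_card, ← Nat.not_even_iff_odd, even_iff_two_dvd]
        intro hd
        rw [Nat.card_congr (subgroupOfEquivOfLe hN'W).toEquiv,
          Nat.card_congr (subgroupOfEquivOfLe hNL).toEquiv, h.card_eq] at hco
        have := Nat.Coprime.coprime_dvd_left (dvd_pow_self 2 (by have := h.r_two_le; omega)) hco
        exact (Nat.prime_two.coprime_iff_not_dvd.1 this) hd
      -- `K` is the set of elements of odd order
      have hset : ∀ x : Wp, Odd (orderOf x) → x ∈ K := by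
        intro x hx
        obtain ⟨⟨n, k⟩, rfl⟩ := hK.2 x
        have hnc : Commute (n : Wp) (k : Wp) := Subtype.ext (Subtype.ext
          (mem_centralizer_iff.1 (hLC ((k : Wp) : L).2) _ n.2))
        obtain ⟨j, hj⟩ := hx
        have hxn : (n : Wp) ^ (orderOf ((n : Wp) * k) * Nat.card K) = 1 := by
          have h1 := congrArg (· ^ Nat.card K) (pow_orderOf_eq_one ((n : Wp) * k))
          simp only [one_pow] at h1
          rw [hnc.mul_pow, (hnc.pow_pow _ _).mul_pow, ← pow_mul, ← pow_mul] at h1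
          have hk1 : (k : Wp) ^ (orderOf ((n : Wp) * k) * Nat.card K) = 1 := by
            rw [mul_comm, pow_mul, show (k : Wp) ^ Nat.card K = 1 from
              congrArg Subtype.val (pow_card_eq_one' (x := k)), one_pow]
          rwa [hk1, mul_one] at h1
        have hn2 : (n : Wp) ^ 2 = 1 := Subtype.ext (Subtype.ext (by
          rw [pow_two]; exact h.sq _ n.2))
        obtain ⟨i, hi⟩ := hKodd
        have hodd : orderOf ((n : Wp) * k) * Nat.card K = 2 * (2 * j * i + j + i) + 1 := by
          rw [hj, hi]; ring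
        rw [hodd, pow_succ, pow_mul, hn2, one_pow, one_mul] at hxn
        show (n : Wp) * k ∈ K
        rw [hxn, one_mul]; exact k.2
      have hKn : (K.map Wp.subtype).Normal := by
        refine ⟨fun x hx g => ?_⟩
        obtain ⟨y, hy, rfl⟩ := hx
        refine ⟨⟨g * y * g⁻¹, (inferInstance : Wp.Normal).conj_mem _ y.2 g⟩, hset _ ?_, rfl⟩
        have e : orderOf (⟨g * y * g⁻¹, (inferInstance : Wp.Normal).conj_mem _ y.2 g⟩ : Wp) =
            orderOf y := by
          rw [orderOf_mk, ← orderOf_coe y]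
          exact orderOf_injective (MulAut.conj g).toMonoidHom (MulAut.conj g).injective _
        rw [e]
        exact odd_orderOf_of_mem hKodd hy
      have hKbot : K.map Wp.subtype ≤ Cfsg.oddCore L := CfsgLib.DGroup.le_oddCore hKn (by
        rwa [← Nat.card_congr (K.equivMapOfInjective _ Wp.subtype_injective).toEquiv])
      have hOL : Cfsg.oddCore L = ⊥ := by
        haveI : Fact (Nat.Prime 2) := ⟨Nat.prime_two⟩
        have hle : (Cfsg.oddCore L).map L.subtype ≤ Cfsg.oddCore G :=
          CfsgLib.DGroup.le_oddCore inferInstance (by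
            rw [← Nat.card_congr ((Cfsg.oddCore L).equivMapOfInjective _ L.subtype_injective).toEquiv]
            exact CfsgLib.DGroup.odd_card_oddCore)
        rw [h.core, le_bot_iff, Subgroup.map_eq_bot_iff_of_injective _ L.subtype_injective] at hle
        exact hle
      rw [hOL, le_bot_iff, Subgroup.map_eq_bot_iff_of_injective _ Wp.subtype_injective] at hKbot
      rw [eq_bot_iff]
      intro q hq
      obtain ⟨x, rfl⟩ := QuotientGroup.mk'_surjective N' q
      obtain ⟨⟨n, k⟩, hnk⟩ := hK.2 ⟨x, hq⟩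
      have hk1 : (k : Wp) = 1 := by simpa [hKbot] using k.2
      rw [mem_bot]
      refine (QuotientGroup.eq_one_iff x).2 ?_
      have : ((n : Wp) : L) = x := by
        have := congrArg Subtype.val hnk
        simpa [hk1] using this
      exact this ▸ n.2
    have htrans := fun a b (ha : a ∈ (E : Subgroup X)) (hb : b ∈ (E : Subgroup X)) ha1 hb1 =>
      normalizer_transitive hEab hEel hE3 hXperf hO hcent (a := a) (b := b) ha hb ha1 hb1
    -- but the squares take two values
    obtain ⟨z₁, z₂, hz₁, hz₂, hz₁1, hz₂1, hz12⟩ := h.exists_two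
    have hsqrt : ∀ z ∈ N, z ≠ 1 → ∃ x : L, x ∈ (P : Subgroup L) ∧ mk x ≠ 1 ∧ (x : G) * x = z := by
      intro z hz hz1
      obtain ⟨x₀, hx₀⟩ : ∃ x₀ : R, (x₀ : G) ∉ N := by
        by_contra hno
        push Not at hno
        have : Nat.card R ≤ Nat.card N := Subgroup.card_le_of_le fun y hy => hno ⟨y, hy⟩
        rw [hbig] at this
        have h3 : Nat.card N ^ 1 < Nat.card N ^ 3 :=
          Nat.pow_lt_pow_right (by omega) (by norm_num)
        rw [pow_one] at h3
        omega
      have hne1 : x₀ * x₀ ≠ 1 := fun e => hx₀ ((hB.sq_eq_one x₀).1 e)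
      obtain ⟨φ, hφ⟩ := hB.trans _ (hB.sq_mem x₀) (⟨z, hNR hz⟩ : R) hz hne1
        (fun e => hz1 (congrArg Subtype.val e))
      obtain ⟨x, hx, hxe⟩ := (φ x₀).2
      refine ⟨x, hx, fun e => hx₀ ?_, ?_⟩
      · have hxN : (x : G) ∈ N := (QuotientGroup.eq_one_iff x).1 e
        have : φ x₀ ∈ N.subgroupOf R := mem_subgroupOf.2 (by rw [← hxe]; exact hxN)
        have h8 := hB.map_mem (φ := φ.symm) this
        rw [MulEquiv.symm_apply_apply] at h8
        exact h8
      · have := congrArg Subtype.val hφ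
        rw [map_mul] at this
        rw [show (x : G) = (φ x₀ : G) from hxe]
        exact this
    obtain ⟨x₁, hx₁, hx₁1, hsq₁⟩ := hsqrt z₁ hz₁ hz₁1
    obtain ⟨x₂, hx₂, hx₂1, hsq₂⟩ := hsqrt z₂ hz₂ hz₂1
    obtain ⟨q, hq, hqe⟩ := htrans (mk x₁) (mk x₂) ((hEpre _).2 hx₁) ((hEpre _).2 hx₂) hx₁1 hx₂1
    obtain ⟨k, rfl⟩ := QuotientGroup.mk'_surjective N' q
    rw [← map_inv, ← map_mul, ← map_mul] at hqe
    have hn : (x₂⁻¹ * (k * x₁ * k⁻¹)) ∈ N' := QuotientGroup.eq.1 hqe.symm
    set n := x₂⁻¹ * (k * x₁ * k⁻¹) with hndef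
    have e2 : ((k * x₁ * k⁻¹ : L) : G) * (k * x₁ * k⁻¹ : L) = z₂ := by
      rw [show k * x₁ * k⁻¹ = x₂ * n by rw [hndef, mul_inv_cancel_left], ← hsq₂]
      have := congrArg Subtype.val (hB.sq_mul_mem (x := ⟨_, (hmemR x₂).2 hx₂⟩)
        (n := ⟨_, hNR hn⟩) hn)
      exact this
    have e1 : ((k * x₁ * k⁻¹ : L) : G) * (k * x₁ * k⁻¹ : L) = z₁ := by
      have hcomm := mem_centralizer_iff.1 (hLC k.2) z₁ hz₁
      calc ((k : G) * x₁ * (k : G)⁻¹) * ((k : G) * x₁ * (k : G)⁻¹) = (k : G) * ((x₁ : G) * x₁) * (k : G)⁻¹ := by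
            group
        _ = (k : G) * z₁ * (k : G)⁻¹ := by rw [hsq₁]
        _ = z₁ := by rw [← hcomm, mul_inv_cancel_right]
    exact hz12 (e1.symm.trans e2)

/-- The centraliser is solvable. -/
theorem solvable_centralizer : Group.IsSolvable (centralizer (N : Set G)) := by
  haveI := h.normal
  obtain ⟨D, hDK, hDn, hperf, hsol⟩ :=
    CfsgLib.FTCons.PrimePowerClassTwo.exists_perfect_normal (centralizer (N : Set G))
  haveI := hDn
  refine hsol (h.perfect_eq_bot hDK ?_)
  apply Subgroup.map_injective D.subtype_injective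
  rw [commutator_def, map_commutator, ← MonoidHom.range_eq_map, range_subtype, hperf]

end Hyp

end CfsgLib.Pyramidal74
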