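import Cfsg.Agent.Lib.Pyramidal74.Basics
import Cfsg.Agent.Lib.Characters.Burnside

/-!
A nonsolvable group all of whose involutions agree modulo a normal subgroup of odd order: if their
number is a prime power, its exponent is even and the number is not nine.
-/

set_option autoImplicit false
set_option linter.style.haveILetI false
set_option linter.unusedSectionVars false

namespace CfsgLib.Pyramidal74

open Subgroup

universe u

theorem map_perfect_eq_one {D A : Type*} [Group D] [CommGroup A] (hD : commutator D = ⊤)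
    (f : D →* A) (d : D) : f d = 1 :=
  Abelianization.commutator_subset_ker f (hD ▸ mem_top d)

/-- An action by additive maps as a homomorphism to the linear endomorphisms. -/
def endHom (q : ℕ) {D M : Type*} [Group D] [AddCommGroup M] [Module (ZMod q) M] (act : D → M →+ M)
    (h1 : ∀ v, act 1 v = v) (hm : ∀ a b v, act (a * b) v = act a (act b v)) :
    D →* Module.End (ZMod q) M where
  toFun d := (act d).toZModLinearMap q
  map_one' := LinearMap.ext h1
  map_mul' a b := LinearMap.ext (hm a b)

theorem endHom_apply {q : ℕ} {D M : Type*} [Group D] [AddCommGroup M] [Module (ZMod q) M]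
    (act : D → M →+ M) (h1 : ∀ v, act 1 v = v) (hm : ∀ a b v, act (a * b) v = act a (act b v))
    (d : D) (v : M) : endHom q act h1 hm d v = act d v := rfl

section Module

/-- A perfect group of linear maps containing `-1`: the order of the space is an even power of the
prime, and is not nine. -/
theorem linear_inverted {q : ℕ} [Fact q.Prime] (hq : q ≠ 2) {D : Type*} [Group D] [Finite D]
    (hperf : commutator D = ⊤) {M : Type*} [AddCommGroup M] [Finite M] [Module (ZMod q) M]
    (f : D →* Module.End (ZMod q) M) {t : D} (hft : f t = -1) :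
    (∃ m : ℕ, Nat.card M = q ^ (2 * m)) ∧ Nat.card M ≠ 9 := by
  haveI : Module.Finite (ZMod q) M := Module.Finite.of_finite
  have hcard : Nat.card M = q ^ Module.finrank (ZMod q) M := by
    rw [Module.natCard_eq_pow_finrank (K := ZMod q) (V := M), Nat.card_zmod]
  have hdet : LinearMap.det (f t) = 1 :=
    congrArg Units.val (map_perfect_eq_one hperf (LinearMap.det.comp f).toHomUnits t)
  have heven : Even (Module.finrank (ZMod q) M) := by
    rw [hft, show (-1 : Module.End (ZMod q) M) = (-1 : ZMod q) • (1 : Module.End (ZMod q) M)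
      by rw [neg_one_smul], LinearMap.det_smul, map_one, mul_one] at hdet
    rcases Nat.even_or_odd (Module.finrank (ZMod q) M) with he | ho
    · exact he
    · exfalso
      rw [ho.neg_one_pow] at hdet
      haveI : Fact (2 < q) := ⟨lt_of_le_of_ne (Nat.Prime.two_le Fact.out) (Ne.symm hq)⟩
      exact ZMod.neg_one_ne_one hdet
  obtain ⟨m, hm⟩ := heven
  refine ⟨⟨m, by rw [hcard, hm, two_mul]⟩, fun h9 => ?_⟩
  obtain ⟨rfl, hrank⟩ : q = 3 ∧ Module.finrank (ZMod q) M = 2 := by
    have hk : Module.finrank (ZMod q) M ≠ 0 := fun e => by rw [e, pow_zero, h9] at hcard; omega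
    have hd := dvd_pow_self q hk
    rw [← hcard, h9] at hd
    have h3 : q = 3 := (Nat.prime_dvd_prime_iff_eq Fact.out Nat.prime_three).1
      ((Fact.out : q.Prime).dvd_of_dvd_pow (n := 2) hd)
    refine ⟨h3, Nat.pow_right_injective (Nat.Prime.two_le Fact.out) (?_ : q ^ _ = q ^ _)⟩
    rw [← hcard, h9, h3]; rfl
  let b := Module.finBasisOfFinrankEq (ZMod 3) M hrank
  let e : (Module.End (ZMod 3) M)ˣ ≃* GL (Fin 2) (ZMod 3) :=
    Units.mapEquiv (LinearMap.toMatrixAlgEquiv b).toMulEquiv
  let g : D →* GL (Fin 2) (ZMod 3) := e.toMonoidHom.comp f.toHomUnits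
  haveI : Group.IsSolvable (GL (Fin 2) (ZMod 3)) :=
    CfsgLib.Burnside.isSolvable_of_card_eq Nat.prime_two Nat.prime_three 4 1
      (by rw [Matrix.card_GL_field, Fin.prod_univ_two, ← Nat.card_eq_fintype_card, Nat.card_zmod]; rfl)
  have hgt : g t = 1 := by
    obtain ⟨n, hn⟩ := (inferInstance : Group.IsSolvable (GL (Fin 2) (ZMod 3))).solvable
    have hall : ∀ i, derivedSeries D i = ⊤ := fun i => by
      induction i with
      | zero => rfl
      | succ i ih => rw [derivedSeries_succ, ih, ← _root_.commutator_def, hperf]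
    have h : g t ∈ derivedSeries (GL (Fin 2) (ZMod 3)) n :=
      map_derivedSeries_le_derivedSeries g n ⟨t, by rw [hall n]; exact mem_top t, rfl⟩
    rwa [hn, mem_bot] at h
  have hone : f t = 1 :=
    congrArg Units.val (e.injective (hgt.trans (map_one e).symm) : f.toHomUnits t = 1)
  rw [hft] at hone
  have hsub : ∀ v : M, v = 0 := fun v => by
    have h1 : -v = v := LinearMap.congr_fun hone v
    have h2 : (2 : ZMod 3) • v = 0 := by rw [two_smul]; nth_rewrite 1 [← h1]; exact neg_add_cancel v
    calc v = (2 : ZMod 3) • ((2 : ZMod 3) • v) := by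
          rw [smul_smul, show (2 : ZMod 3) * 2 = 1 from rfl, one_smul]
      _ = 0 := by rw [h2, smul_zero]
  haveI : Subsingleton M := ⟨fun a b => by rw [hsub a, hsub b]⟩
  rw [Nat.card_of_subsingleton (0 : M)] at h9
  omega

variable {G : Type*} [Group G] [Finite G] {q : ℕ} [Fact q.Prime] {I : Subgroup G}

/-- A perfect group normalising an elementary abelian odd group and containing an element inverting it:
the order is an even power of the prime and is not nine. -/
theorem inverted_order (hq : q ≠ 2) (hab : IsMulCommutative I) (hel : ∀ v ∈ I, v ^ q = 1)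
    {D : Subgroup G} (hD : ⁅D, D⁆ = D) (hnorm : ∀ d ∈ D, ∀ v ∈ I, d * v * d⁻¹ ∈ I) {t : G}
    (ht : t ∈ D) (hinv : ∀ v ∈ I, t * v * t⁻¹ = v⁻¹) :
    (∃ m : ℕ, Nat.card I = q ^ (2 * m)) ∧ Nat.card I ≠ 9 := by
  letI : CommGroup I := { (inferInstance : Group I) with mul_comm := hab.is_comm.comm }
  letI : Module (ZMod q) (Additive I) := AddCommGroup.zmodModule fun x => by
    have h1 : Additive.toMul x ^ q = 1 :=
      Subtype.ext (by rw [SubmonoidClass.coe_pow]; exact hel _ (Additive.toMul x).2)
    rw [← ofMul_toMul x, ← ofMul_pow, h1, ofMul_one]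
  let act (d : D) : Additive I →+ Additive I :=
    { toFun := fun v => Additive.ofMul ⟨d * (Additive.toMul v : I) * (d : G)⁻¹,
        hnorm d d.2 _ (Additive.toMul v).2⟩
      map_zero' := by
        refine congrArg Additive.ofMul (Subtype.ext ?_)
        simp
      map_add' := fun a b => by
        refine congrArg Additive.ofMul (Subtype.ext ?_)
        simp [toMul_add, mul_assoc] }
  have h1 : ∀ v, act 1 v = v := fun v => by
    refine congrArg Additive.ofMul (Subtype.ext ?_)
    simp
    rfl
  have hm : ∀ a b v, act (a * b) v = act a (act b v) := fun a b v => by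
    refine congrArg Additive.ofMul (Subtype.ext ?_)
    simp [act, mul_assoc]
  have hperf : commutator D = ⊤ := by
    apply Subgroup.map_injective D.subtype_injective
    rw [_root_.commutator_def, map_commutator, ← MonoidHom.range_eq_map, range_subtype, hD]
  rw [← Nat.card_congr (Additive.toMul (α := I))]
  refine linear_inverted hq hperf (endHom q act h1 hm) (t := ⟨t, ht⟩) (LinearMap.ext fun v => ?_)
  show act ⟨t, ht⟩ v = -v
  refine congrArg Additive.ofMul (Subtype.ext ?_)
  exact hinv _ (Additive.toMul v).2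

end Module

theorem parity_of_card : ∀ (n : ℕ) (G : Type u) [Group G] [Finite G], Nat.card G = n →
    ∀ K : Subgroup G, K.Normal → Odd (Nat.card K) → ¬ Group.IsSolvable G → ∀ t : G, orderOf t = 2 →
      (∀ x : G, orderOf x = 2 → x * t ∈ K) → ∀ p k : ℕ, p.Prime →
        (centralizer ({t} : Set G)).index = p ^ k → Even k ∧ p ^ k ≠ 9 := by
  intro n
  induction n using Nat.strong_induction_on with
  | _ n ih => ?_
  intro G _ _ hn K hKn hK hns t ht hall p k hp hidx
  have htt : t * t = 1 := mul_self_of_order_two ht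
  have htinv : t⁻¹ = t := inv_eq_of_mul_eq_one_right htt
  set R := centralizer ({t} : Set G) with hR
  -- involutions congruent to `t` are conjugate to it under a normal odd subgroup
  have conj_in : ∀ {L : Subgroup G}, L.Normal → Odd (Nat.card L) → ∀ x : G, orderOf x = 2 →
      x * t ∈ L → ∃ l ∈ L, l * t * l⁻¹ = x := by
    intro L hL hLodd x hx hxt
    obtain ⟨m, hm⟩ := hLodd
    have hpow : (x * t) ^ Nat.card L = 1 :=
      congrArg Subtype.val (pow_card_eq_one' (G := L) (x := ⟨x * t, hxt⟩))
    set l := (x * t) ^ (m + 1)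
    have hti : t * (x * t) * t⁻¹ = (x * t)⁻¹ := by
      rw [mul_inv_rev, htinv, inv_eq_of_mul_eq_one_right (mul_self_of_order_two hx), mul_assoc,
        mul_assoc, htt, mul_one]
    have htl : t * l⁻¹ * t⁻¹ = l := by
      rw [← conj_inv, ← conj_pow, hti, inv_pow, inv_inv]
    refine ⟨l, pow_mem hxt _, ?_⟩
    calc l * t * l⁻¹ = l * (t * l⁻¹ * t⁻¹) * t := by group
      _ = (x * t) ^ (Nat.card L) * (x * t) * t := by
          rw [htl, ← pow_add, ← pow_succ, hm]
          congr 2
          omega
      _ = x := by rw [hpow, one_mul, mul_assoc, htt, mul_one]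
  have conj_order : ∀ g : G, orderOf (g * t * g⁻¹) = 2 := fun g => by
    rw [← ht]; exact orderOf_injective (MulAut.conj g).toMonoidHom (MulAut.conj g).injective t
  haveI := hKn
  haveI hKs : Group.IsSolvable K := solvable_of_odd hK
  have hsurj : Function.Surjective ((QuotientGroup.mk' K).comp R.subtype) := by
    intro z
    obtain ⟨g, rfl⟩ := QuotientGroup.mk_surjective z
    obtain ⟨l, hl, he⟩ := conj_in hKn hK _ (conj_order g) (hall _ (conj_order g))
    refine ⟨⟨l⁻¹ * g, ?_⟩, ?_⟩
    · rw [hR, mem_centralizer_singleton_iff]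
      calc l⁻¹ * g * t = l⁻¹ * (g * t * g⁻¹) * g := by group
        _ = t * (l⁻¹ * g) := by rw [← he]; group
    · show ((l⁻¹ * g : G) : G ⧸ K) = (g : G ⧸ K)
      rw [QuotientGroup.mk_mul, QuotientGroup.mk_inv, (QuotientGroup.eq_one_iff l).2 hl, inv_one, one_mul]
  have hquot : ¬ Group.IsSolvable (G ⧸ K) := fun h =>
    hns ((Group.isSolvable_iff_subgroup_quotient K).2 ⟨hKs, h⟩)
  have hRns : ¬ Group.IsSolvable R := fun h =>
    hquot (Group.isSolvable_of_surjective hsurj)
  obtain ⟨D', -, -, hD', hDsol⟩ :=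
    CfsgLib.FTCons.PrimePowerClassTwo.exists_perfect_normal (⊤ : Subgroup R)
  set D := D'.map R.subtype with hDdef
  have hDR : D ≤ R := map_subtype_le _
  have hD : ⁅D, D⁆ = D := by rw [hDdef, ← map_commutator, hD']
  have hDne : D' ≠ ⊥ := fun h => hRns (by
    haveI := hDsol h
    exact Group.isSolvable_of_surjective (f := (topEquiv (G := R)).toMonoidHom) topEquiv.surjective)
  have htD : t ∈ D := by
    have hns' : ¬ Group.IsSolvable D' := fun h => by
      haveI := h
      have hlt := Group.IsSolvable.commutator_lt_of_ne_bot (G := D') (H := ⊤)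
        (fun e => hDne (by rw [← range_subtype D', MonoidHom.range_eq_map, e, Subgroup.map_bot]))
      refine hlt.ne (Subgroup.map_injective D'.subtype_injective ?_)
      rw [map_commutator, ← MonoidHom.range_eq_map, range_subtype, hD']
    obtain ⟨s', hs', hso⟩ := exists_involution_of_nonsolvable hns'
    set s : G := (s' : G)
    have hsD : s ∈ D := ⟨s', hs', rfl⟩
    have hso' : orderOf s = 2 := by rw [← hso]; exact orderOf_coe s'
    have hst : s * t = t * s := mem_centralizer_singleton_iff.1 (hDR hsD)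
    have h1 : s * t ∈ K := hall s hso'
    by_contra htn
    have hne : s * t ≠ 1 := fun e => htn (by
      rw [show t = s⁻¹ from eq_inv_of_mul_eq_one_right e]; exact inv_mem hsD)
    refine not_mem_odd hK (order_two_of hne ?_) h1
    calc s * t * (s * t) = s * (t * s) * t := by group
      _ = s * (s * t) * t := by rw [hst]
      _ = 1 := by rw [← mul_assoc, mul_self_of_order_two hso', one_mul, htt]
  by_cases hKb : K = ⊥
  · have hRtop : R = ⊤ := by
      rw [eq_top_iff]
      intro g _
      have h1 := hall _ (conj_order g)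
      rw [hKb, mem_bot] at h1
      rw [hR, mem_centralizer_singleton_iff]
      have h2 : g * t * g⁻¹ = t := (eq_inv_of_mul_eq_one_left h1).trans htinv
      exact mul_inv_eq_iff_eq_mul.1 h2
    have hk0 : k = 0 := by
      rw [hRtop, index_top] at hidx
      rcases Nat.eq_zero_or_pos k with h | h
      · exact h
      · exact absurd hidx.symm (Nat.one_lt_pow h.ne' hp.one_lt).ne'
    subst hk0
    exact ⟨by simp, by norm_num⟩
  obtain ⟨V, hV, hVK⟩ := CfsgLib.MinNormal.exists_isMinNormal_le hKn hKb
  haveI := hV.1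
  haveI : Group.IsSolvable V :=
    Group.isSolvable_of_isSolvable_injective (Subgroup.inclusion_injective hVK)
  have hab : IsMulCommutative V := by
    refine (commutator_eq_bot_iff_le_centralizer (H₁ := V) (H₂ := V)).1 ?_ |>
      fun hle => ⟨⟨fun a b => Subtype.ext (mem_centralizer_iff.1 (hle b.2) a a.2)⟩⟩
    rcases hV.2.2 ⁅V, V⁆ inferInstance (commutator_le_left V V) with hb | hb
    · exact hb
    · exfalso
      have hlt := Group.IsSolvable.commutator_lt_of_ne_bot (G := V) (H := ⊤)
        (fun e => hV.2.1 (by rw [← range_subtype V, MonoidHom.range_eq_map, e, Subgroup.map_bot]))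
      refine hlt.ne (Subgroup.map_injective V.subtype_injective ?_)
      rw [map_commutator, ← MonoidHom.range_eq_map, range_subtype, hb]
  obtain ⟨q, hq, hel, -, i, hi, hVcard⟩ := hV.exists_prime_elementaryAbelian hab
  have hVodd : Odd (Nat.card V) := hK.of_dvd_nat (card_dvd_of_le hVK)
  have hq2 : q ≠ 2 := fun h => by
    subst h
    rw [hVcard] at hVodd
    exact (Nat.not_even_iff_odd.2 hVodd) (even_two.pow_of_ne_zero (by omega))
  haveI := Fact.mk hq
  have hVc : ∀ {a b : G}, a ∈ V → b ∈ V → a * b = b * a := fun ha hb =>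
    congrArg Subtype.val (hab.is_comm.comm ⟨_, ha⟩ ⟨_, hb⟩)
  let I : Subgroup G :=
    { carrier := {v | v ∈ V ∧ t * v * t⁻¹ = v⁻¹}
      one_mem' := ⟨one_mem _, by simp⟩
      mul_mem' := fun {a b} ha hb => ⟨mul_mem ha.1 hb.1, by
        rw [mul_inv_rev, ← hVc (inv_mem ha.1) (inv_mem hb.1), ← ha.2, ← hb.2]; group⟩
      inv_mem' := fun {a} ha => ⟨inv_mem ha.1, by
        rw [← conj_inv, ha.2]⟩ }
  have hIV : I ≤ V := fun v hv => hv.1
  have hIab : IsMulCommutative I := ⟨⟨fun a b => Subtype.ext (hVc (hIV a.2) (hIV b.2))⟩⟩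
  obtain ⟨⟨m, hIm⟩, hI9⟩ := inverted_order (I := I) hq2 hIab (fun v hv => hel.2 v (hIV hv)) hD
    (fun d hd v hv => ⟨hV.1.conj_mem v hv.1 d, by
      have hdt : d * t = t * d := mem_centralizer_singleton_iff.1 (hDR hd)
      calc t * (d * v * d⁻¹) * t⁻¹ = (t * d) * v * (t * d)⁻¹ := by group
        _ = d * (t * v * t⁻¹) * d⁻¹ := by rw [← hdt]; group
        _ = (d * v * d⁻¹)⁻¹ := by rw [hv.2]; group⟩)
    htD (fun v hv => hv.2)
  -- passage to the quotient
  set ψ := QuotientGroup.mk' V
  have hto : orderOf (t : G ⧸ V) = 2 := orderOf_mk_two V hVodd ht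
  set P := (centralizer ({(t : G ⧸ V)} : Set (G ⧸ V))).comap ψ with hP
  have hRP : R ≤ P := fun g hg => by
    rw [hP, mem_comap, mem_centralizer_singleton_iff]
    show (g : G ⧸ V) * (t : G ⧸ V) = (t : G ⧸ V) * (g : G ⧸ V)
    rw [← QuotientGroup.mk_mul, ← QuotientGroup.mk_mul, mem_centralizer_singleton_iff.1 hg]
  have hPidx : P.index = (centralizer ({(t : G ⧸ V)} : Set (G ⧸ V))).index :=
    index_comap_of_surjective _ (QuotientGroup.mk'_surjective V)
  -- the map `v ↦ [t, v]`
  let δ : V →* G :=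
    { toFun := fun v => t * v * t⁻¹ * (v : G)⁻¹
      map_one' := by simp
      map_mul' := fun a b => by
        have hc := hVc (inv_mem a.2) (mul_mem (mul_mem (hV.1.conj_mem _ b.2 t) (one_mem V)) (inv_mem b.2))
        simp only [coe_mul, mul_inv_rev, mul_one] at hc ⊢
        calc t * (↑a * ↑b) * t⁻¹ * ((b : G)⁻¹ * (a : G)⁻¹) =
            t * ↑a * t⁻¹ * ((t * ↑b * t⁻¹ * (b : G)⁻¹) * (a : G)⁻¹) := by group
          _ = t * ↑a * t⁻¹ * (↑a)⁻¹ * (t * ↑b * t⁻¹ * (↑b)⁻¹) := by rw [← hc]; group }
  have hrange : δ.range = I := by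
    refine le_antisymm ?_ fun v hv => ?_
    · rintro _ ⟨v, rfl⟩
      refine ⟨mul_mem (hV.1.conj_mem _ v.2 t) (inv_mem v.2), ?_⟩
      show t * (t * v * t⁻¹ * (v : G)⁻¹) * t⁻¹ = (t * v * t⁻¹ * (v : G)⁻¹)⁻¹
      calc t * (t * v * t⁻¹ * (v : G)⁻¹) * t⁻¹
          = (t * t) * v * (t * t)⁻¹ * (t * (v : G)⁻¹ * t⁻¹) := by group
        _ = (t * v * t⁻¹ * (v : G)⁻¹)⁻¹ := by rw [htt]; group
    · obtain ⟨a, ha⟩ := hVodd.of_dvd_nat (card_dvd_of_le hIV)
      refine ⟨⟨v ^ a, pow_mem hv.1 a⟩, ?_⟩
      show t * v ^ a * t⁻¹ * (v ^ a)⁻¹ = v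
      rw [← conj_pow, hv.2, ← inv_pow, ← pow_add, inv_pow, inv_eq_iff_mul_eq_one, ← pow_succ]
      rw [show a + a + 1 = 2 * a + 1 by omega, ← ha]
      exact congrArg Subtype.val (pow_card_eq_one' (G := I) (x := ⟨v, hv⟩))
  have hker : Nat.card δ.ker = Nat.card (V ⊓ R : Subgroup G) := by
    refine Nat.card_congr
      ⟨fun v => ⟨(v.1 : G), v.1.2, ?_⟩, fun v => ⟨⟨(v : G), v.2.1⟩, ?_⟩, fun v => rfl, fun v => rfl⟩
    · have h : t * (v.1 : G) * t⁻¹ * (v.1 : G)⁻¹ = 1 := v.2
      show (v.1 : G) ∈ R
      rw [hR, mem_centralizer_singleton_iff]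
      exact (mul_inv_eq_iff_eq_mul.1 (mul_inv_eq_one.1 h)).symm
    · show t * (v : G) * t⁻¹ * (v : G)⁻¹ = 1
      rw [← mem_centralizer_singleton_iff.1 v.2.2]; group
  have hVcard' : Nat.card I * Nat.card (V ⊓ R : Subgroup G) = Nat.card V := by
    rw [← hker, ← hrange, ← Subgroup.card_mul_index δ.ker, index_ker, mul_comm]
  -- the preimage of the centraliser
  have hrel : R.relIndex P = Nat.card I := by
    have hVP : V ≤ P := fun v hv => by
      rw [hP, mem_comap, show ψ v = 1 from (QuotientGroup.eq_one_iff v).2 hv]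
      exact one_mem _
    have hPle : P ≤ R ⊔ V := by
      intro g hg
      rw [hP, mem_comap, mem_centralizer_singleton_iff] at hg
      change (g : G ⧸ V) * (t : G ⧸ V) = (t : G ⧸ V) * (g : G ⧸ V) at hg
      have hmem : g * t * g⁻¹ * t ∈ V := by
        rw [← QuotientGroup.eq_one_iff, QuotientGroup.mk_mul, QuotientGroup.mk_mul,
          QuotientGroup.mk_mul, hg, QuotientGroup.mk_inv, mul_inv_cancel_right, ← QuotientGroup.mk_mul,
          htt, QuotientGroup.mk_one]
      obtain ⟨l, hl, he⟩ := conj_in hV.1 hVodd _ (conj_order g) hmem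
      have hlg : l⁻¹ * g ∈ R := by
        rw [hR, mem_centralizer_singleton_iff]
        calc l⁻¹ * g * t = l⁻¹ * (g * t * g⁻¹) * g := by group
          _ = t * (l⁻¹ * g) := by rw [← he]; group
      have : g = l * (l⁻¹ * g) := by group
      rw [this]
      exact mul_mem (mem_sup_right hl) (mem_sup_left hlg)
    have hPeq : P = R ⊔ V := le_antisymm hPle (sup_le hRP hVP)
    have h2 : (V ⊓ R).relIndex V * Nat.card (V ⊓ R : Subgroup G) = Nat.card V := by
      rw [Subgroup.relIndex, ← Nat.card_congr (subgroupOfEquivOfLe (inf_le_left : V ⊓ R ≤ V)).toEquiv,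
        index_mul_card]
    rw [inf_relIndex_left] at h2
    have hpos : 0 < Nat.card (V ⊓ R : Subgroup G) := Nat.card_pos
    have key : ∀ {A B : Subgroup G}, A ≤ B → A.relIndex B * Nat.card A = Nat.card B := fun {A B} h => by
      rw [← relIndex_bot_left A, ← relIndex_bot_left B, mul_comm]
      exact relIndex_mul_relIndex ⊥ A B bot_le h
    have e1 := key (le_sup_left : R ≤ R ⊔ V)
    have e2 := key (le_sup_right : V ≤ R ⊔ V)
    have e3 := key (inf_le_right : V ⊓ R ≤ R)
    rw [relIndex_sup_right] at e2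
    rw [inf_relIndex_right] at e3
    rw [hPeq]
    refine Nat.eq_of_mul_eq_mul_right hpos ?_
    rw [hVcard']
    refine Nat.eq_of_mul_eq_mul_left (Nat.pos_of_ne_zero (index_ne_zero_of_finite : (V.subgroupOf R).index ≠ 0)) ?_
    show V.relIndex R * _ = V.relIndex R * _
    rw [e2, ← e1, ← e3]; ring
  have hsplit := relIndex_mul_index hRP
  rw [hrel, hPidx, hidx] at hsplit
  obtain ⟨k', -, hk'⟩ := (Nat.dvd_prime_pow hp).1 (Dvd.intro_left _ hsplit)
  obtain ⟨k'', -, hk''⟩ := (Nat.dvd_prime_pow hp).1 (Dvd.intro _ hsplit)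
  have hlt : Nat.card (G ⧸ V) < n := by
    have h1 : V.index * Nat.card V = n := hn ▸ V.index_mul_card
    have h2 : 1 < Nat.card V := by rw [hVcard]; exact Nat.one_lt_pow (by omega) hq.one_lt
    have h3 : 0 < V.index := Nat.pos_of_ne_zero index_ne_zero_of_finite
    rw [← Subgroup.index_eq_card, ← h1]
    exact lt_mul_of_one_lt_right h3 h2
  obtain ⟨heven', h9'⟩ := ih _ hlt (G ⧸ V) rfl (K.map ψ) (hKn.map _ (QuotientGroup.mk'_surjective V))
    (hK.of_dvd_nat (card_map_dvd K ψ))
    (fun h => hns ((Group.isSolvable_iff_subgroup_quotient V).2 ⟨inferInstance, h⟩)) _ hto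
    (fun x hx => by
      obtain ⟨y, hy, rfl⟩ := exists_lift_involution V hVodd hx
      exact ⟨y * t, hall y hy, rfl⟩) p k' hp hk'
  have hk : k = k'' + k' := by
    refine Nat.pow_right_injective hp.two_le (?_ : p ^ k = p ^ (k'' + k'))
    rw [← hsplit, hk', hk'', pow_add]
  have hk''even : Even k'' := by
    rcases Nat.eq_zero_or_pos m with rfl | hm
    · rw [hIm, mul_zero, pow_zero] at hk''
      rcases Nat.eq_zero_or_pos k'' with h | h
      · rw [h]; simp
      · exact absurd hk''.symm (Nat.one_lt_pow h.ne' hp.one_lt).ne'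
    · have hqp : q = p := (Nat.prime_dvd_prime_iff_eq hq hp).1
        (hq.dvd_of_dvd_pow (n := k'') (by rw [← hk'', hIm]; exact dvd_pow_self q (by omega)))
      subst hqp
      rw [hIm] at hk''
      rw [← Nat.pow_right_injective hp.two_le hk'']
      exact even_two_mul m
  refine ⟨hk ▸ hk''even.add heven', fun h => ?_⟩
  have hp3 : p = 3 ∧ k = 2 := by
    have hk0 : k ≠ 0 := fun e => by rw [e, pow_zero] at h; omega
    have h3 : p = 3 := (Nat.prime_dvd_prime_iff_eq hp Nat.prime_three).1
      (hp.dvd_of_dvd_pow (n := 2) (by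
        have := dvd_pow_self p hk0; rw [h] at this; exact this))
    exact ⟨h3, Nat.pow_right_injective hp.two_le (by show p ^ k = p ^ 2; rw [h, h3])⟩
  obtain ⟨rfl, rfl⟩ := hp3
  obtain ⟨a, rfl⟩ := hk''even
  obtain ⟨b, rfl⟩ := heven'
  rcases (show (a = 0 ∧ b = 1) ∨ (a = 1 ∧ b = 0) by omega) with ⟨rfl, rfl⟩ | ⟨rfl, rfl⟩
  · exact h9' rfl
  · exact hI9 hk''

/-- If the odd core quotient of a nonsolvable group has a single involution, a prime power number of
involutions has even exponent and differs from nine. -/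
theorem parity {G : Type*} [Group G] [Finite G] {K : Subgroup G} (hKn : K.Normal)
    (hK : Odd (Nat.card K)) (hns : ¬ Group.IsSolvable G) (h : OneClass G) {t : G}
    (ht : orderOf t = 2) (hall : ∀ x : G, orderOf x = 2 → x * t ∈ K) {p k : ℕ} (hp : p.Prime)
    (hc : Nat.card {x : G // orderOf x = 2} = p ^ k) : Even k ∧ p ^ k ≠ 9 :=
  parity_of_card _ G rfl K hKn hK hns t ht hall p k hp
    (by rw [← card_involutions_eq_index h ht, hc])

end CfsgLib.Pyramidal74
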