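import Mathlib

/-!
The signed count of a quadratic sign function on a finite group.
-/

set_option autoImplicit false

namespace CfsgLib.Pyramidal74

variable {R : Type*} [Group R]

/-- A sign function whose polarisation is bimultiplicative. -/
structure QuadSign (R : Type*) [Group R] where
  /-- The function. -/
  val : R → ℤ
  val_sq : ∀ x, val x = 1 ∨ val x = -1
  polar_mul : ∀ u v w, val (u * v * w) * val (u * v) * val w =
    (val (u * w) * val u * val w) * (val (v * w) * val v * val w)
  polar_comm : ∀ u w, val (u * w) = val (w * u)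

namespace QuadSign

variable (s : QuadSign R)

theorem val_mul_self (x : R) : s.val x * s.val x = 1 := by
  rcases s.val_sq x with h | h <;> simp [h]

/-- The polarisation. -/
def polar (u w : R) : ℤ := s.val (u * w) * s.val u * s.val w

theorem polar_mul_left (u v w : R) : s.polar (u * v) w = s.polar u w * s.polar v w := s.polar_mul u v w

theorem polar_symm (u w : R) : s.polar u w = s.polar w u := by
  unfold polar; rw [s.polar_comm u w]; ring

theorem val_mul (u w : R) : s.val (u * w) = s.val u * s.val w * s.polar u w := by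
  unfold polar
  calc s.val (u * w) = (s.val u * s.val u) * (s.val w * s.val w) * s.val (u * w) := by
        rw [val_mul_self, val_mul_self, one_mul, one_mul]
    _ = _ := by ring

theorem polar_one_left (w : R) : s.polar 1 w = 1 := by
  have hsq : s.polar 1 w * s.polar 1 w = 1 := by
    unfold polar
    calc _ = (s.val (1 * w) * s.val (1 * w)) * (s.val 1 * s.val 1) * (s.val w * s.val w) := by ring
      _ = 1 := by simp only [val_mul_self, mul_one]
  have h := s.polar_mul_left 1 1 w
  rw [one_mul, hsq] at h
  exact h

theorem polar_inv_left (u w : R) (h : s.polar u w = 1) : s.polar u⁻¹ w = 1 := by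
  have := s.polar_mul_left u⁻¹ u w
  rw [inv_mul_cancel, polar_one_left, h, mul_one] at this
  exact this.symm

/-- The orthogonal of a set. -/
def perp (U : Set R) : Subgroup R where
  carrier := {v | ∀ u ∈ U, s.polar v u = 1}
  one_mem' := fun u _ => s.polar_one_left u
  mul_mem' := fun {a b} ha hb u hu => by rw [polar_mul_left, ha u hu, hb u hu, mul_one]
  inv_mem' := fun {a} ha u hu => s.polar_inv_left a u (ha u hu)

theorem mem_perp {U : Set R} {v : R} : v ∈ s.perp U ↔ ∀ u ∈ U, s.polar v u = 1 := Iff.rfl

/-- The radical. -/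
def rad : Subgroup R := s.perp Set.univ

theorem mem_rad {v : R} : v ∈ s.rad ↔ ∀ u, s.polar v u = 1 :=
  ⟨fun h u => h u trivial, fun h u _ => h u⟩

variable [Finite R]

/-- The signed count. -/
noncomputable def total : ℤ := ∑ᶠ x, s.val x

open scoped Classical in
theorem sum_polar [Fintype R] (U : Subgroup R) (v : R) :
    ∑ u ∈ Finset.univ.filter (· ∈ U), s.polar v u =
      if ∀ u ∈ U, s.polar v u = 1 then (Nat.card U : ℤ) else 0 := by
  split_ifs with h
  · rw [Finset.sum_congr rfl (fun u hu => h u (Finset.mem_filter.1 hu).2), Finset.sum_const,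
      Nat.card_eq_fintype_card, Fintype.card_subtype]
    simp
  · push Not at h
    obtain ⟨u₀, hu₀, hne⟩ := h
    have h1 : s.polar v u₀ = -1 := by
      unfold polar at hne ⊢
      rcases s.val_sq (v * u₀) with a | a <;> rcases s.val_sq v with b | b <;>
        rcases s.val_sq u₀ with c | c <;> simp_all
    have key : ∑ u ∈ Finset.univ.filter (· ∈ U), s.polar v (u₀ * u) =
        ∑ u ∈ Finset.univ.filter (· ∈ U), s.polar v u := by
      refine Finset.sum_bij' (fun u _ => u₀ * u) (fun u _ => u₀⁻¹ * u) ?_ ?_ ?_ ?_ ?_
      · intro u hu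
        simp only [Finset.mem_filter, Finset.mem_univ, true_and] at hu ⊢
        exact mul_mem hu₀ hu
      · intro u hu
        simp only [Finset.mem_filter, Finset.mem_univ, true_and] at hu ⊢
        exact mul_mem (inv_mem hu₀) hu
      · intro u _; group
      · intro u _; group
      · intro u _; rfl
    have h2 : ∀ u, s.polar v (u₀ * u) = -s.polar v u := fun u => by
      rw [polar_symm, polar_mul_left, polar_symm s u₀, h1, polar_symm s u]; ring
    rw [Finset.sum_congr rfl (fun u _ => h2 u), Finset.sum_neg_distrib] at key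
    omega

open scoped Classical in
theorem sum_polar_univ [Fintype R] (v : R) :
    ∑ u, s.polar v u = if v ∈ s.rad then (Nat.card R : ℤ) else 0 := by
  have hcard : Nat.card (⊤ : Subgroup R) = Nat.card R := Subgroup.card_top
  have h := sum_polar s ⊤ v
  rw [hcard, Finset.filter_true_of_mem (fun u _ => Subgroup.mem_top u)] at h
  rw [h]
  exact if_congr ⟨fun h' => s.mem_rad.2 fun u => h' u (Subgroup.mem_top u),
    fun h' u _ => s.mem_rad.1 h' u⟩ rfl rfl

open scoped Classical in
/-- On a subgroup where the function is one, the count reduces to its orthogonal. -/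
theorem total_eq_perp [Fintype R] (U : Subgroup R) (hU : ∀ u ∈ U, s.val u = 1) :
    s.total = ∑ v ∈ Finset.univ.filter (· ∈ s.perp U), s.val v := by
  have hpos : (Nat.card U : ℤ) ≠ 0 := by exact_mod_cast Nat.card_pos.ne'
  refine mul_left_cancel₀ hpos ?_
  rw [total, finsum_eq_sum_of_fintype, Finset.mul_sum]
  calc ∑ x, (Nat.card U : ℤ) * s.val x
      = ∑ x, ∑ _u ∈ Finset.univ.filter (· ∈ U), s.val x := by
        refine Finset.sum_congr rfl fun x _ => ?_
        rw [Finset.sum_const, Nat.card_eq_fintype_card, Fintype.card_subtype]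
        simp
    _ = ∑ u ∈ Finset.univ.filter (· ∈ U), ∑ x, s.val x := Finset.sum_comm
    _ = ∑ u ∈ Finset.univ.filter (· ∈ U), ∑ x, s.val (x * u) := by
        refine Finset.sum_congr rfl fun u _ => (Equiv.sum_comp (Equiv.mulRight u) s.val).symm
    _ = ∑ x, s.val x * ∑ u ∈ Finset.univ.filter (· ∈ U), s.polar x u := by
        rw [Finset.sum_comm]
        refine Finset.sum_congr rfl fun x _ => ?_
        rw [Finset.mul_sum]
        refine Finset.sum_congr rfl fun u hu => ?_
        rw [val_mul, hU u (Finset.mem_filter.1 hu).2, mul_one]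
    _ = _ := by
        rw [Finset.mul_sum, Finset.sum_filter]
        refine Finset.sum_congr rfl fun x _ => ?_
        rw [sum_polar]
        by_cases h : x ∈ s.perp U
        · have h' : ∀ u ∈ U, s.polar x u = 1 := s.mem_perp.1 h
          rw [if_pos h, if_pos h']; ring
        · have h' : ¬ ∀ u ∈ U, s.polar x u = 1 := fun hh => h (s.mem_perp.2 hh)
          rw [if_neg h, if_neg h']; ring

open scoped Classical in
/-- The product of the orders of a subgroup and its orthogonal. -/
theorem card_mul_card_perp [Fintype R] (U : Subgroup R) :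
    Nat.card U * Nat.card (s.perp U) = Nat.card R * Nat.card (s.rad ⊓ U : Subgroup R) := by
  have h1 : ∑ v, ∑ u ∈ Finset.univ.filter (· ∈ U), s.polar v u =
      (Nat.card U : ℤ) * Nat.card (s.perp U) := by
    rw [Finset.sum_congr rfl (fun v _ => sum_polar s U v), ← Finset.sum_filter, Finset.sum_const]
    rw [Nat.card_eq_fintype_card (α := s.perp U), Fintype.card_subtype]
    simp only [nsmul_eq_mul, mem_perp, SetLike.mem_coe]
    rw [mul_comm]
  have h2 : ∑ v, ∑ u ∈ Finset.univ.filter (· ∈ U), s.polar v u =
      (Nat.card R : ℤ) * Nat.card (s.rad ⊓ U : Subgroup R) := by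
    rw [Finset.sum_comm]
    have h3 : ∀ u, ∑ v, s.polar v u = if u ∈ s.rad then (Nat.card R : ℤ) else 0 := fun u => by
      rw [Finset.sum_congr rfl (fun v _ => polar_symm s v u), sum_polar_univ]
    rw [Finset.sum_congr rfl (fun u _ => h3 u), ← Finset.sum_filter, Finset.filter_filter,
      Finset.sum_const]
    rw [Nat.card_eq_fintype_card (α := (s.rad ⊓ U : Subgroup R)), Fintype.card_subtype]
    simp only [nsmul_eq_mul, Subgroup.mem_inf]
    rw [mul_comm]
    simp only [and_comm]
  exact_mod_cast h1.symm.trans h2

open scoped Classical in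
/-- The square of a non-vanishing count. -/
theorem total_sq (h : s.total ≠ 0) : s.total ^ 2 = (Nat.card R : ℤ) * Nat.card s.rad := by
  haveI := Fintype.ofFinite R
  have h1 : s.total ^ 2 = (Nat.card R : ℤ) * ∑ w ∈ Finset.univ.filter (· ∈ s.rad), s.val w := by
    rw [total, finsum_eq_sum_of_fintype, pow_two, Finset.sum_mul_sum]
    calc ∑ u, ∑ v, s.val u * s.val v
        = ∑ u, ∑ w, s.val u * s.val (u * w) :=
          Finset.sum_congr rfl fun u _ => (Equiv.sum_comp (Equiv.mulLeft u) fun v => s.val u * s.val v).symm
      _ = ∑ w, s.val w * ∑ u, s.polar w u := by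
          rw [Finset.sum_comm]
          refine Finset.sum_congr rfl fun w _ => ?_
          rw [Finset.mul_sum]
          refine Finset.sum_congr rfl fun u _ => ?_
          rw [val_mul, polar_symm s w u, mul_assoc (s.val u) (s.val w), ← mul_assoc, val_mul_self, one_mul]
      _ = _ := by
          rw [Finset.mul_sum, Finset.sum_filter]
          refine Finset.sum_congr rfl fun w _ => ?_
          rw [sum_polar_univ]
          by_cases hw : w ∈ s.rad
          · rw [if_pos hw, if_pos hw]; ring
          · rw [if_neg hw, if_neg hw]; ring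
  have hall : ∀ w ∈ s.rad, s.val w = 1 := by
    by_contra hne
    push Not at hne
    obtain ⟨w₀, hw₀, hne⟩ := hne
    have hv : s.val w₀ = -1 := (s.val_sq w₀).resolve_left hne
    have hz : ∑ w ∈ Finset.univ.filter (· ∈ s.rad), s.val w = 0 := by
      have key : ∑ w ∈ Finset.univ.filter (· ∈ s.rad), s.val (w₀ * w) =
          ∑ w ∈ Finset.univ.filter (· ∈ s.rad), s.val w := by
        refine Finset.sum_bij' (fun u _ => w₀ * u) (fun u _ => w₀⁻¹ * u) ?_ ?_ ?_ ?_ ?_
        · intro u hu
          simp only [Finset.mem_filter, Finset.mem_univ, true_and] at hu ⊢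
          exact mul_mem hw₀ hu
        · intro u hu
          simp only [Finset.mem_filter, Finset.mem_univ, true_and] at hu ⊢
          exact mul_mem (inv_mem hw₀) hu
        · intro u _; group
        · intro u _; group
        · intro u _; rfl
      have h2 : ∀ w ∈ Finset.univ.filter (· ∈ s.rad), s.val (w₀ * w) = -s.val w := fun w _ => by
        rw [val_mul, hv, s.mem_rad.1 hw₀ w]; ring
      rw [Finset.sum_congr rfl h2, Finset.sum_neg_distrib] at key
      omega
    rw [hz, mul_zero] at h1
    exact h (pow_eq_zero_iff two_ne_zero |>.1 h1)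
  rw [h1, Finset.sum_congr rfl (fun w hw => hall w (Finset.mem_filter.1 hw).2), Finset.sum_const,
    Nat.card_eq_fintype_card (α := s.rad), Fintype.card_subtype]
  simp

/-- No large subgroup on which the function is one, if the count is negative. -/
theorem false_of_singular (U : Subgroup R) (hU : ∀ u ∈ U, s.val u = 1) (hrad : s.rad ≤ U)
    (hneg : s.total < 0) (hbig : Nat.card R * Nat.card s.rad ≤ Nat.card U * Nat.card U) : False := by
  classical
  haveI := Fintype.ofFinite R
  have hle : U ≤ s.perp U := fun v hv u hu => by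
    unfold polar
    rw [hU v hv, hU u hu, hU _ (mul_mem hv hu)]; norm_num
  have hc := card_mul_card_perp s U
  rw [inf_eq_left.2 hrad] at hc
  have heq : U = s.perp U := by
    refine Subgroup.eq_of_le_of_card_ge hle ?_
    refine Nat.le_of_mul_le_mul_left ?_ (Nat.card_pos (α := U))
    rw [hc]; exact hbig
  rw [total_eq_perp s U hU, ← heq] at hneg
  rw [Finset.sum_congr rfl (fun w hw => hU w (Finset.mem_filter.1 hw).2), Finset.sum_const] at hneg
  simp only [nsmul_eq_mul, mul_one] at hneg
  omega

end QuadSign

end CfsgLib.Pyramidal74
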