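import Cfsg.Agent.Lib.Pyramidal74.Full

/-!
An abelian Sylow subgroup of the kernel gives an involution outside the elementary subgroup, provided
an automorphism of odd order fixes exactly a plane.
-/

set_option autoImplicit false
set_option linter.style.haveILetI false
set_option linter.unusedSectionVars false

namespace CfsgLib.Pyramidal74

open Subgroup

variable {G : Type*} [Group G] [Finite G] {N : Subgroup G} {p r : ℕ}

theorem Full.false_of_pair {S : Subgroup G} (f : Full N S) (h : Hyp N p r) (hab : IsMulCommutative S)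
    (c t : MulAut N) {m : ℕ} (hm : Odd m) (hcm : c ^ m = 1) (hct : t * c = c * t) (ht : t * t = 1)
    (ht1 : t ≠ 1) (a₀ : N) (ha₀ : c a₀ = a₀)
    (hfix : ∀ a : N, c a = a → t a = a → a = 1 ∨ a = a₀ * t a₀) : False := by
  classical
  haveI := h.normal
  letI : CommGroup S := { (inferInstance : Group S) with mul_comm := hab.is_comm.comm }
  obtain ⟨z, hz, hzφ⟩ := f.induce (t * c)
  have hι : MulAut.conjNormal z = t * c := MulEquiv.ext fun n => Subtype.ext (by
    rw [MulAut.conjNormal_apply]; exact hzφ n)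
  obtain ⟨k, μ, hμ, e⟩ := exists_two_part (z := z)
  have hpow : (t * c) ^ (2 ^ k * μ) = 1 := by rw [← e, ← hι, ← map_pow, pow_orderOf_eq_one, map_one]
  have htc : Commute t c := hct
  have htpow : ∀ i, t ^ (2 * i) = 1 := fun i => by rw [pow_mul, pow_two, ht, one_pow]
  have hodd : ∀ {i}, Odd i → t ^ i = t := fun {i} ⟨j, hj⟩ => by rw [hj, pow_succ, htpow, one_mul]
  have hk : 1 ≤ k := by
    by_contra hk0
    have k0 : k = 0 := by omega
    subst k0
    rw [pow_zero, one_mul] at hpow
    have h2 := congrArg (· ^ m) hpow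
    simp only [one_pow, ← pow_mul] at h2
    rw [htc.mul_pow, hodd (hμ.mul hm), mul_comm μ m, pow_mul c, hcm, one_pow, mul_one] at h2
    exact ht1 h2
  have hcμ : c ^ μ = 1 := by
    rw [htc.mul_pow, show 2 ^ k * μ = 2 * (2 ^ (k - 1) * μ) by
      rw [← mul_assoc, ← pow_succ']; congr 2; omega, htpow, one_mul] at hpow
    have h2 : orderOf c ∣ Nat.gcd (m * μ) (2 * (2 ^ (k - 1) * μ)) :=
      Nat.dvd_gcd ((orderOf_dvd_of_pow_eq_one hcm).mul_right μ) (orderOf_dvd_of_pow_eq_one hpow)
    rw [← mul_assoc, Nat.gcd_mul_right, show Nat.gcd m (2 * 2 ^ (k - 1)) = 1 from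
      Nat.Coprime.mul_right ((Nat.prime_two.coprime_iff_not_dvd).2 fun hd =>
        (Nat.not_even_iff_odd.2 hm) (even_iff_two_dvd.2 hd)).symm
        (((Nat.prime_two.coprime_iff_not_dvd).2 fun hd =>
        (Nat.not_even_iff_odd.2 hm) (even_iff_two_dvd.2 hd)).symm.pow_right _), one_mul] at h2
    exact orderOf_dvd_iff_pow_eq_one.1 h2
  set y := z ^ μ with hy
  set w := z ^ 2 ^ k with hw
  have hyι : MulAut.conjNormal y = t := by rw [hy, map_pow, hι, htc.mul_pow, hodd hμ, hcμ, mul_one]
  have hwι : MulAut.conjNormal w = c ^ 2 ^ k := by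
    rw [hw, map_pow, hι, htc.mul_pow,
      show 2 ^ k = 2 * 2 ^ (k - 1) by rw [← pow_succ']; congr 1; omega, htpow, one_mul]
  have hyM : y ∈ normalizer (S : Set G) := pow_mem hz _
  have hwM : w ∈ normalizer (S : Set G) := pow_mem hz _
  have hyw : Commute y w := (Commute.refl z).pow_pow _ _
  set d := y * y with hd
  have hdS : d ∈ S := by
    refine f.mem_of_two h (mul_mem hyM hyM) (Full.mem_centralizer f h fun n hn => ?_) (i := k) ?_
    · have := congrArg (fun φ : MulAut N => ((φ ⟨n, hn⟩ : N) : G))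
        (show MulAut.conjNormal d = (1 : MulAut N) by rw [hd, map_mul, hyι, ht])
      simp only [MulAut.conjNormal_apply, MulAut.one_apply] at this
      exact this
    · rw [hd, ← pow_two, ← pow_mul, hy, ← pow_mul, show μ * (2 * 2 ^ k) = 2 ^ k * μ * 2 by ring, pow_mul,
        ← e, pow_orderOf_eq_one, one_pow]
  have hdy : Commute d y := (Commute.refl y).mul_left (Commute.refl y)
  have hdw : Commute d w := hyw.mul_left hyw
  set ψ := normalizerMonoidHom S ⟨w, hwM⟩ with hψ
  set σ := normalizerMonoidHom S ⟨y, hyM⟩ with hσ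
  have hψc : ∀ x : S, ((ψ x : S) : G) = w * x * w⁻¹ := fun _ => rfl
  have hσc : ∀ x : S, ((σ x : S) : G) = y * x * y⁻¹ := fun _ => rfl
  have hσσ : ∀ x : S, σ (σ x) = x := fun x => Subtype.ext (by
    rw [hσc, hσc]
    calc y * (y * x * y⁻¹) * y⁻¹ = d * x * d⁻¹ := by rw [hd]; group
      _ = x := by rw [congrArg Subtype.val (mul_comm (⟨d, hdS⟩ : S) x) |> fun e : d * x = x * d => e,
        mul_inv_cancel_right])
  have hσψ : ∀ x : S, ψ (σ x) = σ (ψ x) := fun x => Subtype.ext (by
    rw [hψc, hσc, hσc, hψc]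
    calc w * (y * x * y⁻¹) * w⁻¹ = (w * y) * x * (w * y)⁻¹ := by group
      _ = (y * w) * x * (y * w)⁻¹ := by rw [hyw.eq]
      _ = _ := by group)
  have hψμ : ψ ^ μ = 1 := by
    have e1 : (⟨w, hwM⟩ : normalizer (S : Set G)) ^ μ = 1 := Subtype.ext (by
      show w ^ μ = 1
      rw [hw, ← pow_mul, ← e, pow_orderOf_eq_one])
    rw [hψ, ← map_pow, e1, map_one]
  obtain ⟨ε, hexp, htop⟩ := f.exists_exponent h hab
  have claim : ∀ i, i ≤ ε + 1 → ∀ x : S, ψ x = x → σ x = x → x ^ 2 ^ i = 1 →
      ∃ u : S, u * σ u = x := by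
    intro i
    induction i with
    | zero => intro _ x _ _ hx; rw [pow_zero, pow_one] at hx; exact ⟨1, by rw [hx, map_one, one_mul]⟩
    | succ i ih =>
      intro hi x hψx hσx hx
      by_cases hw1 : x ^ 2 ^ i = 1
      · exact ih (by omega) x hψx hσx hw1
      have hwN : ((x ^ 2 ^ i : S) : G) ∈ N := h.mem_of_sq (by
        rw [← Subgroup.coe_mul, ← pow_two, ← pow_mul, ← pow_succ, hx]; rfl)
      let a : N := ⟨_, hwN⟩
      have hta : t a = a := Subtype.ext (by
        rw [← hyι, MulAut.conjNormal_apply]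
        have := congrArg (fun s : S => (s : G)) (show σ (x ^ 2 ^ i) = x ^ 2 ^ i by rw [map_pow, hσx])
        exact this)
      have hca : c a = a := by
        have h1 : (c ^ 2 ^ k) a = a := Subtype.ext (by
          rw [← hwι, MulAut.conjNormal_apply]
          exact congrArg (fun s : S => (s : G)) (show ψ (x ^ 2 ^ i) = x ^ 2 ^ i by rw [map_pow, hψx]))
        let π : MulAut N →* Equiv.Perm N :=
          { toFun := fun φ => φ.toEquiv
            map_one' := rfl
            map_mul' := fun _ _ => rfl }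
        exact pow_eq_self_of_pow_fixed (φ := π c) hm (by rw [← map_pow, hcm, map_one]) (k := k)
          (by rw [← map_pow]; exact h1)
      rcases hfix a hca hta with ha | ha
      · exact absurd (Subtype.ext (show ((x ^ 2 ^ i : S) : G) = 1 from congrArg (fun b : N => (b : G)) ha)) hw1
      -- lift `a₀` to a fixed element of maximal order
      obtain ⟨v, hv, hve⟩ := htop a₀ a₀.2
      let v' : S := ⟨v, hv⟩
      set u₀ : S := ∏ j ∈ Finset.range μ, (ψ ^ j) v' with hu₀
      have hψu₀ : ψ u₀ = u₀ := by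
        rw [hu₀, map_prod]
        have h3 : ∀ j, ψ ((ψ ^ j) v') = (ψ ^ (j + 1)) v' := fun j => by rw [pow_succ']; rfl
        simp only [h3]
        have h4 := Finset.prod_range_succ' (fun j => (ψ ^ j) v') μ
        rw [Finset.prod_range_succ, hψμ, pow_zero] at h4
        exact (mul_right_cancel h4).symm
      have hu₀e : ((u₀ ^ 2 ^ ε : S) : G) = a₀ := by
        have h4 : ∀ j, (ψ ^ j) (v' ^ 2 ^ ε) = v' ^ 2 ^ ε := by
          intro j
          induction j with
          | zero => rfl
          | succ j ihj =>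
            rw [pow_succ', MulAut.mul_apply, ihj]
            apply Subtype.ext
            rw [hψc, SubgroupClass.coe_pow, show (v' : G) ^ 2 ^ ε = a₀ from hve]
            have h5 : (c ^ 2 ^ k) a₀ = a₀ := by
              have : ∀ i, (c ^ i) a₀ = a₀ := fun i => by
                induction i with
                | zero => rfl
                | succ i hi => rw [pow_succ, MulAut.mul_apply, ha₀, hi]
              exact this _
            rw [← hwι] at h5
            exact congrArg Subtype.val h5
        rw [hu₀, ← Finset.prod_pow, Finset.prod_congr rfl (fun j _ => (map_pow (ψ ^ j) v' _).symm.trans (h4 j)),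
          Finset.prod_const, Finset.card_range, SubgroupClass.coe_pow, SubgroupClass.coe_pow,
          show (v' : G) ^ 2 ^ ε = a₀ from hve]
        obtain ⟨j, hj⟩ := hμ
        rw [hj, pow_succ, pow_mul, pow_two, h.sq _ a₀.2, one_pow, one_mul]
      set u₁ : S := u₀ ^ 2 ^ (ε - i) with hu₁
      have hu₁ψ : ψ u₁ = u₁ := by rw [hu₁, map_pow, hψu₀]
      have hu₁e : (u₁ * σ u₁) ^ 2 ^ i = x ^ 2 ^ i := by
        have h6 : u₁ ^ 2 ^ i = u₀ ^ 2 ^ ε := by
          rw [hu₁, ← pow_mul, ← pow_add]; congr 2; omega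
        apply Subtype.ext
        rw [mul_pow, ← map_pow, h6, Subgroup.coe_mul, hσc, hu₀e, show ((x ^ 2 ^ i : S) : G) = (a : G) from rfl,
          ha, Subgroup.coe_mul, ← hyι, MulAut.conjNormal_apply]
      obtain ⟨u, hu⟩ := ih (by omega) (x * (u₁ * σ u₁)⁻¹)
        (by rw [map_mul, map_inv, map_mul, hσψ, hψx, hu₁ψ])
        (by rw [map_mul, map_inv, map_mul, hσx, hσσ, mul_comm (σ u₁) u₁])
        (by rw [mul_pow, inv_pow, hu₁e, mul_inv_cancel])
      refine ⟨u * u₁, ?_⟩
      rw [map_mul, mul_mul_mul_comm, hu, inv_mul_cancel_right]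
  obtain ⟨u, hu⟩ := claim (ε + 1) le_rfl (⟨d, hdS⟩⁻¹ : S)
    (by rw [map_inv]; exact congrArg (·⁻¹) (Subtype.ext (by
      rw [hψc]; show w * d * w⁻¹ = d; rw [← hdw.eq, mul_inv_cancel_right])))
    (by rw [map_inv]; exact congrArg (·⁻¹) (Subtype.ext (by
      rw [hσc]; show y * d * y⁻¹ = d; rw [← hdy.eq, mul_inv_cancel_right])))
    (by rw [inv_pow, inv_eq_one]; exact Subtype.ext (hexp d hdS))
  have hu' : (u : G) * (y * u * y⁻¹) = d⁻¹ := by
    have := congrArg Subtype.val hu
    rwa [Subgroup.coe_mul, hσc] at this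
  have hinv : ((u : G) * y) * (u * y) = 1 := by
    calc (u : G) * y * (u * y) = (u * (y * u * y⁻¹)) * (y * y) := by group
      _ = 1 := by rw [hu', ← hd, inv_mul_cancel]
  have hN : (u : G) * y ∈ N := h.mem_of_sq hinv
  have hid : ∀ g ∈ centralizer (N : Set G), (MulAut.conjNormal g : MulAut N) = 1 := fun g hg =>
    MulEquiv.ext fun n => Subtype.ext (by
      rw [MulAut.conjNormal_apply, ← mem_centralizer_iff.1 hg n n.2, mul_inv_cancel_right, MulAut.one_apply])
  have := hid _ (h.le_centralizer hN)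
  rw [map_mul, hid _ (f.le_cent u.2), one_mul, hyι] at this
  exact ht1 this

end CfsgLib.Pyramidal74
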